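import Cfsg.Agent.Lib.McLRecog.NormalizerE

/-!
An automorphism of the normaliser of `E` inside the centraliser of `z` which is trivial on `E` and
modulo `E` is conjugation by an element of `E`.
-/

set_option autoImplicit false

namespace CfsgLib.McLRecog

open Equiv CfsgLib.AltDoubleCent CfsgLib.Classes.AltCoverComm

/-- The second linear map of order seven. -/
def sevenTv : Perm (Fin 8) := tv * seven * tv

/-- The product of a word in two letters. -/
def wordProd {M : Type*} [Monoid M] (a b : M) (w : List Bool) : M :=
  (w.map fun c => if c then b else a).prod

/-- An involution with a fixed point. -/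
def Good (σ : Perm (Fin 8)) : Prop := σ * σ = 1 ∧ σ ≠ 1 ∧ ∃ i, σ i = i

instance (σ : Perm (Fin 8)) : Decidable (Good σ) := by unfold Good; infer_instance

set_option maxRecDepth 100000 in
/-- Words in the two elements of order seven, one for each linear map. -/
def linWords : List (List Bool) :=
  [[],
    [false],
    [true],
    [false,false],
    [false,true],
    [true,false],
    [true,true],
    [false,false,false],
    [false,false,true],
    [false,true,false],
    [false,true,true],
    [true,false,false],
    [true,false,true],
    [true,true,false],
    [true,true,true],
    [false,false,false,false],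
    [false,false,false,true],
    [false,false,true,false],
    [false,false,true,true],
    [false,true,false,false],
    [false,true,true,false],
    [false,true,true,true],
    [true,false,false,false],
    [true,false,false,true],
    [true,false,true,true],
    [true,true,false,false],
    [true,true,false,true],
    [true,true,true,false],
    [true,true,true,true],
    [false,false,false,false,false],
    [false,false,false,false,true],
    [false,false,false,true,false],
    [false,false,false,true,true],
    [false,false,true,false,false],
    [false,false,true,true,false],
    [false,false,true,true,true],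
    [false,true,false,false,false],
    [false,true,false,false,true],
    [false,true,true,false,false],
    [false,true,true,false,true],
    [false,true,true,true,false],
    [false,true,true,true,true],
    [true,false,false,false,false],
    [true,false,false,true,false],
    [true,false,true,true,false],
    [true,false,true,true,true],
    [true,true,false,false,false],
    [true,true,false,true,true],
    [true,true,true,false,false],
    [true,true,true,false,true],
    [true,true,true,true,false],
    [true,true,true,true,true],
    [false,false,false,false,false,true],
    [false,false,false,false,true,false],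
    [false,false,false,false,true,true],
    [false,false,false,true,false,false],
    [false,false,false,true,true,false],
    [false,false,false,true,true,true],
    [false,false,true,false,false,false],
    [false,false,true,false,false,true],
    [false,false,true,true,false,false],
    [false,false,true,true,false,true],
    [false,false,true,true,true,false],
    [false,false,true,true,true,true],
    [false,true,false,false,false,false],
    [false,true,true,false,false,false],
    [false,true,true,false,true,true],
    [false,true,true,true,false,false],
    [false,true,true,true,false,true],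
    [false,true,true,true,true,false],
    [false,true,true,true,true,true],
    [true,false,false,false,false,false],
    [true,false,false,false,false,true],
    [true,false,false,true,false,false],
    [true,false,true,true,false,false],
    [true,false,true,true,true,false],
    [true,false,true,true,true,true],
    [true,true,false,false,false,false],
    [true,true,false,true,true,false],
    [true,true,false,true,true,true],
    [true,true,true,false,false,false],
    [true,true,true,false,true,true],
    [true,true,true,true,false,false],
    [true,true,true,true,false,true],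
    [true,true,true,true,true,false],
    [false,false,false,false,false,true,false],
    [false,false,false,false,false,true,true],
    [false,false,false,false,true,false,false],
    [false,false,false,false,true,true,false],
    [false,false,false,false,true,true,true],
    [false,false,false,true,false,false,false],
    [false,false,false,true,false,false,true],
    [false,false,false,true,true,false,false],
    [false,false,false,true,true,false,true],
    [false,false,false,true,true,true,false],
    [false,false,false,true,true,true,true],
    [false,false,true,false,false,false,false],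
    [false,false,true,true,false,false,false],
    [false,false,true,true,false,true,true],
    [false,false,true,true,true,false,false],
    [false,false,true,true,true,false,true],
    [false,false,true,true,true,true,true],
    [false,true,false,false,false,false,false],
    [false,true,false,false,false,false,true],
    [false,true,true,false,false,false,false],
    [false,true,true,false,true,true,false],
    [false,true,true,false,true,true,true],
    [false,true,true,true,false,false,false],
    [false,true,true,true,false,true,true],
    [false,true,true,true,true,false,true],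
    [false,true,true,true,true,true,false],
    [true,false,false,false,false,true,false],
    [true,false,false,true,false,false,false],
    [true,false,true,true,false,false,false],
    [true,false,true,true,true,false,false],
    [true,false,true,true,true,false,true],
    [true,false,true,true,true,true,false],
    [true,false,true,true,true,true,true],
    [true,true,false,false,false,false,false],
    [true,true,false,true,true,false,false],
    [true,true,false,true,true,true,false],
    [true,true,false,true,true,true,true],
    [true,true,true,false,false,false,false],
    [true,true,true,false,true,true,false],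
    [true,true,true,true,false,false,false],
    [true,true,true,true,false,true,true],
    [true,true,true,true,true,false,false],
    [true,true,true,true,true,false,true],
    [false,false,false,false,false,true,false,false],
    [false,false,false,false,false,true,true,false],
    [false,false,false,false,true,false,false,false],
    [false,false,false,false,true,true,false,false],
    [false,false,false,false,true,true,false,true],
    [false,false,false,false,true,true,true,false],
    [false,false,false,false,true,true,true,true],
    [false,false,false,true,false,false,false,false],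
    [false,false,false,true,true,false,true,true],
    [false,false,false,true,true,true,false,false],
    [false,false,true,false,false,false,false,false],
    [false,false,true,false,false,false,false,true],
    [false,false,true,true,false,false,false,false],
    [false,false,true,true,false,true,true,true],
    [false,false,true,true,true,false,false,false],
    [false,false,true,true,true,true,true,false],
    [false,true,false,false,false,false,true,false],
    [false,true,true,false,false,false,false,false],
    [false,true,true,false,true,true,true,false],
    [false,true,true,true,false,false,false,false],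
    [false,true,true,true,false,true,true,false],
    [false,true,true,true,true,false,true,true],
    [false,true,true,true,true,true,false,false],
    [false,true,true,true,true,true,false,true],
    [true,false,true,true,true,true,false,true],
    [true,false,true,true,true,true,true,false],
    [true,true,true,false,true,true,false,false],
    [true,true,true,true,false,false,false,false],
    [false,false,false,false,false,true,false,false,false],
    [false,false,false,false,false,true,true,false,false],
    [false,false,false,false,false,true,true,false,true],
    [false,false,false,false,true,true,true,false,false],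
    [false,false,false,true,false,false,false,false,false],
    [false,false,false,true,true,false,true,true,true],
    [false,false,true,false,false,false,false,true,false],
    [false,false,true,true,false,false,false,false,false],
    [false,false,true,true,false,true,true,true,false],
    [false,false,true,true,true,false,false,false,false],
    [false,true,true,true,false,true,true,false,false],
    [true,false,true,true,true,true,false,true,true]]

theorem sevenTv_facts : Perm.sign sevenTv = 1 ∧ seven ^ 7 = 1 ∧ sevenTv ^ 7 = 1 ∧
    seven 0 = 0 ∧ sevenTv 0 = 0 ∧ (∀ k, ∃ j, bx (bx j (seven j)) k = 0) ∧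
    ∀ k, sevenTv * tr k * sevenTv⁻¹ = tr (sevenTv k) := by
  refine ⟨?_, ?_, ?_, ?_, ?_, ?_, ?_⟩ <;> decide +kernel

theorem good_words : Good (wordProd seven sevenTv [false, true]) ∧
    Good (wordProd seven sevenTv [false, false, false, false, true, true]) ∧
    ∀ v : Fin 8, Good (wordProd seven (tr v * sevenTv) [false, true]) →
      Good (wordProd seven (tr v * sevenTv) [false, false, false, false, true, true]) → v = 0 := by
  refine ⟨?_, ?_, ?_⟩ <;> decide +kernel

set_option maxRecDepth 100000 in
theorem linWords_nodup :
    (linWords.map fun w => (List.finRange 8).map (fun i => (wordProd seven sevenTv w : Perm (Fin 8)) i)).Nodup := by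
  decide +kernel

set_option maxRecDepth 100000 in
theorem linWords_length : linWords.length = 168 := rfl

theorem wordProd_zero (w : List Bool) : wordProd seven sevenTv w 0 = 0 := by
  induction w with
  | nil => rfl
  | cons c w ih =>
    show ((if c then sevenTv else seven) * wordProd seven sevenTv w) 0 = 0
    rw [Perm.mul_apply, ih]
    cases c
    · exact sevenTv_facts.2.2.2.1
    · exact sevenTv_facts.2.2.2.2.1

theorem map_wordProd {M N : Type*} [Monoid M] [Monoid N] (f : M →* N) (a b : M) (w : List Bool) :
    f (wordProd a b w) = wordProd (f a) (f b) w := by
  rw [wordProd, wordProd, map_list_prod, List.map_map]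
  congr 1
  refine List.map_congr_left fun c _ => ?_
  show f (if c then b else a) = if c then f b else f a
  split <;> rfl

universe u

variable {G : Type u} [Group G] {z : G} (S : Setting G 8 z)

/-- The normaliser of `regE` inside the centraliser of `z`. -/
def innerN : Subgroup G :=
  Subgroup.normalizer (regE S : Set G) ⊓ Subgroup.centralizer ({z} : Set G)

theorem regE_le_innerN : regE S ≤ innerN S := fun _ hx =>
  ⟨Subgroup.le_normalizer hx, mem_cent.2 hx.1⟩

/-- The image map on `innerN`. -/
noncomputable def imgHom : innerN S →* Perm (Fin 8) where
  toFun x := S.img x
  map_one' := S.img_one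
  map_mul' x y := S.img_mul (mem_cent.1 x.2.2) (mem_cent.1 y.2.2)

variable [Finite G]

theorem good_img {x : G} (hx : Commute x z) (h : x * x = z) : Good (S.img x) := by
  classical
  have h1 : S.img x * S.img x = 1 := by
    rw [← S.img_mul hx hx, h, S.img_z]
  refine ⟨h1, fun he => ?_, ?_⟩
  · rcases (S.img_eq_one hx).1 he with rfl | rfl
    · exact S.z_ne_one (by rw [← h, mul_one])
    · exact S.z_ne_one (by rw [← h, S.z_sq])
  · by_contra hfp
    push Not at hfp
    have hs : (S.img x).support = Finset.univ :=
      Finset.eq_univ_of_forall fun i => Perm.mem_support.2 (hfp i)
    have htwo : ∀ m ∈ (S.img x).cycleType, m = 2 := fun m hm => by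
      have h2 : m ∣ 2 := (Perm.dvd_of_mem_cycleType hm).trans
        (orderOf_dvd_of_pow_eq_one (by rw [pow_two, h1]))
      have := Nat.le_of_dvd (by norm_num) h2
      have := Perm.two_le_of_mem_cycleType hm
      omega
    have hrep := Multiset.eq_replicate_card.2 htwo
    have hcard : (S.img x).cycleType.card = 4 := by
      have h8 := (S.img x).sum_cycleType
      rw [hs, Finset.card_univ, Fintype.card_fin, hrep, Multiset.sum_replicate] at h8
      simp only [smul_eq_mul] at h8
      omega
    obtain ⟨τ, hτ⟩ := isConj_iff.1 ((Perm.isConj_iff_cycleType_eq (σ := S.img x) (τ := tr 1)).2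
      (by rw [hrep, hcard]; decide +kernel))
    obtain ⟨τ', hτ', hτi⟩ : ∃ τ' : Perm (Fin 8), Perm.sign τ' = 1 ∧
        τ' * S.img x * τ'⁻¹ = tr 1 := by
      rcases Int.units_eq_one_or (Perm.sign τ) with hs' | hs'
      · exact ⟨τ, hs', hτ⟩
      · refine ⟨swap 0 1 * τ, by rw [map_mul, hs', Perm.sign_swap (by decide)]; rfl, ?_⟩
        rw [show swap (0 : Fin 8) 1 * τ * S.img x * (swap 0 1 * τ)⁻¹ =
          swap 0 1 * (τ * S.img x * τ⁻¹) * (swap 0 1)⁻¹ by group, hτ]
        decide +kernel
    obtain ⟨d, hd, hdi⟩ := S.exists_img hτ'
    have hm : d * x * d⁻¹ ∈ regE S := ⟨(hd.mul_left hx).mul_left hd.inv_left, 1, by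
      rw [S.img_conj hd hx, hdi, hτi]⟩
    have hsq := mul_self_of_mem S hm
    rw [sq_conj hd (Or.inr h), h] at hsq
    exact S.z_ne_one hsq

theorem sq_of_good {x : G} (hx : Commute x z) (h : Good (S.img x)) : x * x = z := by
  refine (sq_cases S hx h.1).resolve_left fun h1 => ?_
  have hne1 : x ≠ 1 := fun e => h.2.1 (by rw [e, S.img_one])
  have hnez : x ≠ z := fun e => h.2.1 (by rw [e, S.img_z])
  obtain ⟨-, hct⟩ := S.cycleType_involution (by norm_num) hx h1 hne1 hnez
  obtain ⟨i, hi⟩ := h.2.2
  have hs : (S.img x).support = Finset.univ := by
    refine Finset.eq_univ_of_card _ ?_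
    rw [← Perm.sum_cycleType, hct, Fintype.card_fin]
    rfl
  exact Perm.mem_support.1 (hs ▸ Finset.mem_univ i : i ∈ (S.img x).support) hi

theorem exists_lift_seven {σ : Perm (Fin 8)} (hσ : Perm.sign σ = 1) (h7 : σ ^ 7 = 1)
    (hN : ∀ k, σ * tr k * σ⁻¹ = tr (σ k)) :
    ∃ s : innerN S, s ^ 7 = 1 ∧ imgHom S s = σ := by
  obtain ⟨g, hg, hgi⟩ := S.exists_img hσ
  have hgm : g ∈ innerN S := ⟨mem_normalizer_of_img S hg fun k => ⟨_, by rw [hgi]; exact hN k⟩,
    mem_cent.2 hg⟩
  refine ⟨⟨g, hgm⟩ ^ 8, Subtype.ext ?_, ?_⟩
  · have hg7 : (g ^ 7) = 1 ∨ (g ^ 7) = z := (S.img_eq_one (hg.pow_left 7)).1 (by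
      have h' := map_pow (imgHom S) ⟨g, hgm⟩ 7
      rw [show imgHom S ⟨g, hgm⟩ = σ from hgi, h7] at h'
      exact h')
    show (g ^ 8) ^ 7 = 1
    rw [← pow_mul, show 8 * 7 = 7 * 8 from rfl, pow_mul]
    rcases hg7 with e | e <;> rw [e]
    · exact one_pow 8
    · rw [show 8 = 2 * 4 from rfl, pow_mul, pow_two, S.z_sq, one_pow]
  · rw [map_pow, show imgHom S ⟨g, hgm⟩ = σ from hgi, pow_succ, h7, one_mul]

omit [Finite G] in
theorem eq_of_pow_seven {x y : G} (hx : Commute x z) (hy : Commute y z)
    (h : S.img x = S.img y) (hx7 : x ^ 7 = 1) (hy7 : y ^ 7 = 1) : x = y := by
  rcases S.eq_or_eq_mul_z hx hy h with e | e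
  · exact e.symm
  · exfalso
    rw [e, hx.mul_pow, hx7, one_mul, show 7 = 2 * 3 + 1 from rfl, pow_succ, pow_mul, pow_two,
      S.z_sq, one_pow, one_mul] at hy7
    exact S.z_ne_one hy7

omit [Finite G] in
theorem wordProd_mem_fix {α : innerN S →* G} {a b : innerN S} (ha : α a = a) (hb : α b = b)
    (w : List Bool) : α (wordProd a b w) = (wordProd a b w : innerN S) := by
  have h : wordProd a b w ∈ MonoidHom.eqLocus α (innerN S).subtype := by
    refine Subgroup.list_prod_mem _ fun c hc => ?_
    obtain ⟨d, -, rfl⟩ := List.mem_map.1 hc
    cases d
    · exact ha
    · exact hb
  exact h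

/-- Conjugation by an element of `E` is the only freedom. -/
theorem exists_inner (α : innerN S →* G) (hE : ∀ x : innerN S, (x : G) ∈ regE S → α x = x)
    (hα : ∀ x : innerN S, ∃ e ∈ regE S, α x = e * x) :
    ∃ e ∈ regE S, ∀ x : innerN S, α x = e * x * e⁻¹ := by
  classical
  obtain ⟨hsg, hp7, hq7, -, -, hsolve, hqN⟩ := sevenTv_facts
  obtain ⟨s, hs7, hsi⟩ := exists_lift_seven S seven_facts.1 hp7 seven_facts.2.1
  obtain ⟨s', hs'7, hs'i⟩ := exists_lift_seven S hsg hq7 hqN
  have hcomm : ∀ x : innerN S, Commute (α x) z := fun x => by
    obtain ⟨e, he, hex⟩ := hα x
    rw [hex]
    exact he.1.mul_left (mem_cent.1 x.2.2)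
  have himgα : ∀ x : innerN S, ∃ v, S.img (α x) = tr v * S.img x := fun x => by
    obtain ⟨e, ⟨hec, v, hv⟩, hex⟩ := hα x
    exact ⟨v, by rw [hex, S.img_mul hec (mem_cent.1 x.2.2), hv]⟩
  obtain ⟨k, hk⟩ := himgα s
  obtain ⟨j, hj⟩ := hsolve k
  refine ⟨lift S j, lift_mem S j, ?_⟩
  let β : innerN S →* G := (MulAut.conj (lift S j)⁻¹).toMonoidHom.comp α
  have hβap : ∀ x, β x = (lift S j)⁻¹ * α x * lift S j := fun x => by
    show (lift S j)⁻¹ * α x * (lift S j)⁻¹⁻¹ = _
    rw [inv_inv]
  have hβc : ∀ x, Commute (β x) z := fun x => by
    rw [hβap]
    exact ((commute_lift S j).inv_left.mul_left (hcomm x)).mul_left (commute_lift S j)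
  have hβimg : ∀ x, S.img (β x) = tr j * S.img (α x) * tr j := fun x => by
    rw [hβap, S.img_mul ((commute_lift S j).inv_left.mul_left (hcomm x)) (commute_lift S j),
      S.img_mul (commute_lift S j).inv_left (hcomm x), S.img_inv (commute_lift S j), img_lift,
      tr_inv]
  have hβE : ∀ x : innerN S, (x : G) ∈ regE S → β x = x := fun x hx => by
    rw [hβap, hE x hx, mul_assoc, (commute_of_mem S hx (lift_mem S j)).eq, inv_mul_cancel_left]
  have hfix7 : ∀ x : innerN S, x ^ 7 = 1 → S.img (β x) = S.img x → β x = x := fun x h7 h =>
    eq_of_pow_seven S (hβc x) (mem_cent.1 x.2.2) h (by rw [← map_pow, h7, map_one])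
      (by rw [← Subgroup.coe_pow, h7]; rfl)
  have hsfix : β s = s := hfix7 s hs7 <| by
    rw [hβimg, hk, show S.img (s : G) = seven from hsi]
    have e1 : seven * tr j = tr (seven j) * seven := mul_inv_eq_iff_eq_mul.1 (seven_facts.2.1 j)
    rw [← mul_assoc, tr_mul, mul_assoc, e1, ← mul_assoc, tr_mul]
    have : bx (bx j k) (seven j) = 0 := by
      rw [← hj]
      exact (by decide +kernel : ∀ a b c : Fin 8, bx (bx a b) c = bx (bx a c) b) j k (seven j)
    rw [this, tr_zero, one_mul]
  obtain ⟨v, hv⟩ : ∃ v, S.img (β s') = tr v * sevenTv := by
    obtain ⟨v, hv⟩ := himgα s'
    refine ⟨bx (bx j v) (sevenTv j), ?_⟩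
    rw [hβimg, hv, show S.img (s' : G) = sevenTv from hs'i, ← mul_assoc, tr_mul, mul_assoc,
      mul_inv_eq_iff_eq_mul.1 (hqN j), ← mul_assoc, tr_mul]
  let imgC : Subgroup.centralizer ({z} : Set G) →* Perm (Fin 8) :=
    { toFun := fun x => S.img x, map_one' := S.img_one,
      map_mul' := fun x y => S.img_mul (mem_cent.1 x.2) (mem_cent.1 y.2) }
  let β' : innerN S →* Perm (Fin 8) :=
    imgC.comp (β.codRestrict _ fun x => mem_cent.2 (hβc x))
  have hword : ∀ w, Good (wordProd seven sevenTv w) → Good (wordProd seven (tr v * sevenTv) w) := by
    intro w hw
    have hx : ((wordProd s s' w : innerN S) : G) * (wordProd s s' w : innerN S) = z := by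
      refine sq_of_good S (mem_cent.1 (wordProd s s' w).2.2) ?_
      show Good (imgHom S (wordProd s s' w))
      rw [map_wordProd, hsi, hs'i]
      exact hw
    have hzm : z ∈ innerN S := regE_le_innerN S (z_mem_regE S)
    have hb : β (wordProd s s' w) * β (wordProd s s' w) = z := by
      rw [← map_mul, show wordProd s s' w * wordProd s s' w = ⟨z, hzm⟩ from Subtype.ext hx]
      exact hβE _ (z_mem_regE S)
    have hg := good_img S (hβc _) hb
    have e : S.img (β (wordProd s s' w)) = wordProd (β' s) (β' s') w :=
      map_wordProd β' s s' w
    rw [e] at hg
    have e1 : β' s = seven := by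
      show S.img (β s) = seven
      rw [hsfix]; exact hsi
    rw [e1, show β' s' = tr v * sevenTv from hv] at hg
    exact hg
  obtain ⟨g1, g2, honly⟩ := good_words
  have hv0 := honly v (hword _ g1) (hword _ g2)
  have hs'fix : β s' = s' := hfix7 s' hs'7 <| by
    rw [hv, hv0, tr_zero, one_mul]; exact hs'i.symm
  have hall : ∀ x, β x = x := by
    let F := MonoidHom.eqLocus β (innerN S).subtype
    let f : Fin linWords.length × regE S → F := fun p =>
      ⟨wordProd s s' (linWords.get p.1) * ⟨p.2, regE_le_innerN S p.2.2⟩, by
        refine mul_mem ?_ ?_
        · exact wordProd_mem_fix S hsfix hs'fix _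
        · exact hβE _ p.2.2⟩
    have hf : Function.Injective f := by
      rintro ⟨a, e⟩ ⟨b, e'⟩ h
      have hG : ((wordProd s s' (linWords.get a) : innerN S) : G) * e =
          (wordProd s s' (linWords.get b) : innerN S) * e' :=
        congrArg (fun y : F => ((y : innerN S) : G)) h
      obtain ⟨hec, ke, hke⟩ := e.2
      obtain ⟨hec', ke', hke'⟩ := e'.2
      have hi := congrArg S.img hG
      rw [S.img_mul (mem_cent.1 (wordProd s s' _).2.2) hec,
        S.img_mul (mem_cent.1 (wordProd s s' _).2.2) hec', hke, hke',
        show S.img ((wordProd s s' (linWords.get a) : innerN S) : G) =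
          wordProd seven sevenTv (linWords.get a) from (map_wordProd (imgHom S) s s' _).trans
            (by rw [hsi, hs'i]),
        show S.img ((wordProd s s' (linWords.get b) : innerN S) : G) =
          wordProd seven sevenTv (linWords.get b) from (map_wordProd (imgHom S) s s' _).trans
            (by rw [hsi, hs'i])] at hi
      have hkk : ke = ke' := by
        have h0 := congrArg (fun σ : Perm (Fin 8) => σ.symm 0) hi
        have hz0 : ∀ w, (wordProd seven sevenTv w).symm 0 = 0 := fun w =>
          (Equiv.symm_apply_eq _).2 (wordProd_zero w).symm
        have htr : ∀ q, (tr q).symm 0 = q := fun q => by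
          show bx q 0 = q
          rw [bx_comm, bx_zero_left]
        simpa [Perm.mul_def, hz0, htr] using h0
      subst hkk
      have hab : a = b := by
        have hl : (linWords.map fun w => (List.finRange 8).map (fun i => (wordProd seven sevenTv w : Perm (Fin 8)) i))[a.1]'
              (by simp) =
            (linWords.map fun w => (List.finRange 8).map (fun i => (wordProd seven sevenTv w : Perm (Fin 8)) i))[b.1]'
              (by simp) := by
          simp only [List.getElem_map]
          rw [show linWords[a.1] = linWords.get a from rfl, show linWords[b.1] = linWords.get b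
            from rfl, mul_right_cancel hi]
        exact Fin.ext ((linWords_nodup.getElem_inj_iff).1 hl)
      subst hab
      exact Prod.ext rfl (Subtype.ext (mul_left_cancel hG))
    have hc := Nat.card_le_card_of_injective f hf
    rw [Nat.card_prod, Nat.card_fin, linWords_length, card_regE] at hc
    have htop : F = ⊤ := by
      refine Subgroup.eq_top_of_le_card _ ?_
      calc Nat.card (innerN S) = 168 * 16 := card_normalizer_inf S
        _ ≤ _ := hc
    intro x
    exact (htop ▸ Subgroup.mem_top x : x ∈ F)
  intro x
  have h := hall x
  rw [hβap] at h
  rw [← h]
  group

end CfsgLib.McLRecog
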