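import Cfsg.Agent.Lib.AltDoubleCent.Setting

/-!
Two perfect double covers of the same alternating group are isomorphic over it.
-/

set_option autoImplicit false
set_option linter.unusedSectionVars false

namespace CfsgLib.McLRecog

open scoped commutatorElement
open Equiv CfsgLib.RealChar.AltCover CfsgLib.Classes.AltCoverComm CfsgLib.AltDoubleCent

universe u v

variable {n : ℕ}

section

variable {Γ : Type u} [Group Γ] [Finite Γ] {π : Γ →* alternatingGroup (Fin n)}

/-- Order-three lifts of the three-cycles through two fixed points generate, and the squares of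
their pairwise products are the nontrivial central element. -/
theorem exists_star (hs : Function.Surjective π) (hc : π.ker ≤ Subgroup.center Γ)
    (h2 : Nat.card π.ker = 2) (hperf : commutator Γ = ⊤) {z : Γ} (hz : π z = 1) (hz1 : z ≠ 1)
    {p q : Fin n} (hpq : p ≠ q) :
    ∃ X : {i : Fin n // i ≠ p ∧ i ≠ q} → Γ,
      (∀ i, (π (X i) : Perm (Fin n)) = cyc p q i.1) ∧ (∀ i, X i ^ 3 = 1) ∧
      (∀ i j, i ≠ j → X i * X j * (X i * X j) = z) ∧ Subgroup.closure (Set.range X) = ⊤ := by
  classical
  have hl : ∀ i : {i : Fin n // i ≠ p ∧ i ≠ q}, ∃ l : Γ, (π l : Perm (Fin n)) = cyc p q i.1 :=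
    fun i => exists_lift hs (Perm.mem_alternatingGroup.mp (cyc_mem p q i.1 hpq i.2.1.symm))
  choose l hl using hl
  let X : {i : Fin n // i ≠ p ∧ i ≠ q} → Γ := fun i => l i ^ 4
  have hX : ∀ i, (π (X i) : Perm (Fin n)) = cyc p q i.1 := fun i => by
    simp only [X, map_pow, Subgroup.coe_pow, hl]
    rw [pow_succ, cyc_pow_three p q i.1 hpq i.2.2.symm i.2.1.symm, one_mul]
  have h3 : ∀ i, X i ^ 3 = 1 := fun i => by
    have hk : π (l i ^ 3) = 1 := map_eq_one (by
      rw [map_pow, Subgroup.coe_pow, hl, cyc_pow_three p q i.1 hpq i.2.2.symm i.2.1.symm])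
    have := ker_sq h2 hk
    rw [← pow_two, ← pow_mul] at this
    simp only [X, ← pow_mul]
    rw [show 4 * 3 = 3 * 2 * 2 from rfl, pow_mul, this, one_pow]
  have hsq : ∀ i j, i ≠ j → X i * X j * (X i * X j) = z := fun i j hij => by
    have hij' : i.1 ≠ j.1 := fun e => hij (Subtype.ext e)
    have h4 : Four p i.1 q j.1 := ⟨i.2.1.symm, hpq, j.2.1.symm, i.2.2, hij', j.2.2.symm⟩
    have hA : (π (X i * X j) : Perm (Fin n)) = swap p i.1 * swap q j.1 := by
      rw [map_mul, Subgroup.coe_mul, hX, hX, cyc, cyc, mul_assoc]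
      have := swap_apply_apply (swap p q) p j.1
      rw [swap_apply_left, swap_apply_of_ne_of_ne j.2.1 j.2.2, swap_inv] at this
      rw [this, ← mul_assoc (swap p q)]
    refine (ker_cases h2 hz hz1 (map_eq_one ?_)).resolve_left (sq_ne_one hs hc h2 hperf h4 hA)
    rw [map_mul, Subgroup.coe_mul, hA, h4.sq]
  refine ⟨X, hX, h3, hsq, ?_⟩
  set L := Subgroup.closure (Set.range X) with hL
  have hsplit : ∀ g : Γ, ∃ a ∈ L, ∃ w, π w = 1 ∧ g = a * w := by
    intro g
    have hmap : L.map ((alternatingGroup (Fin n)).subtype.comp π) =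
        Subgroup.closure (Set.range fun i : {i : Fin n // i ≠ p ∧ i ≠ q} => cyc p q i.1) := by
      rw [hL, MonoidHom.map_closure, ← Set.range_comp]
      exact congrArg Subgroup.closure (congrArg Set.range (funext hX))
    have hmem := mem_closure_cyc p q hpq (π g : Perm (Fin n)) (π g).2
    rw [← hmap] at hmem
    obtain ⟨a, ha, hag⟩ := Subgroup.mem_map.mp hmem
    refine ⟨a, ha, a⁻¹ * g, ?_, by group⟩
    rw [map_mul, map_inv, show π g = π a from Subtype.ext hag.symm, inv_mul_cancel]
  refine top_le_iff.mp (hperf ▸ ?_)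
  rw [commutator_def, Subgroup.commutator_le]
  intro g _ g' _
  obtain ⟨a, ha, w, hw, rfl⟩ := hsplit g
  obtain ⟨b, hb, w', hw', rfl⟩ := hsplit g'
  have : ⁅a * w, b * w'⁆ = ⁅a, b⁆ := by
    simp only [commutatorElement_def, mul_inv_rev]
    calc a * w * (b * w') * (w⁻¹ * a⁻¹) * (w'⁻¹ * b⁻¹)
        = a * (w * b) * (w' * (w⁻¹ * a⁻¹)) * (w'⁻¹ * b⁻¹) := by group
      _ = a * (b * w) * ((w⁻¹ * a⁻¹) * w') * (w'⁻¹ * b⁻¹) := by
        rw [central hc hw b, central hc hw' (w⁻¹ * a⁻¹)]
      _ = _ := by group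
  rw [this, commutatorElement_def]
  exact L.mul_mem (L.mul_mem (L.mul_mem ha hb) (L.inv_mem ha)) (L.inv_mem hb)

theorem card_cover (hs : Function.Surjective π) (h2 : Nat.card π.ker = 2) :
    Nat.card Γ = Nat.card (alternatingGroup (Fin n)) * 2 := by
  rw [← π.ker.index_mul_card, Subgroup.index_ker, MonoidHom.range_eq_top.mpr hs, Subgroup.card_top,
    h2]

end

theorem exists_ne_one_of_card {H : Type*} [Group H] {K : Subgroup H} (h : Nat.card K = 2) :
    ∃ x : K, x ≠ 1 := by
  have : Finite K := Nat.finite_of_card_ne_zero (by omega)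
  have : Nontrivial K := Finite.one_lt_card_iff_nontrivial.1 (by omega)
  exact exists_ne 1

/-- Two perfect double covers are isomorphic over the alternating group. -/
theorem exists_cover_equiv {Γ : Type u} [Group Γ] [Finite Γ] {π : Γ →* alternatingGroup (Fin n)}
    {Γ' : Type v} [Group Γ'] [Finite Γ'] {π' : Γ' →* alternatingGroup (Fin n)} (hn : 4 ≤ n)
    (hs : Function.Surjective π) (hc : π.ker ≤ Subgroup.center Γ) (h2 : Nat.card π.ker = 2)
    (hperf : commutator Γ = ⊤)
    (hs' : Function.Surjective π') (hc' : π'.ker ≤ Subgroup.center Γ')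
    (h2' : Nat.card π'.ker = 2) (hperf' : commutator Γ' = ⊤) :
    ∃ e : Γ ≃* Γ', ∀ x, π' (e x) = π x := by
  classical
  obtain ⟨⟨z, hzk⟩, hz1⟩ := exists_ne_one_of_card h2
  obtain ⟨⟨z', hzk'⟩, hz1'⟩ := exists_ne_one_of_card h2'
  have hz : π z = 1 := hzk
  have hz' : π' z' = 1 := hzk'
  have hne : z ≠ 1 := fun h => hz1 (Subtype.ext h)
  have hne' : z' ≠ 1 := fun h => hz1' (Subtype.ext h)
  let p : Fin n := ⟨0, by omega⟩
  let q : Fin n := ⟨1, by omega⟩
  have hpq : p ≠ q := fun h => by simpa [p, q] using congrArg Fin.val h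
  obtain ⟨X, hX, h3, hsq, hgen⟩ := exists_star hs hc h2 hperf hz hne hpq
  obtain ⟨X', hX', h3', hsq', hgen'⟩ := exists_star hs' hc' h2' hperf' hz' hne' hpq
  let P : Subgroup (Γ × Γ') :=
    MonoidHom.eqLocus (π.comp (MonoidHom.fst Γ Γ')) (π'.comp (MonoidHom.snd Γ Γ'))
  let Y : {i : Fin n // i ≠ p ∧ i ≠ q} → P := fun i =>
    ⟨(X i, X' i), Subtype.ext ((hX i).trans (hX' i).symm)⟩
  let w : P := ⟨(z, z'), hz.trans hz'.symm⟩
  let L := Subgroup.closure (Set.range Y)
  have hw : Subgroup.zpowers w ≤ Subgroup.center P := by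
    rw [Subgroup.zpowers_le, Subgroup.mem_center_iff]
    exact fun y => Subtype.ext (Prod.ext (central hc hz y.1.1) (central hc' hz' y.1.2))
  have : (Subgroup.zpowers w).Normal :=
    ⟨fun x hx g => by rw [Subgroup.mem_center_iff.1 (hw hx) g, mul_inv_cancel_right]; exact hx⟩
  let ρ := QuotientGroup.mk' (Subgroup.zpowers w)
  have hI : Nat.card {i : Fin n // i ≠ p ∧ i ≠ q} = n - 2 := by
    rw [Nat.card_eq_fintype_card, Fintype.card_subtype]
    have : (Finset.univ.filter fun i : Fin n => i ≠ p ∧ i ≠ q)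
        = (Finset.univ.erase p).erase q := by
      ext i; simp [and_comm]
    rw [this, Finset.card_erase_of_mem (by simp [hpq.symm]),
      Finset.card_erase_of_mem (Finset.mem_univ _), Finset.card_univ, Fintype.card_fin]
    omega
  let ε : Fin (n - 2) ≃ {i : Fin n // i ≠ p ∧ i ≠ q} :=
    (finCongr hI.symm).trans (Finite.equivFin _).symm
  have hbound : 2 * Nat.card (L.map ρ) ≤ n.factorial := by
    let f : Fin (n - 2) → L.map ρ := fun i =>
      ⟨ρ (Y (ε i)), Y (ε i), Subgroup.subset_closure ⟨_, rfl⟩, rfl⟩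
    have h := presentation_card (n - 2) f
      (fun i => Subtype.ext (by
        show ρ (Y (ε i)) ^ 3 = 1
        rw [← map_pow, show Y (ε i) ^ 3 = 1 from Subtype.ext (Prod.ext (h3 _) (h3' _)), map_one]))
      (fun i j hij => Subtype.ext (by
        show (ρ (Y (ε i)) * ρ (Y (ε j))) ^ 2 = 1
        have hne2 : ε i ≠ ε j := fun e => hij (ε.injective e)
        rw [← map_mul, ← map_pow]
        refine (QuotientGroup.eq_one_iff _).2 ?_
        rw [show (Y (ε i) * Y (ε j)) ^ 2 = w from Subtype.ext (Prod.ext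
          ((pow_two _).trans (hsq _ _ hne2)) ((pow_two _).trans (hsq' _ _ hne2)))]
        exact Subgroup.mem_zpowers w))
      (by
        refine Subgroup.map_injective (Subgroup.subtype_injective _) ?_
        rw [MonoidHom.map_closure, ← MonoidHom.range_eq_map, Subgroup.range_subtype]
        conv_rhs => rw [MonoidHom.map_closure]
        rw [← Set.range_comp, ← Set.range_comp]
        refine congrArg Subgroup.closure ?_
        exact ε.surjective.range_comp (fun i => ρ (Y i)))
    rwa [show n - 2 + 2 = n by omega] at h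
  have hLcard : Nat.card L ≤ n.factorial := by
    have hw2 : w * w = 1 := Subtype.ext (Prod.ext (ker_sq h2 hz) (ker_sq h2' hz'))
    have hord : Nat.card (Subgroup.zpowers w) ≤ 2 := by
      rw [Nat.card_zpowers]
      exact Nat.le_of_dvd (by norm_num) (orderOf_dvd_of_pow_eq_one (by rw [pow_two, hw2]))
    have h := Subgroup.card_mul_index (ρ.comp L.subtype).ker
    rw [Subgroup.index_ker, MonoidHom.range_comp, Subgroup.range_subtype] at h
    have hk : Nat.card (ρ.comp L.subtype).ker ≤ 2 := by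
      refine le_trans (Nat.card_le_card_of_injective
        (fun x => (⟨x.1.1, (QuotientGroup.eq_one_iff _).1 x.2⟩ : Subgroup.zpowers w))
        fun x y hxy => Subtype.ext (Subtype.ext ?_)) hord
      exact congrArg (fun t : Subgroup.zpowers w => (t : P)) hxy
    rw [← h]
    exact le_trans (Nat.mul_le_mul_right _ hk) hbound
  let g : L →* Γ := (MonoidHom.fst Γ Γ').comp (P.subtype.comp L.subtype)
  let g' : L →* Γ' := (MonoidHom.snd Γ Γ').comp (P.subtype.comp L.subtype)
  have hgs : Function.Surjective g := MonoidHom.range_eq_top.1 (top_le_iff.1 (hgen ▸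
    (Subgroup.closure_le _).2 (by
      rintro _ ⟨i, rfl⟩
      exact ⟨⟨Y i, Subgroup.subset_closure ⟨i, rfl⟩⟩, rfl⟩)))
  have hgs' : Function.Surjective g' := MonoidHom.range_eq_top.1 (top_le_iff.1 (hgen' ▸
    (Subgroup.closure_le _).2 (by
      rintro _ ⟨i, rfl⟩
      exact ⟨⟨Y i, Subgroup.subset_closure ⟨i, rfl⟩⟩, rfl⟩)))
  have : Nontrivial (Fin n) := ⟨⟨p, q, hpq⟩⟩
  have halt : 2 * Nat.card (alternatingGroup (Fin n)) = n.factorial := by
    rw [two_mul_nat_card_alternatingGroup, Nat.card_perm, Nat.card_fin]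
  have hcard : Nat.card L ≤ Nat.card Γ ∧ Nat.card L ≤ Nat.card Γ' := by
    rw [card_cover hs h2, card_cover hs' h2']
    omega
  have hb := hgs.bijective_of_nat_card_le hcard.1
  have hb' := hgs'.bijective_of_nat_card_le hcard.2
  refine ⟨(MulEquiv.ofBijective g hb).symm.trans (MulEquiv.ofBijective g' hb'), fun x => ?_⟩
  obtain ⟨l, rfl⟩ := hb.2 x
  show π' (g' ((MulEquiv.ofBijective g hb).symm (MulEquiv.ofBijective g hb l))) = π (g l)
  rw [MulEquiv.symm_apply_apply]
  exact ((l : P).2).symm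
/-- The kernel of a setting is central of order two. -/
theorem setting_ker {G : Type u} [Group G] [Finite G] {z : G} (S : Setting G n z) :
    S.φ.ker ≤ Subgroup.center (Subgroup.centralizer ({z} : Set G)) ∧ Nat.card S.φ.ker = 2 := by
  refine ⟨fun x hx => Subgroup.mem_center_iff.2 fun y => Subtype.ext ?_, ?_⟩
  · rcases (S.ker_iff x).1 hx with h | h
    · show (y : G) * x = x * y
      rw [h, mul_one, one_mul]
    · show (y : G) * x = x * y
      rw [h]
      exact (mem_cent.1 y.2).eq
  · rw [Nat.card_eq_two_iff]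
    refine ⟨1, ⟨⟨z, mem_cent.2 (Commute.refl z)⟩, (S.ker_iff _).2 (Or.inr rfl)⟩,
      fun h => S.z_ne_one (congrArg (fun x : S.φ.ker => ((x : Subgroup.centralizer ({z} : Set G)) : G)) h).symm,
      Set.eq_univ_of_forall fun x => ?_⟩
    rcases (S.ker_iff x.1).1 x.2 with h | h
    · exact Or.inl (Subtype.ext (Subtype.ext h))
    · exact Or.inr (Subtype.ext (Subtype.ext h))

/-- Centralisers of the same type are isomorphic compatibly with the images. -/
theorem exists_centralizer_equiv {G : Type u} [Group G] [Finite G] {z : G} (S : Setting G n z)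
    {G' : Type v} [Group G'] [Finite G'] {z' : G'} (S' : Setting G' n z') (hn : 4 ≤ n) :
    ∃ φ : Subgroup.centralizer ({z} : Set G) ≃* Subgroup.centralizer ({z'} : Set G'),
      ∀ x, S'.img (φ x : G') = S.img (x : G) := by
  obtain ⟨e, he⟩ := exists_cover_equiv hn S.surj (setting_ker S).1 (setting_ker S).2 S.perfect S'.surj
    (setting_ker S').1 (setting_ker S').2 S'.perfect
  exact ⟨e, fun x => by rw [S'.img_coe, S.img_coe, he]⟩

end CfsgLib.McLRecog
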