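import Cfsg.Agent.Lib.McLRecog.NormalizerIso
import Cfsg.Agent.Lib.McLRecog.CoverUnique
import Cfsg.Agent.Lib.CoreFree.OddCommCriterion
import Cfsg.Agent.Lib.Involutions.BrauerSuzuki

/-!
The amalgam of the centraliser of an involution of type `2·A₈` and of the normalisers of two
elementary groups of order sixteen: any group with such an involution realises the amalgam of a model.
-/

set_option autoImplicit false

namespace CfsgLib.McLRecog

open CfsgLib.AltDoubleCent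

universe u v

/-- The local facts about a model `M` needed for the amalgam. -/
structure LocalFacts (M : Type v) [Group M] (t0 n w : M) (E₁ E₂ : Subgroup M) : Prop where
  order_t : orderOf t0 = 2
  cover : Cfsg.IsNonsplitDoubleCover (Subgroup.centralizer ({t0} : Set M)) (alternatingGroup (Fin 8))
  fused : ∃ i : M, Commute i t0 ∧ i ≠ t0 ∧ IsConj t0 i
  card₁ : Nat.card E₁ = 16
  card₂ : Nat.card E₂ = 16
  mem₁ : t0 ∈ E₁
  mem₂ : t0 ∈ E₂
  sq₁ : ∀ x ∈ E₁, x * x = 1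
  sq₂ : ∀ x ∈ E₂, x * x = 1
  n_mem₁ : n ∈ Subgroup.normalizer (E₁ : Set M)
  n_mem₂ : n ∈ Subgroup.normalizer (E₂ : Set M)
  w_mem₁ : w ∈ Subgroup.normalizer (E₁ : Set M)
  w_mem₂ : w ∈ Subgroup.normalizer (E₂ : Set M)
  w_comm : Commute w t0
  w_inv : w * n * w⁻¹ = n⁻¹
  le₁₂ : E₁ ≤ Subgroup.normalizer (E₂ : Set M)
  le₂₁ : E₂ ≤ Subgroup.normalizer (E₁ : Set M)
  only : ∀ d ∈ E₁ ⊓ E₂, w * (n * d) * w⁻¹ = (n * d)⁻¹ → n * d = n ∨ n * d = t0 * n * t0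

/-- Homomorphisms from the three local subgroups agreeing with the first one on the intersections and
with each other at `n`. -/
structure LocalHoms {M : Type v} [Group M] (t0 n : M) (E₁ E₂ : Subgroup M) (G : Type u) [Group G]
    where
  lamC : Subgroup.centralizer ({t0} : Set M) →* G
  lam₁ : Subgroup.normalizer (E₁ : Set M) →* G
  lam₂ : Subgroup.normalizer (E₂ : Set M) →* G
  agree₁ : ∀ (x : M) (hx : x ∈ Subgroup.normalizer (E₁ : Set M))
    (hc : x ∈ Subgroup.centralizer ({t0} : Set M)), lam₁ ⟨x, hx⟩ = lamC ⟨x, hc⟩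
  agree₂ : ∀ (x : M) (hx : x ∈ Subgroup.normalizer (E₂ : Set M))
    (hc : x ∈ Subgroup.centralizer ({t0} : Set M)), lam₂ ⟨x, hx⟩ = lamC ⟨x, hc⟩
  agree_n : ∀ (h₁ : n ∈ Subgroup.normalizer (E₁ : Set M)) (h₂ : n ∈ Subgroup.normalizer (E₂ : Set M)),
    lam₁ ⟨n, h₁⟩ = lam₂ ⟨n, h₂⟩

/-- The model is the completion of its amalgam. -/
def Completes {M : Type v} [Group M] (t0 n : M) (E₁ E₂ : Subgroup M) : Prop :=
  ∀ (G : Type u) [Group G] [Finite G] (L : LocalHoms t0 n E₁ E₂ G),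
    ∃ ψ : M →* G, ∀ (x : M) (hc : x ∈ Subgroup.centralizer ({t0} : Set M)), ψ x = L.lamC ⟨x, hc⟩

section

variable {M : Type v} [Group M] [Finite M] {t0 n w : M} {E₁ E₂ : Subgroup M}
  {G : Type u} [Group G] [Finite G] {t : G}

omit [Finite M] [Finite G] in
/-- A setting transported along an isomorphism of centralisers. -/
theorem exists_setting_map (S : Setting M 8 t0)
    (φ : Subgroup.centralizer ({t0} : Set M) ≃* Subgroup.centralizer ({t} : Set G))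
    (hφt : ∀ h, (φ ⟨t0, h⟩ : G) = t) (ht : orderOf t = 2) :
    ∃ S' : Setting G 8 t, ∀ x, S'.img (φ x : G) = S.img (x : M) := by
  refine ⟨⟨ht, S.φ.comp φ.symm.toMonoidHom, S.surj.comp φ.symm.surjective, fun y => ?_, ?_⟩,
    fun x => ?_⟩
  · obtain ⟨x, rfl⟩ := φ.surjective y
    rw [MonoidHom.comp_apply, MulEquiv.coe_toMonoidHom, φ.symm_apply_apply, S.ker_iff]
    constructor
    · rintro (h | h)
      · left; rw [show x = 1 from Subtype.ext h, map_one]; rfl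
      · right
        rw [show x = ⟨t0, mem_cent.2 (Commute.refl t0)⟩ from Subtype.ext h]
        exact hφt _
    · rintro (h | h)
      · left
        rw [show x = 1 from φ.injective ((Subtype.ext h).trans (map_one φ).symm)]; rfl
      · right
        have e : φ x = φ ⟨t0, mem_cent.2 (Commute.refl t0)⟩ :=
          Subtype.ext (h.trans (hφt _).symm)
        rw [φ.injective e]
  · have h := S.perfect
    apply Subgroup.map_injective (f := φ.symm.toMonoidHom) φ.symm.injective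
    rw [Subgroup.map_top_of_surjective _ φ.symm.surjective, commutator_def, Subgroup.map_commutator,
      Subgroup.map_top_of_surjective _ φ.symm.surjective, ← commutator_def, h]
  · rw [Setting.img_coe, Setting.img_coe]
    show ((S.φ (φ.symm (φ x)) : alternatingGroup (Fin 8)) : Equiv.Perm (Fin 8)) = _
    rw [φ.symm_apply_apply]

/-- Every group with an involution of this kind receives the amalgam of the model. -/
theorem exists_localHoms (hM : LocalFacts M t0 n w E₁ E₂) (ht : orderOf t = 2)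
    (hcov : Cfsg.IsNonsplitDoubleCover (Subgroup.centralizer ({t} : Set G)) (alternatingGroup (Fin 8)))
    (hfus : ∃ i : G, Commute i t ∧ i ≠ t ∧ IsConj t i) :
    ∃ L : LocalHoms t0 n E₁ E₂ G, Function.Injective L.lamC ∧
      L.lamC.range = Subgroup.centralizer ({t} : Set G) ∧ ∀ h, L.lamC ⟨t0, h⟩ = t := by
  classical
  obtain ⟨S₀⟩ := Setting.nonempty (by norm_num) hM.order_t hM.cover
  obtain ⟨SG⟩ := Setting.nonempty (by norm_num) ht hcov
  obtain ⟨S₁, hS₁⟩ := exists_setting_eq S₀ hM.card₁ hM.mem₁ hM.sq₁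
  obtain ⟨S₂, hS₂⟩ := exists_setting_eq S₀ hM.card₂ hM.mem₂ hM.sq₂
  obtain ⟨φ, hφ⟩ := exists_centralizer_equiv S₀ SG (by norm_num)
  have hφt : ∀ h, (φ ⟨t0, h⟩ : G) = t := fun h => by
    have h1 : SG.img (φ ⟨t0, h⟩ : G) = 1 := by rw [hφ]; exact S₀.img_z
    rcases (SG.img_eq_one (mem_cent.1 (φ ⟨t0, h⟩).2)).1 h1 with e | e
    · exact absurd (congrArg Subtype.val (φ.injective ((Subtype.ext e).trans (map_one φ).symm)))
        S₀.z_ne_one
    · exact e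
  obtain ⟨S₁', hS₁'⟩ := exists_setting_map S₁ φ hφt ht
  obtain ⟨S₂', hS₂'⟩ := exists_setting_map S₂ φ hφt ht
  obtain ⟨ψ₁, hψ₁⟩ := exists_normalizer_equiv S₁ S₁' hM.fused hfus φ hS₁'
  obtain ⟨ψ₂, hψ₂⟩ := exists_normalizer_equiv S₂ S₂' hM.fused hfus φ hS₂'
  subst hS₁ hS₂
  let f₁ : Subgroup.normalizer (regE S₁ : Set M) →* G :=
    (Subgroup.subtype _).comp ψ₁.toMonoidHom
  let f₂ : Subgroup.normalizer (regE S₂ : Set M) →* G :=
    (Subgroup.subtype _).comp ψ₂.toMonoidHom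
  have hc₁ : ∀ {x : M}, x ∈ regE S₁ → x ∈ Subgroup.centralizer ({t0} : Set M) := fun hx =>
    mem_cent.2 hx.1
  have hc₂ : ∀ {x : M}, x ∈ regE S₂ → x ∈ Subgroup.centralizer ({t0} : Set M) := fun hx =>
    mem_cent.2 hx.1
  let n₁ : Subgroup.normalizer (regE S₁ : Set M) := ⟨n, hM.n_mem₁⟩
  let n₂ : Subgroup.normalizer (regE S₂ : Set M) := ⟨n, hM.n_mem₂⟩
  set δ : G := (f₁ n₁)⁻¹ * f₂ n₂ with hδ
  -- the two images of `n` act alike on both elementary groups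
  have hE₁ : ∀ x (hx : x ∈ regE S₁), Commute δ (φ ⟨x, hc₁ hx⟩ : G) := by
    intro x hx
    have hy : n * x * n⁻¹ ∈ regE S₁ := (Subgroup.mem_normalizer_iff.1 hM.n_mem₁ x).1 hx
    let x₁ : Subgroup.normalizer (regE S₁ : Set M) := ⟨x, Subgroup.le_normalizer hx⟩
    let x₂ : Subgroup.normalizer (regE S₂ : Set M) := ⟨x, hM.le₁₂ hx⟩
    have e : f₁ (n₁ * x₁ * n₁⁻¹) = f₂ (n₂ * x₂ * n₂⁻¹) :=
      (hψ₁ _ (n₁ * x₁ * n₁⁻¹).2 (hc₁ hy)).trans (hψ₂ _ (n₂ * x₂ * n₂⁻¹).2 (hc₁ hy)).symm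
    simp only [map_mul, map_inv] at e
    have a₁ : f₁ x₁ = φ ⟨x, hc₁ hx⟩ := hψ₁ _ x₁.2 _
    have a₂ : f₂ x₂ = φ ⟨x, hc₁ hx⟩ := hψ₂ _ x₂.2 _
    rw [a₁, a₂] at e
    show δ * _ = _ * δ
    calc δ * (φ ⟨x, hc₁ hx⟩ : G)
        = (f₁ n₁)⁻¹ * (f₂ n₂ * φ ⟨x, hc₁ hx⟩ * (f₂ n₂)⁻¹) * f₂ n₂ := by rw [hδ]; group
      _ = φ ⟨x, hc₁ hx⟩ * δ := by rw [← e, hδ]; group
  have hE₂ : ∀ x (hx : x ∈ regE S₂), Commute δ (φ ⟨x, hc₂ hx⟩ : G) := by
    intro x hx
    have hy : n * x * n⁻¹ ∈ regE S₂ := (Subgroup.mem_normalizer_iff.1 hM.n_mem₂ x).1 hx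
    let x₁ : Subgroup.normalizer (regE S₁ : Set M) := ⟨x, hM.le₂₁ hx⟩
    let x₂ : Subgroup.normalizer (regE S₂ : Set M) := ⟨x, Subgroup.le_normalizer hx⟩
    have e : f₁ (n₁ * x₁ * n₁⁻¹) = f₂ (n₂ * x₂ * n₂⁻¹) :=
      (hψ₁ _ (n₁ * x₁ * n₁⁻¹).2 (hc₂ hy)).trans (hψ₂ _ (n₂ * x₂ * n₂⁻¹).2 (hc₂ hy)).symm
    simp only [map_mul, map_inv] at e
    have a₁ : f₁ x₁ = φ ⟨x, hc₂ hx⟩ := hψ₁ _ x₁.2 _
    have a₂ : f₂ x₂ = φ ⟨x, hc₂ hx⟩ := hψ₂ _ x₂.2 _
    rw [a₁, a₂] at e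
    show δ * _ = _ * δ
    calc δ * (φ ⟨x, hc₂ hx⟩ : G)
        = (f₁ n₁)⁻¹ * (f₂ n₂ * φ ⟨x, hc₂ hx⟩ * (f₂ n₂)⁻¹) * f₂ n₂ := by rw [hδ]; group
      _ = φ ⟨x, hc₂ hx⟩ * δ := by rw [← e, hδ]; group
  have hδc : Commute δ t := by
    have := hE₁ t0 (z_mem_regE S₁)
    rwa [hφt] at this
  set dd := φ.symm ⟨δ, mem_cent.2 hδc⟩ with hdd
  have hφd : (φ dd : G) = δ := by rw [hdd, φ.apply_symm_apply]
  have hd₁ : (dd : M) ∈ regE S₁ := by
    rw [← centralizer_regE S₁]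
    refine Subgroup.mem_centralizer_iff.2 fun x hx => ?_
    have h : φ (⟨x, hc₁ hx⟩ * dd) = φ (dd * ⟨x, hc₁ hx⟩) := Subtype.ext (by
      rw [map_mul, map_mul, Subgroup.coe_mul, Subgroup.coe_mul, hφd]
      exact (hE₁ x hx).eq.symm)
    exact congrArg (fun y : Subgroup.centralizer ({t0} : Set M) => (y : M)) (φ.injective h)
  have hd₂ : (dd : M) ∈ regE S₂ := by
    rw [← centralizer_regE S₂]
    refine Subgroup.mem_centralizer_iff.2 fun x hx => ?_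
    have h : φ (⟨x, hc₂ hx⟩ * dd) = φ (dd * ⟨x, hc₂ hx⟩) := Subtype.ext (by
      rw [map_mul, map_mul, Subgroup.coe_mul, Subgroup.coe_mul, hφd]
      exact (hE₂ x hx).eq.symm)
    exact congrArg (fun y : Subgroup.centralizer ({t0} : Set M) => (y : M)) (φ.injective h)
  let d₁ : Subgroup.normalizer (regE S₁ : Set M) := ⟨dd, Subgroup.le_normalizer hd₁⟩
  let w₁ : Subgroup.normalizer (regE S₁ : Set M) := ⟨w, hM.w_mem₁⟩
  let w₂ : Subgroup.normalizer (regE S₂ : Set M) := ⟨w, hM.w_mem₂⟩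
  have hn₂ : f₂ n₂ = f₁ (n₁ * d₁) := by
    rw [map_mul, show f₁ d₁ = (φ dd : G) from hψ₁ _ d₁.2 dd.2, hφd, hδ, mul_inv_cancel_left]
  have hinv : w₁ * (n₁ * d₁) * w₁⁻¹ = (n₁ * d₁)⁻¹ := by
    have hinj : Function.Injective f₁ := Subtype.val_injective.comp ψ₁.injective
    refine hinj ?_
    have hw : f₂ w₂ = f₁ w₁ :=
      (hψ₂ _ w₂.2 (mem_cent.2 hM.w_comm)).trans (hψ₁ _ w₁.2 (mem_cent.2 hM.w_comm)).symm
    have e : w₂ * n₂ * w₂⁻¹ = n₂⁻¹ := Subtype.ext hM.w_inv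
    have e' := congrArg f₂ e
    simp only [map_mul, map_inv, hw, hn₂] at e'
    simp only [map_mul, map_inv]
    exact e'
  have hcase := hM.only dd ⟨hd₁, hd₂⟩
    (congrArg (fun y : Subgroup.normalizer (regE S₁ : Set M) => (y : M)) hinv)
  have hrange : ∀ (L : LocalHoms t0 n (regE S₁) (regE S₂) G),
      L.lamC = (Subgroup.subtype _).comp φ.toMonoidHom → Function.Injective L.lamC ∧
      L.lamC.range = Subgroup.centralizer ({t} : Set G) ∧ ∀ h, L.lamC ⟨t0, h⟩ = t := by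
    intro L hL
    rw [hL]
    refine ⟨Subtype.val_injective.comp φ.injective, ?_, hφt⟩
    rw [MonoidHom.range_comp, MonoidHom.range_eq_top.2 φ.surjective, ← MonoidHom.range_eq_map,
      Subgroup.range_subtype]
  rcases hcase with h | h
  · refine ⟨⟨(Subgroup.subtype _).comp φ.toMonoidHom, f₁, f₂, hψ₁, hψ₂, fun h₁ h₂ => ?_⟩, hrange _ rfl⟩
    show f₁ n₁ = f₂ n₂
    rw [hn₂, show n₁ * d₁ = n₁ from Subtype.ext h]
  · let z₁ : Subgroup.normalizer (regE S₁ : Set M) := ⟨t0, Subgroup.le_normalizer (z_mem_regE S₁)⟩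
    let g₁ := f₁.comp (MulAut.conj z₁).toMonoidHom
    refine ⟨⟨(Subgroup.subtype _).comp φ.toMonoidHom, g₁, f₂, fun x hx hc => ?_, hψ₂,
      fun h₁ h₂ => ?_⟩, hrange _ rfl⟩
    · show f₁ (z₁ * ⟨x, hx⟩ * z₁⁻¹) = _
      rw [show z₁ * ⟨x, hx⟩ * z₁⁻¹ = (⟨x, hx⟩ : Subgroup.normalizer (regE S₁ : Set M)) from
        Subtype.ext (mul_inv_eq_iff_eq_mul.2 (mem_cent.1 hc).symm.eq)]
      exact hψ₁ _ hx hc
    · show f₁ (z₁ * n₁ * z₁⁻¹) = f₂ n₂
      rw [hn₂]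
      refine congrArg f₁ (Subtype.ext ?_)
      show t0 * n * t0⁻¹ = n * (dd : M)
      rw [h, S₁.z_inv]

end

/-- Without a fused involution the group is the product of the centraliser and the odd core. -/
theorem centralizer_sup_oddCore_of_not_fused {G : Type u} [Group G] [Finite G] {t : G}
    (ht : orderOf t = 2) (h : ¬ ∃ i : G, Commute i t ∧ i ≠ t ∧ IsConj t i) :
    Subgroup.centralizer ({t} : Set G) ⊔ Cfsg.oddCore G = ⊤ := by
  refine CfsgLib.CoreFree.centralizer_sup_oddCore_eq_top ht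
    (CfsgLib.Involutions.zstar_theorem ht (CfsgLib.CoreFree.oddComm_of_commuting_eq ht fun g hg => ?_))
  by_contra hne
  exact h ⟨_, hg.symm, hne, isConj_iff.2 ⟨g, rfl⟩⟩

end CfsgLib.McLRecog
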