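import Cfsg.Agent.Lib.McLRecog.Amalgam
import Cfsg.Agent.Lib.InvolutionClasses.EmbeddedCount

/-!
A model with the amalgam as its completion, one class of involutions and no large subgroup of odd order
is the only group, besides the trivial case, with its centraliser of an involution.
-/

set_option autoImplicit false

namespace CfsgLib.McLRecog

open CfsgLib.AltDoubleCent

universe u v

theorem recog {M : Type v} [Group M] [Finite M] [IsSimpleGroup M] {t0 n w : M} {E₁ E₂ : Subgroup M}
    (hM : LocalFacts M t0 n w E₁ E₂) (hcomp : Completes.{u} t0 n E₁ E₂)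
    (hcard : Nat.card M = 22275 * 40320)
    (hone : ∀ x : M, orderOf x = 2 → IsConj t0 x)
    (hsmall : ∀ D : Subgroup M, Odd (Nat.card D) → Nat.card D < 22275)
    {G : Type u} [Group G] [Finite G] (t : G) (ht : orderOf t = 2)
    (hcov : Cfsg.IsNonsplitDoubleCover (Subgroup.centralizer ({t} : Set G)) (alternatingGroup (Fin 8))) :
    Subgroup.centralizer ({t} : Set G) ⊔ Cfsg.oddCore G = ⊤ ∨ Nonempty (G ≃* M) := by
  classical
  by_cases hfus : ∃ i : G, Commute i t ∧ i ≠ t ∧ IsConj t i
  swap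
  · exact Or.inl (centralizer_sup_oddCore_of_not_fused ht hfus)
  right
  obtain ⟨L, hLinj, hLrange, hLt⟩ := exists_localHoms hM ht hcov hfus
  obtain ⟨ψ, hψ⟩ := hcomp G L
  have htc : t0 ∈ Subgroup.centralizer ({t0} : Set M) := mem_cent.2 (Commute.refl t0)
  have ht0 : ψ t0 = t := (hψ t0 htc).trans (hLt htc)
  have hinj : Function.Injective ψ := by
    rw [← MonoidHom.ker_eq_bot_iff]
    refine (IsSimpleGroup.eq_bot_or_eq_top_of_normal ψ.ker inferInstance).resolve_right fun h => ?_
    have h1 : ψ t0 = 1 := (h ▸ Subgroup.mem_top t0 : t0 ∈ ψ.ker)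
    rw [ht0] at h1
    rw [h1, orderOf_one] at ht
    exact absurd ht (by norm_num)
  have hord : ∀ x : M, orderOf (ψ x) = orderOf x := orderOf_injective ψ hinj
  have hnum : 22275 ≤ Nat.card {x : G // x ∈ ψ.range ∧ orderOf x = 2} := by
    obtain ⟨S₀⟩ := Setting.nonempty (by norm_num) hM.order_t hM.cover
    have hC : Nat.card (Subgroup.centralizer ({t0} : Set M)) = 40320 := by
      rw [card_cover S₀.surj (setting_ker S₀).2]
      have h2 := two_mul_nat_card_alternatingGroup (α := Fin 8)
      rw [Nat.card_perm, Nat.card_fin] at h2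
      simp only [show Nat.factorial 8 = 40320 from rfl] at h2
      omega
    have hidx := (Subgroup.centralizer ({t0} : Set M)).card_mul_index
    rw [hC, hcard] at hidx
    have hidx' : (Subgroup.centralizer ({t0} : Set M)).index = 22275 := by omega
    rw [← hidx']
    let f : M ⧸ Subgroup.centralizer ({t0} : Set M) → {x : G // x ∈ ψ.range ∧ orderOf x = 2} :=
      Quotient.lift (fun g => ⟨ψ (g * t0 * g⁻¹), ⟨_, rfl⟩, by rw [hord, show g * t0 * g⁻¹ = MulAut.conj g t0 from rfl, MulEquiv.orderOf_eq, hM.order_t]⟩)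
        fun a b hab => by
          change (QuotientGroup.leftRel _).r a b at hab
          rw [QuotientGroup.leftRel_apply] at hab
          refine Subtype.ext (congrArg ψ ?_)
          have h := (mem_cent.1 hab).eq
          calc a * t0 * a⁻¹ = a * (t0 * (a⁻¹ * b)) * b⁻¹ := by group
            _ = a * (a⁻¹ * b * t0) * b⁻¹ := by rw [h]
            _ = b * t0 * b⁻¹ := by group
    refine Nat.card_le_card_of_injective f ?_
    rintro ⟨a⟩ ⟨b⟩ hab
    have h : a * t0 * a⁻¹ = b * t0 * b⁻¹ := hinj (congrArg Subtype.val hab)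
    refine Quotient.sound ?_
    show (QuotientGroup.leftRel _).r a b
    rw [QuotientGroup.leftRel_apply]
    refine mem_cent.2 ?_
    show a⁻¹ * b * t0 = t0 * (a⁻¹ * b)
    calc a⁻¹ * b * t0 = a⁻¹ * (b * t0 * b⁻¹) * b := by group
      _ = a⁻¹ * (a * t0 * a⁻¹) * b := by rw [h]
      _ = t0 * (a⁻¹ * b) := by group
  have htop : ψ.range = ⊤ := by
    refine CfsgLib.InvolutionClasses.EmbeddedCount.eq_top ψ.range ht ⟨t0, ht0⟩ ?_ ?_ ?_
    · rw [← hLrange]
      rintro _ ⟨⟨x, hx⟩, rfl⟩
      exact ⟨x, hψ x hx⟩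
    · rintro _ ⟨x, rfl⟩ hx
      rw [hord] at hx
      obtain ⟨g, hg⟩ := isConj_iff.1 (hone x hx)
      exact ⟨ψ g, ⟨g, rfl⟩, by rw [← ht0, ← map_inv, ← map_mul, ← map_mul, hg]⟩
    · intro D hD hodd
      have hc : Nat.card (D.comap ψ) = Nat.card D := by
        rw [← Subgroup.card_map_of_injective hinj, Subgroup.map_comap_eq_self hD]
      calc Nat.card D = Nat.card (D.comap ψ) := hc.symm
        _ < 22275 := hsmall _ (hc ▸ hodd)
        _ ≤ _ := hnum
  exact ⟨(MulEquiv.ofBijective ψ ⟨hinj, MonoidHom.range_eq_top.1 htop⟩).symm⟩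

end CfsgLib.McLRecog
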