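import Cfsg.Agent.Lib.McLRecog.Main
import Cfsg.Agent.Lib.McLInv.Main
import Cfsg.Agent.Lib.RankThreeMcL.Model

/-!
The group of permutations on 275 points as a model: simplicity, order, one class of involutions, and
the fields of the local facts which do not depend on explicit elements.
-/

set_option autoImplicit false

namespace CfsgLib.McLRecog

open CfsgLib.RankThreeMcL CfsgLib.Mathieu.McLOut CfsgLib.SchurMult.McLTwoFive

universe u

instance finite_mclS : Finite mclS := Nat.finite_of_card_ne_zero (by rw [natCard_mclS]; norm_num)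

/-- The model is the group of the definitions. -/
noncomputable def mclSEquiv : mclS ≃* Cfsg.Spor.McL := equivS.symm.trans equivMcL

theorem natCard_model : Nat.card mclS = 22275 * 40320 := natCard_mclS

theorem isSimple_model : IsSimpleGroup mclS := by
  have := isSimpleGroup_KG
  exact MulEquiv.isSimpleGroup equivS.symm

theorem isConj_model (x y : mclS) (hx : orderOf x = 2) (hy : orderOf y = 2) : IsConj x y := by
  have h := CfsgLib.McLInv.mcl_involution_centraliser.1 (mclSEquiv x) (mclSEquiv y)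
    (by rw [MulEquiv.orderOf_eq, hx]) (by rw [MulEquiv.orderOf_eq, hy])
  have h' := mclSEquiv.symm.toMonoidHom.map_isConj h
  simpa using h'

theorem isNonsplit_model (t0 : mclS) (ht : orderOf t0 = 2) :
    Cfsg.IsNonsplitDoubleCover (Subgroup.centralizer ({t0} : Set mclS)) (alternatingGroup (Fin 8)) := by
  obtain ⟨hc, s, hs, hcov⟩ := CfsgLib.McLInv.mcl_involution_centraliser
  obtain ⟨g, hg⟩ := isConj_iff.1 (hc s (mclSEquiv t0) hs (by rw [MulEquiv.orderOf_eq, ht]))
  let e : Cfsg.Spor.McL ≃* mclS := (MulAut.conj g).trans mclSEquiv.symm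
  have he : e s = t0 := by
    show mclSEquiv.symm (g * s * g⁻¹) = t0
    rw [hg, mclSEquiv.symm_apply_apply]
  rw [← he]
  exact CfsgLib.McLInv.isNonsplit_congr (CfsgLib.McLInv.centralizerCongr e s) hcov

/-- In the model the fields `cover` and `fused` follow from a second involution of `E₁`. -/
theorem localFacts_of_mclS {t0 n w : mclS} {E₁ E₂ : Subgroup mclS} (order_t : orderOf t0 = 2)
    (card₁ : Nat.card E₁ = 16) (card₂ : Nat.card E₂ = 16) (mem₁ : t0 ∈ E₁) (mem₂ : t0 ∈ E₂)
    (sq₁ : ∀ x ∈ E₁, x * x = 1) (sq₂ : ∀ x ∈ E₂, x * x = 1)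
    (n_mem₁ : n ∈ Subgroup.normalizer (E₁ : Set mclS)) (n_mem₂ : n ∈ Subgroup.normalizer (E₂ : Set mclS))
    (w_mem₁ : w ∈ Subgroup.normalizer (E₁ : Set mclS)) (w_mem₂ : w ∈ Subgroup.normalizer (E₂ : Set mclS))
    (w_comm : Commute w t0) (w_inv : w * n * w⁻¹ = n⁻¹)
    (le₁₂ : E₁ ≤ Subgroup.normalizer (E₂ : Set mclS)) (le₂₁ : E₂ ≤ Subgroup.normalizer (E₁ : Set mclS))
    (only : ∀ d ∈ E₁ ⊓ E₂, w * (n * d) * w⁻¹ = (n * d)⁻¹ → n * d = n ∨ n * d = t0 * n * t0) :
    LocalFacts mclS t0 n w E₁ E₂ := by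
  refine ⟨order_t, isNonsplit_model t0 order_t, ?_, card₁, card₂, mem₁, mem₂, sq₁, sq₂, n_mem₁, n_mem₂,
    w_mem₁, w_mem₂, w_comm, w_inv, le₁₂, le₂₁, only⟩
  classical
  obtain ⟨i, hi, hi1, hit⟩ : ∃ i ∈ E₁, i ≠ 1 ∧ i ≠ t0 := by
    by_contra hcon
    push Not at hcon
    have hle : Nat.card E₁ ≤ 2 := by
      have hsub : ∀ x : E₁, x = 1 ∨ x = ⟨t0, mem₁⟩ := fun x => by
        by_cases h : (x : mclS) = 1
        · exact Or.inl (Subtype.ext h)
        · exact Or.inr (Subtype.ext (hcon x x.2 h))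
      refine le_trans (Nat.card_le_card_of_surjective (fun b : Bool => if b then (1 : E₁) else ⟨t0, mem₁⟩)
        fun x => ?_) (by simp)
      rcases hsub x with h | h
      · exact ⟨true, h.symm⟩
      · exact ⟨false, h.symm⟩
    omega
  refine ⟨i, ?_, hit, isConj_model t0 i order_t ?_⟩
  · have hti : (i * t0) * (i * t0) = 1 := sq₁ _ (mul_mem hi mem₁)
    show i * t0 = t0 * i
    calc i * t0 = (i * t0)⁻¹ := (inv_eq_of_mul_eq_one_right hti).symm
      _ = t0 * i := by
        rw [mul_inv_rev, inv_eq_of_mul_eq_one_right (sq₁ i hi),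
          inv_eq_of_mul_eq_one_right (sq₁ t0 mem₁)]
  · exact orderOf_eq_prime (by rw [pow_two]; exact sq₁ i hi) hi1

/-- The characterisation, given the completion and the bound on subgroups of odd order. -/
theorem recog_mcl {t0 n w : mclS} {E₁ E₂ : Subgroup mclS} (hM : LocalFacts mclS t0 n w E₁ E₂)
    (hcomp : Completes.{u} t0 n E₁ E₂)
    (hsmall : ∀ D : Subgroup mclS, Odd (Nat.card D) → Nat.card D < 22275)
    {G : Type u} [Group G] [Finite G] (t : G) (ht : orderOf t = 2)
    (hcov : Cfsg.IsNonsplitDoubleCover (Subgroup.centralizer ({t} : Set G)) (alternatingGroup (Fin 8))) :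
    Subgroup.centralizer ({t} : Set G) ⊔ Cfsg.oddCore G = ⊤ ∨ Nonempty (G ≃* Cfsg.Spor.McL) := by
  have := isSimple_model
  rcases recog hM hcomp natCard_model (fun x hx => isConj_model t0 x hM.order_t hx) hsmall t ht hcov with h | h
  · exact Or.inl h
  · obtain ⟨e⟩ := h
    exact Or.inr ⟨e.trans mclSEquiv⟩

end CfsgLib.McLRecog
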