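import Cfsg.Agent.Lib.RankThreeRecog.Words
import Mathlib.Algebra.Group.Subgroup.Finite
import Mathlib.GroupTheory.OrderOfElement

/-!
Kernel checks for small elementary subgroups given by letters of a table: closure, order, exponent,
normalisers, and the elements inverted by a letter.
-/

set_option autoImplicit false

namespace CfsgLib.McLRecog.ModelCheck

open CfsgLib.RankThreeRecog

/-- The product of a word of letters. -/
def val {M : Type*} [Group M] (x : ℕ → M) : List ℕ → M
  | [] => 1
  | i :: v => x i * val x v

/-- All subwords of a word. -/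
def subs : List ℕ → List (List ℕ) :=
  fun l => List.rec [[]] (fun g _ ih => ih ++ ih.map (List.cons g)) l

/-- Two words agree on every point. -/
noncomputable def same (T : ℕ → ℕ → ℕ) (N : ℕ) (a b : List ℕ) : Bool := sameOn T (List.range N) a b

/-- The subwords are closed under left multiplication by the letters. -/
noncomputable def closedOk (T : ℕ → ℕ → ℕ) (N : ℕ) (gens : List ℕ) : Bool :=
  gens.all fun g => same T N [g, g] [] && (subs gens).all fun v =>
    (subs gens).any fun v' => same T N (g :: v) v'

/-- The squares of the subwords are trivial. -/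
noncomputable def squareOk (T : ℕ → ℕ → ℕ) (N : ℕ) (gens : List ℕ) : Bool :=
  (subs gens).all fun v => same T N (v ++ v) []

/-- The subwords are told apart by some points. -/
noncomputable def distinctOn (T : ℕ → ℕ → ℕ) (pts : List ℕ) (l : List (List ℕ)) : Bool :=
  List.rec true (fun v vs ih => (vs.all fun v' => !sameOn T pts v v') && ih) l

/-- A letter carries the letters of a word into the subwords by conjugation. -/
noncomputable def normOk (T : ℕ → ℕ → ℕ) (N : ℕ) (g : ℕ) (gens : List ℕ) : Bool :=
  gens.all fun h => (subs gens).any fun v => same T N [g, h] (v ++ [g])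

/-- The common elements whose product with `n` is inverted by `w`. -/
noncomputable def onlyOk (T : ℕ → ℕ → ℕ) (N : ℕ) (pts : List ℕ) (t n w : ℕ) (g₁ g₂ : List ℕ) : Bool :=
  (subs g₁).all fun v =>
    ((subs g₂).all fun v' => !sameOn T pts v v') || same T N v [] || same T N (n :: v) [t, n, t] ||
      !sameOn T pts (n :: (v ++ (w :: n :: v))) [w]

variable {M : Type*} [Group M] {N : ℕ} {T : ℕ → ℕ → ℕ} {x : ℕ → M} {ρ : M →* Equiv.Perm (Fin N)}

theorem val_append (a b : List ℕ) : val x (a ++ b) = val x a * val x b := by
  induction a with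
  | nil => simp [val]
  | cons i a ih => rw [List.cons_append, val, val, ih, mul_assoc]

theorem map_val (a : List ℕ) : ρ (val x a) = wperm (fun i => ρ (x i)) a := by
  induction a with
  | nil => exact map_one ρ
  | cons i a ih => rw [val, map_mul, ih, wperm]

/-- The subgroup generated by the letters of a word. -/
abbrev span (x : ℕ → M) (gens : List ℕ) : Subgroup M := Subgroup.closure (x '' {i | i ∈ gens})

theorem letter_mem_span {gens : List ℕ} {i : ℕ} (h : i ∈ gens) : x i ∈ span x gens :=
  Subgroup.subset_closure ⟨i, h, rfl⟩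

theorem mem_subs {gens v : List ℕ} (h : v ∈ subs gens) : ∀ i ∈ v, i ∈ gens := by
  induction gens generalizing v with
  | nil => rw [List.mem_singleton.1 h]; intro i hi; exact hi
  | cons g gens ih =>
    change v ∈ subs gens ++ (subs gens).map (List.cons g) at h
    rcases List.mem_append.1 h with h | h
    · exact fun i hi => List.mem_cons_of_mem _ (ih h i hi)
    · obtain ⟨u, hu, rfl⟩ := List.mem_map.1 h
      intro i hi
      rcases List.mem_cons.1 hi with rfl | hi
      exacts [List.mem_cons_self .., List.mem_cons_of_mem _ (ih hu i hi)]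

theorem nil_mem_subs (gens : List ℕ) : [] ∈ subs gens := by
  induction gens with
  | nil => exact List.mem_singleton_self _
  | cons g gens ih => exact List.mem_append.2 (Or.inl ih)

theorem val_mem {gens v : List ℕ} (h : ∀ i ∈ v, i ∈ gens) : val x v ∈ span x gens := by
  induction v with
  | nil => exact one_mem _
  | cons i v ih =>
    exact mul_mem (letter_mem_span (h i (List.mem_cons_self ..)))
      (ih fun j hj => h j (List.mem_cons_of_mem _ hj))

section
variable (hT : Describes T fun i => ρ (x i))
include hT

theorem sameOn_of_eq {pts a b : List ℕ} (hp : ∀ p ∈ pts, p < N) (e : val x a = val x b) :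
    sameOn T pts a b = true := by
  rw [sameOn, List.all_eq_true]
  intro p hp'
  have h1 := ev_eq hT a ⟨p, hp p hp'⟩
  have h2 := ev_eq hT b ⟨p, hp p hp'⟩
  rw [← map_val, e, map_val] at h1
  change Nat.beq _ _ = true
  rw [← h1, ← h2]
  exact Nat.beq_refl _

theorem ne_of_sameOn {pts a b : List ℕ} (hp : ∀ p ∈ pts, p < N) (h : sameOn T pts a b = false) :
    val x a ≠ val x b := fun e => by rw [sameOn_of_eq hT hp e] at h; exact Bool.noConfusion h

variable (hρ : Function.Injective ρ)
include hρ

theorem eq_of_same {a b : List ℕ} (h : same T N a b = true) : val x a = val x b := by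
  refine hρ ?_
  rw [map_val, map_val]
  exact Equiv.ext fun u => sameOn_spec hT h u (List.mem_range.2 u.2)

theorem letter_sq {i : ℕ} (h : same T N [i, i] [] = true) : x i * x i = 1 := by
  simpa [val] using eq_of_same hT hρ h

theorem exists_val_of_mem_span {gens : List ℕ} (h : closedOk T N gens = true) {z : M}
    (hz : z ∈ span x gens) : ∃ v ∈ subs gens, val x v = z := by
  simp only [closedOk, List.all_eq_true, Bool.and_eq_true, List.any_eq_true] at h
  have step : ∀ g ∈ gens, ∀ y : M, (∃ v ∈ subs gens, val x v = y) →
      ∃ v ∈ subs gens, val x v = x g * y := by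
    rintro g hg y ⟨v, hv, rfl⟩
    obtain ⟨v', hv', e⟩ := (h g hg).2 v hv
    exact ⟨v', hv', (eq_of_same hT hρ e).symm⟩
  induction hz using Subgroup.closure_induction_left with
  | one => exact ⟨[], nil_mem_subs gens, rfl⟩
  | mul_left a ha y hy ih =>
    obtain ⟨g, hg, rfl⟩ := ha
    exact step g hg y ih
  | inv_mul_cancel a ha y hy ih =>
    obtain ⟨g, hg, rfl⟩ := ha
    rw [inv_eq_of_mul_eq_one_right (letter_sq hT hρ (h g hg).1)]
    exact step g hg y ih

theorem span_sq {gens : List ℕ} (h : closedOk T N gens = true) (h' : squareOk T N gens = true) :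
    ∀ z ∈ span x gens, z * z = 1 := by
  intro z hz
  obtain ⟨v, hv, rfl⟩ := exists_val_of_mem_span hT hρ h hz
  rw [← val_append]
  exact eq_of_same hT hρ (List.all_eq_true.1 h' v hv)

omit hρ in
theorem nodup_of_distinctOn {pts : List ℕ} (hp : ∀ p ∈ pts, p < N) :
    ∀ {l : List (List ℕ)}, distinctOn T pts l = true → (l.map (val x)).Nodup
  | [], _ => List.nodup_nil
  | v :: vs, h => by
    change ((vs.all fun v' => !sameOn T pts v v') && distinctOn T pts vs) = true at h
    simp only [Bool.and_eq_true, List.all_eq_true, Bool.not_eq_true'] at h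
    rw [List.map_cons, List.nodup_cons]
    refine ⟨?_, nodup_of_distinctOn hp h.2⟩
    rw [List.mem_map]
    rintro ⟨v', hv', e⟩
    exact ne_of_sameOn hT hp (h.1 v' hv') e.symm

theorem card_span {gens pts : List ℕ} (hp : ∀ p ∈ pts, p < N) (h : closedOk T N gens = true)
    (h' : distinctOn T pts (subs gens) = true) : Nat.card (span x gens) = (subs gens).length := by
  classical
  have e : (span x gens : Set M) = ↑((subs gens).map (val x)).toFinset := by
    ext z
    simp only [SetLike.mem_coe, List.coe_toFinset, Set.mem_ofPred_eq, List.mem_map]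
    exact ⟨exists_val_of_mem_span hT hρ h, fun ⟨v, hv, e⟩ => e ▸ val_mem (mem_subs hv)⟩
  rw [show Nat.card (span x gens) = (span x gens : Set M).ncard from Nat.card_coe_set_eq _, e,
    Set.ncard_coe_finset, List.toFinset_card_of_nodup (nodup_of_distinctOn hT hp h'), List.length_map]

theorem mem_normalizer_span {g : ℕ} {gens : List ℕ} (h : normOk T N g gens = true) :
    x g ∈ Subgroup.normalizer (span x gens : Set M) := by
  have : Finite M := Finite.of_injective ρ hρ
  simp only [normOk, List.all_eq_true, List.any_eq_true] at h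
  set c := (MulAut.conj (x g)).toMonoidHom
  have hle : (span x gens).map c ≤ span x gens := by
    rw [MonoidHom.map_closure, Subgroup.closure_le]
    rintro _ ⟨_, ⟨i, hi, rfl⟩, rfl⟩
    obtain ⟨v, hv, e⟩ := h i hi
    have e' := eq_of_same hT hρ e
    rw [val_append] at e'
    simp only [val, mul_one] at e'
    show x g * x i * (x g)⁻¹ ∈ span x gens
    rw [e', mul_inv_cancel_right]
    exact val_mem (mem_subs hv)
  have heq : (span x gens).map c = span x gens :=
    Subgroup.eq_of_le_of_card_ge hle (Subgroup.card_map_of_injective (MulAut.conj (x g)).injective).ge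
  rw [Subgroup.mem_normalizer_iff]
  refine fun y => ⟨fun hy => hle ⟨y, hy, rfl⟩, fun hy => ?_⟩
  rw [← heq] at hy
  obtain ⟨y', hy', e⟩ := hy
  exact (MulAut.conj (x g)).injective e ▸ hy'

theorem span_le_normalizer {gens gens' : List ℕ} (h : (gens.all fun g => normOk T N g gens') = true) :
    span x gens ≤ Subgroup.normalizer (span x gens' : Set M) := by
  rw [Subgroup.closure_le]
  rintro _ ⟨i, hi, rfl⟩
  exact mem_normalizer_span hT hρ (List.all_eq_true.1 h i hi)

theorem only_of_onlyOk {t n w : ℕ} {g₁ g₂ pts : List ℕ} (hp : ∀ p ∈ pts, p < N)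
    (h₁ : closedOk T N g₁ = true) (h₂ : closedOk T N g₂ = true)
    (h : onlyOk T N pts t n w g₁ g₂ = true) :
    ∀ d ∈ span x g₁ ⊓ span x g₂, x w * (x n * d) * (x w)⁻¹ = (x n * d)⁻¹ →
      x n * d = x n ∨ x n * d = x t * x n * x t := by
  rintro d ⟨hd₁, hd₂⟩ hinv
  obtain ⟨v, hv, rfl⟩ := exists_val_of_mem_span hT hρ h₁ hd₁
  obtain ⟨v', hv', e⟩ := exists_val_of_mem_span hT hρ h₂ hd₂
  simp only [onlyOk, List.all_eq_true] at h
  have hc := h v hv
  simp only [Bool.or_eq_true, List.all_eq_true, Bool.not_eq_true'] at hc
  rcases hc with ((hc | hc) | hc) | hc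
  · exact absurd e.symm (ne_of_sameOn hT hp (hc v' hv'))
  · left
    rw [eq_of_same hT hρ hc, val, mul_one]
  · right
    have := eq_of_same hT hρ hc
    simpa [val, mul_assoc] using this
  · refine absurd ?_ (ne_of_sameOn hT hp hc)
    simp only [val, val_append, mul_one]
    calc x n * (val x v * (x w * (x n * val x v)))
        = (x n * val x v) * (x w * (x n * val x v) * (x w)⁻¹) * x w := by group
      _ = x w := by rw [hinv]; group

end

end CfsgLib.McLRecog.ModelCheck
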