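import Cfsg.Agent.Lib.McLRecog.OddPoints
import Cfsg.Agent.Lib.Cores.Fitting
import Cfsg.Agent.S0205

/-!
# Subgroups of odd order of the McLaughlin group have order less than 22275

By the odd order theorem such a subgroup is solvable; its Fitting subgroup and the fixed points of
elements of prime order on the 275 points give the bound.
-/

set_option autoImplicit false
set_option linter.style.haveILetI false
set_option linter.unusedSectionVars false

namespace CfsgLib.McLRecog.OddSubgroups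

open CfsgLib.Mathieu.McLOut (KG natCard_KG)
open CfsgLib.SchurMult.McLTwoFive (rep rep_injective finite_KG)
open OddActions OddPoints

attribute [local instance] OddPoints.pointAction

variable {x y : KG}

theorem no77 (hx : orderOf x = 7) (hy : orderOf y = 11) : ¬ Commute x y := by
  intro hc
  have h := both_modEq (α := Fin 275) hc (p := 11) (n := 1) (by norm_num)
    (by rw [pow_one, ← hy, pow_orderOf_eq_one])
  have h0 := both_le' (α := Fin 275) x y
  rw [fix_eleven hy, Nat.le_zero] at h0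
  rw [h0, fix_seven hx] at h
  exact absurd h (by decide)

theorem no33 (hx : orderOf x = 3) (hy : orderOf y = 11) : ¬ Commute x y := by
  intro hc
  have h := both_modEq (α := Fin 275) hc (p := 11) (n := 1) (by norm_num)
    (by rw [pow_one, ← hy, pow_orderOf_eq_one])
  have h0 := both_le' (α := Fin 275) x y
  rw [fix_eleven hy, Nat.le_zero] at h0
  have h3 := fix_three (x := x) (by rintro rfl; rw [orderOf_one] at hx; norm_num at hx) (k := 1)
    (by rw [pow_one, ← hx, pow_orderOf_eq_one])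
  rw [h0] at h
  simp only [Finset.mem_insert, Finset.mem_singleton] at h3
  rcases h3 with h3 | h3 | h3 <;> rw [h3] at h <;> exact absurd h (by decide)

theorem no35 (hx : orderOf x = 5) (hy : orderOf y = 7) : ¬ Commute x y := by
  intro hc
  have h1 := both_modEq (α := Fin 275) hc.symm (p := 5) (n := 1) (by norm_num)
    (by rw [pow_one, ← hx, pow_orderOf_eq_one])
  have h2 := both_modEq (α := Fin 275) hc (p := 7) (n := 1) (by norm_num)
    (by rw [pow_one, ← hy, pow_orderOf_eq_one])
  have hle := both_le (α := Fin 275) y x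
  have hle' := both_le (α := Fin 275) x y
  rw [fix_seven hy] at h1 hle
  have e : both (Fin 275) y x = 2 := modEq_eq h1 (by omega) (by norm_num)
  rw [both_comm, e] at h2 hle'
  rcases fix_five hx with h | h <;> rw [h] at h2 hle'
  · omega
  · exact absurd h2 (by decide)

theorem fpf_of_commute_eleven (hx : orderOf x = 5) (hy : orderOf y = 11) (hc : Commute x y) :
    fix (Fin 275) x = 0 := by
  have h := both_modEq (α := Fin 275) hc (p := 11) (n := 1) (by norm_num)
    (by rw [pow_one, ← hy, pow_orderOf_eq_one])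
  have h0 := both_le' (α := Fin 275) x y
  rw [fix_eleven hy, Nat.le_zero] at h0
  rw [h0] at h
  rcases fix_five hx with h5 | h5
  · exact h5
  · rw [h5] at h
    exact absurd h (by decide)

theorem no_eighty_one (hx : orderOf x = 5) (hfix : fix (Fin 275) x = 0) (R : Subgroup KG)
    (hR : Nat.card R = 81) (hc : ∀ r ∈ R, Commute r x) : False := by
  refine no_five_fixers R hR (Nat.card_fin 275) fun r hr hr1 => ?_
  have h81 : r ^ 3 ^ 4 = 1 := by
    have := pow_card_eq_one' (G := R) (x := ⟨r, hr⟩)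
    rw [hR] at this
    exact congrArg Subtype.val this
  have h3 := fix_three hr1 h81
  have h := both_modEq (α := Fin 275) (hc r hr) (p := 5) (n := 1) (by norm_num)
    (by rw [pow_one, ← hx, pow_orderOf_eq_one])
  have h0 := both_le' (α := Fin 275) r x
  rw [hfix, Nat.le_zero] at h0
  rw [h0] at h
  simp only [Finset.mem_insert, Finset.mem_singleton] at h3
  rcases h3 with h3 | h3 | h3
  · rw [h3] at h; exact absurd h (by decide)
  · exact h3
  · rw [h3] at h; exact absurd h (by decide)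

/-- Elements of odd order commuting with an element of order 7. -/
theorem card_le_of_commute_seven (hy : orderOf y = 7) (C : Subgroup KG) (hodd : Odd (Nat.card C))
    (hyC : y ∈ C) (hc : ∀ c ∈ C, Commute c y) : Nat.card C ≤ 315 := by
  classical
  haveI := finite_KG
  have hf := fix_seven hy
  rw [fix, Nat.card_eq_fintype_card, Fintype.card_subtype, Finset.card_eq_two] at hf
  obtain ⟨a, b, hab, he⟩ := hf
  have hmem : ∀ u : Fin 275, y • u = u ↔ u = a ∨ u = b := fun u => by
    have := Finset.ext_iff.1 he u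
    simpa using this
  let P : Subgroup KG := MulAction.stabilizer KG a ⊓ MulAction.stabilizer KG b
  have hle : C ≤ P := by
    intro c hc'
    have hmv : ∀ u : Fin 275, y • u = u → y • (c • u) = c • u := fun u hu => by
      rw [← mul_smul, ← (hc c hc').eq, mul_smul, hu]
    have hcase : ∀ u : Fin 275, u = a ∨ u = b → c • u = a ∨ c • u = b := fun u hu => (hmem _).1 (hmv u ((hmem u).2 hu))
    obtain ⟨k, hk⟩ := hodd
    have hpow : c ^ Nat.card C = 1 := congrArg Subtype.val (pow_card_eq_one' (G := C) (x := ⟨c, hc'⟩))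
    have hsq : ∀ u : Fin 275, u = a ∨ u = b → c • c • u = u := by
      intro u hu
      by_cases hcu : c • u = u
      · rw [hcu, hcu]
      have h1 := hcase u hu
      have h2 := hcase _ h1
      have hne : c • c • u ≠ c • u := fun e => hcu (smul_left_cancel (g := c) e)
      rcases hu with rfl | rfl <;> rcases h1 with h1 | h1 <;> rcases h2 with h2 | h2 <;> simp_all
    have hev : ∀ m : ℕ, ∀ u : Fin 275, u = a ∨ u = b → c ^ (2 * m) • u = u := by
      intro m
      induction m with
      | zero => simp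
      | succ m ih =>
        intro u hu
        rw [show 2 * (m + 1) = 2 * m + 2 from rfl, pow_add, mul_smul, pow_two, mul_smul, hsq u hu, ih u hu]
    have hfix : ∀ u : Fin 275, u = a ∨ u = b → c • u = u := by
      intro u hu
      have := hev k u hu
      conv_rhs => rw [← one_smul KG u, ← hpow, hk, pow_succ', mul_smul, this]
    exact ⟨hfix a (Or.inl rfl), hfix b (Or.inr rfl)⟩
  have hdvd := Subgroup.card_dvd_of_le hle
  have h7 : 7 ∣ Nat.card C := hy ▸ Subgroup.orderOf_dvd_natCard _ hyC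
  have hP : Nat.card P = Nat.card {g : KG // g • a = a ∧ g • b = b} := rfl
  rcases card_pair hab with h | h <;> rw [hP, h] at hdvd
  · exact absurd (h7.trans hdvd) (by norm_num)
  · have hne : ¬ 2 ∣ Nat.card C := by rw [← even_iff_two_dvd]; exact Nat.not_even_iff_odd.2 hodd
    have hcop : Nat.Coprime (Nat.card C) (2 ^ 6) :=
      Nat.Coprime.pow_right _ ((Nat.prime_two.coprime_iff_not_dvd.2 hne).symm)
    exact Nat.le_of_dvd (by norm_num) (hcop.dvd_of_dvd_mul_left (by norm_num [hdvd] : Nat.card C ∣ 2 ^ 6 * 315))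

theorem orbit_arith_check : ∀ (a : Fin 7) (t : Fin 4) (k : Fin 3),
    (Nat.ble 5 a && !(Nat.beq k 0) && Nat.beq ((3 ^ (t : ℕ) * 5 ^ (k : ℕ) + (3 ^ (a : ℕ) - 3 ^ (t : ℕ))) % 3 ^ (a : ℕ)) 0) =
      false := by decide +kernel

theorem orbit_arith (a : ℕ) (ha : a ≤ 6) (h5 : 5 ≤ a) (t : ℕ) (ht : t ≤ 3) (k : ℕ) (hk : k ≤ 2) (hk0 : k ≠ 0) :
    (3 ^ t * 5 ^ k + (3 ^ a - 3 ^ t)) % 3 ^ a ≠ 0 := by
  intro h
  have := orbit_arith_check ⟨a, by omega⟩ ⟨t, by omega⟩ ⟨k, by omega⟩
  simp only [] at this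
  rw [h, Nat.ble_eq_true_of_le h5, show Nat.beq k 0 = false from
    Bool.eq_false_iff.2 fun c => hk0 (Nat.eq_of_beq_eq_true c)] at this
  simp at this

section Main

variable {D : Type*} [Group D] [Finite D] (ι : D →* KG) (hι : Function.Injective ι)
include hι

theorem orderOf_ι (a : D) : orderOf (ι a) = orderOf a := orderOf_injective ι hι a

theorem card_dvd : Nat.card D ∣ 898128000 := natCard_KG ▸ Subgroup.card_dvd_of_injective ι hι

/-- The centraliser of an element of prime order whose cyclic group is normal has small index. -/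
theorem index_centralizer_dvd {p : ℕ} (hp : p.Prime) (N : Subgroup D) [N.Normal] (hN : Nat.card N = p) :
    (Subgroup.centralizer (N : Set D)).index ∣ p - 1 := by
  haveI := Fact.mk hp
  haveI : IsCyclic N := isCyclic_of_prime_card hN
  have h1 : (MulAut.conjNormal : D →* MulAut N).ker = Subgroup.centralizer (N : Set D) := by
    ext g
    rw [MonoidHom.mem_ker, Subgroup.mem_centralizer_iff]
    constructor
    · intro h n hn
      have := congrArg (fun φ : MulAut N => ((φ ⟨n, hn⟩ : N) : D)) h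
      simp only [MulAut.conjNormal_apply, MulAut.one_apply] at this
      exact (mul_inv_eq_iff_eq_mul.1 this).symm
    · intro h
      ext n
      simp only [MulAut.conjNormal_apply, MulAut.one_apply]
      rw [← h n n.2, mul_inv_cancel_right]
  rw [← h1, Subgroup.index_ker]
  refine (Subgroup.card_subgroup_dvd_card _).trans ?_
  rw [IsCyclic.card_mulAut, hN, Nat.totient_prime hp]

omit hι in
theorem card_pCore {p d e : ℕ} (hp : p.Prime) (hd : Nat.card D ∣ p ^ e * d) (hpd : ¬ p ∣ d) :
    ∃ n ≤ e, Nat.card (Cfsg.pCore p D) = p ^ n := by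
  haveI := Fact.mk hp
  obtain ⟨n, hn⟩ := IsPGroup.iff_card.1 (CfsgLib.Cores.isPGroup_pCore p D)
  refine ⟨n, (Nat.pow_dvd_pow_iff_le_right hp.one_lt).1 ?_, hn⟩
  exact (Nat.Coprime.pow_left n (hp.coprime_iff_not_dvd.2 hpd)).dvd_of_dvd_mul_right
    ((hn ▸ Subgroup.card_subgroup_dvd_card (Cfsg.pCore p D)).trans hd)

theorem prime_cases (hodd : Odd (Nat.card D)) {p : ℕ} (hp : p.Prime) (hdvd : p ∣ Nat.card D) :
    p = 3 ∨ p = 5 ∨ p = 7 ∨ p = 11 := by
  have hd : p ∣ 2 ^ 7 * (3 ^ 6 * 5 ^ 3 * 7 * 11) := by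
    have := hdvd.trans (card_dvd ι hι)
    norm_num at this ⊢
    exact this
  rcases hp.dvd_mul.1 hd with h' | h'
  · exfalso
    rw [(Nat.prime_dvd_prime_iff_eq hp Nat.prime_two).1 (hp.dvd_of_dvd_pow h')] at hdvd
    exact (Nat.not_even_iff_odd.2 hodd) (even_iff_two_dvd.2 hdvd)
  rcases hp.dvd_mul.1 h' with h' | h'
  · rcases hp.dvd_mul.1 h' with h' | h'
    · rcases hp.dvd_mul.1 h' with h' | h'
      · simp [(Nat.prime_dvd_prime_iff_eq hp Nat.prime_three).1 (hp.dvd_of_dvd_pow h')]
      · simp [(Nat.prime_dvd_prime_iff_eq hp (by norm_num : Nat.Prime 5)).1 (hp.dvd_of_dvd_pow h')]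
    · simp [(Nat.prime_dvd_prime_iff_eq hp (by norm_num : Nat.Prime 7)).1 h']
  · simp [(Nat.prime_dvd_prime_iff_eq hp (by norm_num : Nat.Prime 11)).1 h']

/-- An element commuting with the cores at 3, 5, 7 and 11 lies in the Fitting subgroup. -/
theorem mem_fitting_of_commute [Group.IsSolvable D] {a : D}
    (h : ∀ p ∈ [3, 5, 7, 11], ∀ b ∈ Cfsg.pCore p D, Commute b a) (h2 : Odd (Nat.card D)) :
    a ∈ Cfsg.fittingSubgroup D := by
  refine CfsgLib.Cores.centralizer_fittingSubgroup_le (Subgroup.mem_centralizer_iff.2 fun b hb => ?_)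
  have hle : Cfsg.fittingSubgroup D ≤ Subgroup.centralizer {a} := by
    rw [CfsgLib.Cores.fittingSubgroup_eq_iSup_pCore]
    refine iSup_le fun p b hb => Subgroup.mem_centralizer_singleton_iff.2 (h p ?_ b hb).eq
    obtain ⟨hp, hdvd, -⟩ := Nat.mem_primeFactors.1 p.2
    simpa using prime_cases ι hι h2 hp hdvd
  exact (Subgroup.mem_centralizer_singleton_iff.1 (hle hb))

theorem fitting_le_three (hodd : Odd (Nat.card D)) (h5 : Cfsg.pCore 5 D = ⊥) (h7 : Cfsg.pCore 7 D = ⊥)
    (h11 : Cfsg.pCore 11 D = ⊥) : Cfsg.fittingSubgroup D ≤ Cfsg.pCore 3 D := by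
  rw [CfsgLib.Cores.fittingSubgroup_eq_iSup_pCore]
  refine iSup_le fun p => ?_
  obtain ⟨hp, hdvd, -⟩ := Nat.mem_primeFactors.1 p.2
  rcases prime_cases ι hι hodd hp hdvd with h | h | h | h <;> rw [h]
  · rw [h5]; exact bot_le
  · rw [h7]; exact bot_le
  · rw [h11]; exact bot_le

/-- An element of the core at `q` of `p`-power order is trivial. -/
theorem eq_one_of_mem_pCore {p q k : ℕ} (hp : p.Prime) (hq : q.Prime) (hne : p ≠ q) {a : D}
    (ha : a ^ p ^ k = 1) (hm : a ∈ Cfsg.pCore q D) : a = 1 := by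
  haveI := Fact.mk hq
  obtain ⟨n, hn⟩ := IsPGroup.iff_card.1 (CfsgLib.Cores.isPGroup_pCore q D)
  have h1 := hn ▸ Subgroup.orderOf_dvd_natCard _ hm
  have h2 := orderOf_dvd_of_pow_eq_one ha
  exact orderOf_eq_one_iff.1 (Nat.eq_one_of_dvd_coprimes
    (Nat.Coprime.pow k n ((Nat.coprime_primes hp hq).2 hne)) h2 h1)

theorem not_seven_dvd [Group.IsSolvable D] (hodd : Odd (Nat.card D)) (hbig : 22275 ≤ Nat.card D) :
    ¬ 7 ∣ Nat.card D := by
  intro h7
  haveI := finite_KG
  haveI : Fact (Nat.Prime 7) := ⟨by norm_num⟩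
  have hd := card_dvd ι hι
  obtain ⟨y, hy⟩ := exists_prime_orderOf_dvd_card' 7 h7
  have hy7 : y ^ 7 ^ 1 = 1 := by rw [pow_one, ← hy, pow_orderOf_eq_one]
  obtain ⟨n, hn, hc7⟩ := card_pCore (D := D) (p := 7) (e := 1) (d := 128304000) (by norm_num)
    (by norm_num at hd ⊢; exact hd) (by norm_num)
  rcases Nat.le_one_iff_eq_zero_or_eq_one.1 hn with rfl | rfl
  swap
  · -- a normal subgroup of order seven
    rw [pow_one] at hc7
    have hidx := index_centralizer_dvd ι hι (by norm_num) (Cfsg.pCore 7 D) hc7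
    set C := Subgroup.centralizer (Cfsg.pCore 7 D : Set D)
    obtain ⟨z, hz⟩ := exists_prime_orderOf_dvd_card' (G := Cfsg.pCore 7 D) 7 (by rw [hc7])
    have hzC : (z : D) ∈ C := Subgroup.mem_centralizer_iff.2 fun w hw => by
      haveI : IsCyclic (Cfsg.pCore 7 D) := isCyclic_of_prime_card hc7
      exact congrArg Subtype.val ((IsCyclic.isMulCommutative (α := Cfsg.pCore 7 D)).is_comm.comm ⟨w, hw⟩ z)
    have hbound := card_le_of_commute_seven (y := ι z) (by rw [orderOf_ι ι hι, Subgroup.orderOf_coe, hz]) (C.map ι)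
      (by rw [Subgroup.card_map_of_injective hι]
          exact hodd.of_dvd_nat (Subgroup.card_subgroup_dvd_card C))
      (Subgroup.mem_map_of_mem ι hzC)
      (by rintro _ ⟨c, hc, rfl⟩; exact (show Commute c (z : D) from (Subgroup.mem_centralizer_iff.1 hc z z.2).symm).map ι)
    rw [Subgroup.card_map_of_injective hι] at hbound
    have := C.card_mul_index
    have h6 : C.index ≤ 6 := Nat.le_of_dvd (by norm_num) hidx
    nlinarith
  have h7bot : Cfsg.pCore 7 D = ⊥ := Subgroup.eq_bot_of_card_eq _ (by rw [hc7, pow_zero])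
  obtain ⟨n5, hn5, hc5⟩ := card_pCore (D := D) (p := 5) (e := 3) (d := 7185024) (by norm_num)
    (by norm_num at hd ⊢; exact hd) (by norm_num)
  obtain ⟨n11, hn11, hc11⟩ := card_pCore (D := D) (p := 11) (e := 1) (d := 81648000) (by norm_num)
    (by norm_num at hd ⊢; exact hd) (by norm_num)
  obtain ⟨n3, hn3, hc3⟩ := card_pCore (D := D) (p := 3) (e := 6) (d := 1232000) (by norm_num)
    (by norm_num at hd ⊢; exact hd) (by norm_num)
  have k5 : ∀ n ≤ 3, ∀ m ≤ n, 5 ^ m % 7 = 5 ^ n % 7 → m = n := by decide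
  have k11 : ∀ n ≤ 1, ∀ m ≤ n, 11 ^ m % 7 = 11 ^ n % 7 → m = n := by decide
  have k3 : ∀ n ≤ 6, ∀ m ≤ n, 3 ^ m % 7 = 3 ^ n % 7 → m = n ∨ n = 6 ∧ m = 0 := by decide
  obtain ⟨m, hm, hmod, hcm, hcomm⟩ := centralizes_or (K := Cfsg.pCore 5 D) (by norm_num : Nat.Prime 7)
    (by norm_num : Nat.Prime 5) hy7 hc5
  have hQ := hcomm (k5 _ hn5 _ hm hmod)
  obtain ⟨m', hm', hmod', -, hcomm'⟩ := centralizes_or (K := Cfsg.pCore 11 D) (by norm_num : Nat.Prime 7)
    (by norm_num : Nat.Prime 11) hy7 hc11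
  have hE := hcomm' (k11 _ hn11 _ hm' hmod')
  obtain ⟨m3, hm3, hmod3, hcm3, hcomm3⟩ := centralizes_or (K := Cfsg.pCore 3 D) (by norm_num : Nat.Prime 7)
    Nat.prime_three hy7 hc3
  rcases k3 _ hn3 _ hm3 hmod3 with he | ⟨rfl, rfl⟩
  · have hyF : y ∈ Cfsg.fittingSubgroup D := mem_fitting_of_commute ι hι (by
      intro p hp b hb
      simp only [List.mem_cons, List.not_mem_nil, or_false] at hp
      rcases hp with rfl | rfl | rfl | rfl
      · exact hcomm3 he b hb
      · exact hQ b hb
      · rw [h7bot, Subgroup.mem_bot] at hb; subst b; exact Commute.one_left y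
      · exact hE b hb) hodd
    have h5triv : n5 = 0 := by
      by_contra h
      haveI : Fact (Nat.Prime 5) := ⟨by norm_num⟩
      obtain ⟨b, hb⟩ := exists_prime_orderOf_dvd_card' (G := Cfsg.pCore 5 D) 5 (by rw [hc5]; exact dvd_pow_self 5 h)
      exact no35 (x := ι b) (y := ι y) (by rw [orderOf_ι ι hι, Subgroup.orderOf_coe, hb])
        (by rw [orderOf_ι ι hι, hy]) ((hQ b b.2).map ι)
    have h11triv : n11 = 0 := by
      by_contra h
      haveI : Fact (Nat.Prime 11) := ⟨by norm_num⟩
      obtain ⟨b, hb⟩ := exists_prime_orderOf_dvd_card' (G := Cfsg.pCore 11 D) 11 (by rw [hc11]; exact dvd_pow_self 11 h)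
      exact no77 (x := ι y) (y := ι b) (by rw [orderOf_ι ι hι, hy])
        (by rw [orderOf_ι ι hι, Subgroup.orderOf_coe, hb]) ((hE b b.2).symm.map ι)
    have h5bot : Cfsg.pCore 5 D = ⊥ := Subgroup.eq_bot_of_card_eq _ (by rw [hc5, h5triv, pow_zero])
    have h11bot : Cfsg.pCore 11 D = ⊥ := Subgroup.eq_bot_of_card_eq _ (by rw [hc11, h11triv, pow_zero])
    have := eq_one_of_mem_pCore ι hι (by norm_num : Nat.Prime 7) Nat.prime_three (by norm_num) hy7
      (fitting_le_three ι hι hodd h5bot h7bot h11bot hyF)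
    rw [this, orderOf_one] at hy
    norm_num at hy
  · -- an element of order seven without fixed points on a group of order 729
    set R := Cfsg.pCore 3 D
    set Z : Subgroup D := (Subgroup.center R).map R.subtype with hZdef
    haveI : Z.Normal := ConjAct.normal_of_characteristic_of_normal
    haveI : Fact (Nat.Prime 3) := ⟨Nat.prime_three⟩
    have hZle : Z ≤ R := Subgroup.map_subtype_le _
    obtain ⟨k, hk, hcz⟩ := (Nat.dvd_prime_pow Nat.prime_three).1 (hc3 ▸ Subgroup.card_dvd_of_le hZle)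
    have hk0 : k ≠ 0 := by
      intro e
      haveI : Nontrivial R := Finite.one_lt_card_iff_nontrivial.1 (by rw [hc3]; norm_num)
      haveI := (CfsgLib.Cores.isPGroup_pCore 3 D).center_nontrivial
      have h1 : 1 < Nat.card (Subgroup.center R) := Finite.one_lt_card
      rw [← Subgroup.card_map_of_injective R.subtype_injective, ← hZdef, hcz, e] at h1
      norm_num at h1
    obtain ⟨j, hj, hjmod, hcj, -⟩ := centralizes_or (K := Z) (by norm_num : Nat.Prime 7) Nat.prime_three hy7 hcz
    have hj0 : j = 0 := by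
      have hle : Z ⊓ Subgroup.centralizer {y} ≤ R ⊓ Subgroup.centralizer {y} := inf_le_inf_right _ hZle
      have := Subgroup.card_le_of_le hle
      rw [hcj, hcm3, pow_zero] at this
      by_contra h
      have := Nat.one_lt_pow h (show 1 < 3 by norm_num)
      omega
    subst hj0
    obtain rfl : k = 6 := (k3 k (hk.trans le_rfl) 0 (Nat.zero_le _) hjmod).elim (fun e => absurd e.symm hk0) And.left
    obtain ⟨a, ha, b, hb, hne⟩ := not_comm_three (A := R.map ι) (by rw [Subgroup.card_map_of_injective hι, hc3]; norm_num)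
    obtain ⟨a, ha', rfl⟩ := ha
    obtain ⟨b, hb', rfl⟩ := hb
    have hZR : Z = R := Subgroup.eq_of_le_of_card_ge hZle (by rw [hcz, hc3])
    obtain ⟨a', haZ, e⟩ : a ∈ Z := hZR ▸ ha'
    subst e
    exact hne (Commute.map (congrArg Subtype.val (Subgroup.mem_center_iff.1 haZ ⟨b, hb'⟩).symm) ι)

/-- A group of order 25 cannot act faithfully on the core at 3. -/
theorem twentyfive [Group.IsSolvable D] (hodd : Odd (Nat.card D))
    (h5 : Cfsg.pCore 5 D = ⊥) (h7 : Cfsg.pCore 7 D = ⊥) (h11 : Cfsg.pCore 11 D = ⊥) :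
    ¬ 25 ∣ Nat.card D := by
  classical
  intro h25
  have hd := card_dvd ι hι
  haveI : Fact (Nat.Prime 5) := ⟨by norm_num⟩
  obtain ⟨A, hA⟩ := Sylow.exists_subgroup_card_pow_prime (G := D) 5 (n := 2) (by norm_num; exact h25)
  obtain ⟨n, hn, hcard⟩ := card_pCore (D := D) (p := 3) (e := 6) (d := 1232000) Nat.prime_three
    (by norm_num at hd ⊢; exact hd) (by norm_num)
  set R := Cfsg.pCore 3 D
  have key : ∀ a ∈ A, a ≠ 1 → 4 ≤ n ∧ Nat.card (R ⊓ Subgroup.centralizer {a} : Subgroup D) = 3 ^ (n - 4) := by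
    intro a ha ha1
    have hpow : a ^ 5 ^ 2 = 1 := by
      have := pow_card_eq_one' (G := A) (x := ⟨a, ha⟩)
      rw [hA] at this
      exact congrArg Subtype.val this
    obtain ⟨m, hm, hmod, hcm, hcomm⟩ := centralizes_or (K := R) (by norm_num : Nat.Prime 5) Nat.prime_three hpow hcard
    have k35 : ∀ n ≤ 6, ∀ m ≤ n, 3 ^ m % 5 = 3 ^ n % 5 → m = n ∨ 4 ≤ n ∧ m = n - 4 := by decide
    rcases k35 _ hn _ hm hmod with e | ⟨h4, e⟩
    · exfalso
      have haF : a ∈ Cfsg.fittingSubgroup D := mem_fitting_of_commute ι hι (by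
        intro p hp b hb
        simp only [List.mem_cons, List.not_mem_nil, or_false] at hp
        rcases hp with rfl | rfl | rfl | rfl
        · exact hcomm e b hb
        all_goals first
          | (rw [h5, Subgroup.mem_bot] at hb; subst b; exact Commute.one_left a)
          | (rw [h7, Subgroup.mem_bot] at hb; subst b; exact Commute.one_left a)
          | (rw [h11, Subgroup.mem_bot] at hb; subst b; exact Commute.one_left a)) hodd
      exact ha1 (eq_one_of_mem_pCore ι hι (by norm_num : Nat.Prime 5) Nat.prime_three (by norm_num) hpow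
        (fitting_le_three ι hι hodd h5 h7 h11 haF))
    · exact ⟨h4, e ▸ hcm⟩
  haveI : Fintype A := Fintype.ofFinite A
  haveI : Fintype R := Fintype.ofFinite R
  letI : MulAction A R := MulAction.compHom R ((MulAut.conjNormal : D →* MulAut R).comp A.subtype)
  have hs := MulAction.sum_card_fixedBy_eq_card_orbits_mul_card_group A R
  have hfix : ∀ a : A, Fintype.card (MulAction.fixedBy R a) =
      Nat.card (R ⊓ Subgroup.centralizer {(a : D)} : Subgroup D) := by
    intro a
    rw [← Nat.card_eq_fintype_card]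
    refine Nat.card_congr ((Equiv.subtypeSubtypeEquivSubtypeExists _ _).trans (Equiv.subtypeEquivRight fun z => ?_))
    simp only [Subgroup.mem_inf, Subgroup.mem_centralizer_singleton_iff]
    constructor
    · rintro ⟨hz, h⟩
      have h' : (a : D) * z * (a : D)⁻¹ = z := congrArg Subtype.val (MulAction.mem_fixedBy.1 h)
      exact ⟨hz, (mul_inv_eq_iff_eq_mul.1 h').symm⟩
    · rintro ⟨hz, h⟩
      refine ⟨hz, Subtype.ext ?_⟩
      show (a : D) * z * (a : D)⁻¹ = z
      rw [← h, mul_inv_cancel_right]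
  rw [Finset.sum_congr rfl fun a _ => hfix a, ← Finset.add_sum_erase _ _ (Finset.mem_univ (1 : A))] at hs
  obtain ⟨a₀, ha₀, ha₀1⟩ : ∃ a ∈ A, a ≠ 1 := by
    by_contra h
    push Not at h
    rw [(Subgroup.eq_bot_iff_forall A).2 h, Subgroup.card_bot] at hA
    norm_num at hA
  obtain ⟨h4, -⟩ := key a₀ ha₀ ha₀1
  rw [Finset.sum_congr rfl fun (a : A) ha => (key (a : D) a.2 fun e => Finset.ne_of_mem_erase ha (Subtype.ext e)).2,
    Finset.sum_const, Finset.card_erase_of_mem (Finset.mem_univ _), Finset.card_univ,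
    ← Nat.card_eq_fintype_card (α := A), hA, smul_eq_mul,
    show Subgroup.centralizer {((1 : A) : D)} = ⊤ by ext z; simp [Subgroup.mem_centralizer_singleton_iff],
    inf_top_eq, hcard] at hs
  have hcases : ∀ n ≤ 6, 4 ≤ n → (3 ^ n + 24 * 3 ^ (n - 4)) % 25 ≠ 0 := by decide
  refine hcases n hn h4 ?_
  rw [show (24 : ℕ) = 5 ^ 2 - 1 from rfl, hs]
  simp

theorem not_eleven_dvd [Group.IsSolvable D] (hodd : Odd (Nat.card D)) (hbig : 22275 ≤ Nat.card D)
    (h7 : ¬ 7 ∣ Nat.card D) : ¬ 11 ∣ Nat.card D := by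
  intro h11
  haveI := finite_KG
  haveI : Fact (Nat.Prime 11) := ⟨by norm_num⟩
  haveI : Fact (Nat.Prime 5) := ⟨by norm_num⟩
  haveI : Fact (Nat.Prime 3) := ⟨Nat.prime_three⟩
  have hd := card_dvd ι hι
  have hd' : Nat.card D ∣ 3 ^ 6 * 5 ^ 3 * 11 := by
    have h2 : ¬ 2 ∣ Nat.card D := fun h => (Nat.not_even_iff_odd.2 hodd) (even_iff_two_dvd.2 h)
    have hcop : Nat.Coprime (Nat.card D) (2 ^ 7 * 7) := Nat.Coprime.mul_right
      (Nat.Coprime.pow_right _ ((Nat.prime_two.coprime_iff_not_dvd.2 h2).symm))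
      (((by norm_num : Nat.Prime 7).coprime_iff_not_dvd.2 h7).symm)
    refine hcop.dvd_of_dvd_mul_left ?_
    norm_num at hd ⊢
    exact hd
  obtain ⟨y, hy⟩ := exists_prime_orderOf_dvd_card' 11 h11
  have hy11 : y ^ 11 ^ 1 = 1 := by rw [pow_one, ← hy, pow_orderOf_eq_one]
  have hno3 : ∀ C : Subgroup D, (∀ c ∈ C, Commute c y) → ¬ 3 ∣ Nat.card C := by
    intro C hC h3
    obtain ⟨z, hz⟩ := exists_prime_orderOf_dvd_card' (G := C) 3 h3
    exact no33 (x := ι z) (y := ι y) (by rw [orderOf_ι ι hι, Subgroup.orderOf_coe, hz])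
      (by rw [orderOf_ι ι hι, hy]) ((hC z z.2).map ι)
  obtain ⟨n7, hn7, hc7⟩ := card_pCore (D := D) (p := 7) (e := 0) (d := 1002375) (by norm_num)
    (by norm_num at hd' ⊢; exact hd') (by norm_num)
  have h7bot : Cfsg.pCore 7 D = ⊥ := Subgroup.eq_bot_of_card_eq _ (by rw [hc7, Nat.le_zero.1 hn7, pow_zero])
  obtain ⟨n5, hn5, hc5⟩ := card_pCore (D := D) (p := 5) (e := 3) (d := 8019) (by norm_num)
    (by norm_num at hd' ⊢; exact hd') (by norm_num)
  obtain ⟨n11, hn11, hc11⟩ := card_pCore (D := D) (p := 11) (e := 1) (d := 91125) (by norm_num)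
    (by norm_num at hd' ⊢; exact hd') (by norm_num)
  obtain ⟨n3, hn3, hc3⟩ := card_pCore (D := D) (p := 3) (e := 6) (d := 1375) (by norm_num)
    (by norm_num at hd' ⊢; exact hd') (by norm_num)
  rcases Nat.le_one_iff_eq_zero_or_eq_one.1 hn11 with rfl | rfl
  swap
  · -- a normal subgroup of order eleven
    rw [pow_one] at hc11
    have hidx := index_centralizer_dvd ι hι (by norm_num) (Cfsg.pCore 11 D) hc11
    set C := Subgroup.centralizer (Cfsg.pCore 11 D : Set D)
    have hyN : y ∈ Cfsg.pCore 11 D := by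
      have hidx' : ¬ 11 ∣ (Cfsg.pCore 11 D).index := fun h => by
        have := Nat.mul_dvd_mul_left (Nat.card (Cfsg.pCore 11 D)) h
        rw [Subgroup.card_mul_index, hc11] at this
        exact absurd (this.trans hd') (by norm_num)
      let S : Sylow 11 D := (CfsgLib.Cores.isPGroup_pCore 11 D).toSylow hidx'
      obtain ⟨P, hP⟩ := (IsPGroup.of_card (p := 11) (n := 1) (G := Subgroup.zpowers y)
        (by rw [Nat.card_zpowers, hy, pow_one])).exists_le_sylow
      obtain ⟨g, hg⟩ := MulAction.exists_smul_eq D S P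
      have hmem : y ∈ ((g • S : Sylow 11 D) : Subgroup D) := hg ▸ hP (Subgroup.mem_zpowers y)
      obtain ⟨z, hz, e⟩ := hmem
      rw [← e]
      exact (inferInstance : (Cfsg.pCore 11 D).Normal).conj_mem z hz g
    have hcop : Nat.Coprime (Nat.card C) (3 ^ 6) := Nat.Coprime.pow_right _
      ((Nat.prime_three.coprime_iff_not_dvd.2
        (hno3 C fun c hc => (Subgroup.mem_centralizer_iff.1 hc y hyN).symm)).symm)
    have hC : Nat.card C ∣ 5 ^ 3 * 11 := hcop.dvd_of_dvd_mul_left
      (by have := (Subgroup.card_subgroup_dvd_card C).trans hd'; rwa [mul_assoc] at this)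
    have h1 := C.card_mul_index
    have h2 : C.index ≤ 10 := Nat.le_of_dvd (by norm_num) hidx
    have h3 : Nat.card C ≤ 1375 := Nat.le_of_dvd (by norm_num) hC
    nlinarith
  have h11bot : Cfsg.pCore 11 D = ⊥ := Subgroup.eq_bot_of_card_eq _ (by rw [hc11, pow_zero])
  have k5 : ∀ n ≤ 3, ∀ m ≤ n, 5 ^ m % 11 = 5 ^ n % 11 → m = n := by decide
  have k3 : ∀ n ≤ 6, ∀ m ≤ n, 3 ^ m % 11 = 3 ^ n % 11 → m = n ∨ 5 ≤ n := by decide
  obtain ⟨m, hm, hmod, -, hcomm⟩ := centralizes_or (K := Cfsg.pCore 5 D) (by norm_num : Nat.Prime 11)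
    (by norm_num : Nat.Prime 5) hy11 hc5
  have hQ := hcomm (k5 _ hn5 _ hm hmod)
  obtain ⟨m3, hm3, hmod3, -, hcomm3⟩ := centralizes_or (K := Cfsg.pCore 3 D) (by norm_num : Nat.Prime 11)
    Nat.prime_three hy11 hc3
  by_cases h5 : n5 = 0
  · -- the Fitting subgroup is a 3-group
    subst h5
    have h5bot : Cfsg.pCore 5 D = ⊥ := Subgroup.eq_bot_of_card_eq _ (by rw [hc5, pow_zero])
    have h25 := twentyfive ι hι hodd h5bot h7bot h11bot
    have hd40 : Nat.card D ∣ 40095 := by
      obtain ⟨b, hb, hd5⟩ : ∃ b ≤ 1, Nat.gcd (Nat.card D) (5 ^ 3) = 5 ^ b := by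
        obtain ⟨b, hb, e⟩ := (Nat.dvd_prime_pow (by norm_num : Nat.Prime 5)).1 (Nat.gcd_dvd_right (Nat.card D) (5 ^ 3))
        refine ⟨b, ?_, e⟩
        by_contra hcon
        exact h25 ((pow_dvd_pow 5 (by omega : 2 ≤ b)).trans (e ▸ Nat.gcd_dvd_left _ _))
      have h1 : Nat.card D ∣ Nat.gcd (Nat.card D) (5 ^ 3) * Nat.gcd (Nat.card D) (3 ^ 6 * 11) := by
        rw [← Nat.Coprime.gcd_mul _ (by norm_num)]
        exact Nat.dvd_gcd dvd_rfl (by rwa [show 5 ^ 3 * (3 ^ 6 * 11) = 3 ^ 6 * 5 ^ 3 * 11 by norm_num])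
      refine h1.trans ?_
      rw [hd5]
      exact (Nat.mul_dvd_mul (pow_dvd_pow 5 hb) (Nat.gcd_dvd_right _ _)).trans (by norm_num)
    have hD : Nat.card D = 40095 := by
      obtain ⟨k, hk⟩ := hd40
      have : k = 1 := by
        have : 0 < k := Nat.pos_of_ne_zero fun e => by rw [e] at hk; simp at hk
        nlinarith
      rw [this, mul_one] at hk
      exact hk.symm
    let P : Sylow 11 D := (IsPGroup.of_card (p := 11) (n := 1) (G := Subgroup.zpowers y)
      (by rw [Nat.card_zpowers, hy, pow_one])).toSylow (fun h => by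
        have := Nat.mul_dvd_mul_left (Nat.card (Subgroup.zpowers y)) h
        rw [Subgroup.card_mul_index, Nat.card_zpowers, hy, hD] at this
        exact absurd this (by norm_num))
    have hs := card_sylow_modEq_one 11 D
    rw [Sylow.card_eq_index_normalizer P] at hs
    set N := Subgroup.normalizer (P : Set D) with hNdef
    have hPN : (P : Subgroup D) ≤ N := Subgroup.le_normalizer
    have hyP : y ∈ (P : Subgroup D) := Subgroup.mem_zpowers y
    have hN : Nat.card N ∣ 275 := by
      haveI : IsCyclic (P : Subgroup D) := isCyclic_of_prime_card (p := 11)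
        (by show Nat.card (Subgroup.zpowers y) = 11; rw [Nat.card_zpowers, hy])
      let f : N →* MulAut (P : Subgroup D) := Subgroup.normalizerMonoidHom (P : Subgroup D)
      have hker : ∀ g ∈ f.ker, Commute (g : D) y := by
        intro g hg
        have := congrArg (fun φ : MulAut (P : Subgroup D) => ((φ ⟨y, hyP⟩ : (P : Subgroup D)) : D))
          (MonoidHom.mem_ker.1 hg)
        exact mul_inv_eq_iff_eq_mul.1 this
      have hk3 : ¬ 3 ∣ Nat.card f.ker := by
        rw [← Subgroup.card_map_of_injective N.subtype_injective]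
        exact hno3 _ (by rintro _ ⟨g, hg, rfl⟩; exact hker g hg)
      have hr : Nat.card f.range ∣ 10 := by
        refine (Subgroup.card_subgroup_dvd_card _).trans ?_
        rw [IsCyclic.card_mulAut, show Nat.card (P : Subgroup D) = 11 from
          (Nat.card_zpowers y).trans hy, Nat.totient_prime (by norm_num)]
      have hmul : Nat.card N = Nat.card f.ker * Nat.card f.range := by
        rw [← Subgroup.index_ker, Subgroup.card_mul_index]
      have hNd : Nat.card N ∣ 40095 := hD ▸ Subgroup.card_subgroup_dvd_card N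
      have hk : Nat.card f.ker ∣ 55 :=
        ((Nat.Coprime.pow_right 6 ((Nat.prime_three.coprime_iff_not_dvd.2 hk3).symm))).dvd_of_dvd_mul_left
          (((Dvd.intro _ hmul.symm).trans hNd).trans (by norm_num))
      exact (Nat.dvd_gcd (hmul ▸ Nat.mul_dvd_mul hk hr) hNd).trans (by norm_num)
    have hmul := N.card_mul_index
    rw [hD] at hmul
    have h11N : 11 ∣ Nat.card N := hy ▸ Subgroup.orderOf_dvd_natCard _ (hPN hyP)
    obtain ⟨k, hk⟩ := h11N
    rw [hk] at hN hmul
    have hk25 : k ∣ 25 := Nat.dvd_of_mul_dvd_mul_left (by norm_num : 0 < 11) (by norm_num at hN ⊢; exact hN)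
    have hk' : k ∈ Nat.divisors 25 := Nat.mem_divisors.2 ⟨hk25, by norm_num⟩
    rw [show Nat.divisors 25 = {1, 5, 25} by decide] at hk'
    simp only [Finset.mem_insert, Finset.mem_singleton] at hk'
    unfold Nat.ModEq at hs
    rcases hk' with rfl | rfl | rfl <;> omega
  · -- an element of order five centralised by a group of order 81
    obtain ⟨x, hx⟩ := exists_prime_orderOf_dvd_card' (G := Cfsg.pCore 5 D) 5 (by rw [hc5]; exact dvd_pow_self 5 h5)
    have hfix := fpf_of_commute_eleven (x := ι x) (y := ι y) (by rw [orderOf_ι ι hι, Subgroup.orderOf_coe, hx])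
      (by rw [orderOf_ι ι hι, hy]) ((hQ x x.2).map ι)
    rcases k3 _ hn3 _ hm3 hmod3 with he | he
    · have hyF : y ∈ Cfsg.fittingSubgroup D := mem_fitting_of_commute ι hι (by
        intro p hp b hb
        simp only [List.mem_cons, List.not_mem_nil, or_false] at hp
        rcases hp with rfl | rfl | rfl | rfl
        · exact hcomm3 he b hb
        · exact hQ b hb
        · rw [h7bot, Subgroup.mem_bot] at hb; subst b; exact Commute.one_left y
        · rw [h11bot, Subgroup.mem_bot] at hb; subst b; exact Commute.one_left y) hodd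
      -- the 11-elements of the Fitting subgroup lie in the core at 11
      have hnil := CfsgLib.Cores.isNilpotent_fittingSubgroup (G := D)
      obtain ⟨P, hP⟩ := (IsPGroup.of_card (p := 11) (n := 1) (G := Subgroup.zpowers (⟨y, hyF⟩ : Cfsg.fittingSubgroup D))
        (by rw [Nat.card_zpowers, ← Subgroup.orderOf_coe, hy, pow_one])).exists_le_sylow
      haveI := hnil
      haveI : (P : Subgroup (Cfsg.fittingSubgroup D)).Characteristic :=
        Sylow.characteristic_of_normal P inferInstance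
      haveI : ((P : Subgroup (Cfsg.fittingSubgroup D)).map (Cfsg.fittingSubgroup D).subtype).Normal :=
        ConjAct.normal_of_characteristic_of_normal
      have hle := CfsgLib.Cores.le_pCore (P.2.map (Cfsg.fittingSubgroup D).subtype)
        (Subgroup.mem_map_of_mem _ (hP (Subgroup.mem_zpowers _)))
      rw [h11bot, Subgroup.mem_bot] at hle
      rw [show y = 1 from hle, orderOf_one] at hy
      norm_num at hy
    obtain ⟨R, hR⟩ := Sylow.exists_subgroup_card_pow_prime (G := Cfsg.pCore 3 D) 3 (n := 4)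
      (by rw [hc3]; exact pow_dvd_pow 3 (by omega))
    refine no_eighty_one (x := ι x) (by rw [orderOf_ι ι hι, Subgroup.orderOf_coe, hx]) hfix
      ((R.map (Cfsg.pCore 3 D).subtype).map ι)
      (by rw [Subgroup.card_map_of_injective hι, Subgroup.card_map_of_injective (Cfsg.pCore 3 D).subtype_injective, hR]; norm_num) ?_
    rintro _ ⟨_, ⟨r, -, rfl⟩, rfl⟩
    exact (CfsgLib.Cores.commute_pCore_of_ne (by norm_num) r.2 x.2).map ι

theorem card_lt_of_hom [Group.IsSolvable D] (hodd : Odd (Nat.card D)) : Nat.card D < 22275 := by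
  classical
  by_contra hcon
  have hbig : 22275 ≤ Nat.card D := not_lt.1 hcon
  haveI := finite_KG
  haveI : Fact (Nat.Prime 3) := ⟨Nat.prime_three⟩
  haveI : Fact (Nat.Prime 5) := ⟨by norm_num⟩
  have h7 := not_seven_dvd ι hι hodd hbig
  have h11 := not_eleven_dvd ι hι hodd hbig h7
  have hd := card_dvd ι hι
  have h2 : ¬ 2 ∣ Nat.card D := fun h => (Nat.not_even_iff_odd.2 hodd) (even_iff_two_dvd.2 h)
  have hd' : Nat.card D ∣ 3 ^ 6 * 5 ^ 3 := by
    have hcop : Nat.Coprime (Nat.card D) (2 ^ 7 * 7 * 11) := Nat.Coprime.mul_right (Nat.Coprime.mul_right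
      (Nat.Coprime.pow_right _ ((Nat.prime_two.coprime_iff_not_dvd.2 h2).symm))
      (((by norm_num : Nat.Prime 7).coprime_iff_not_dvd.2 h7).symm))
      (((by norm_num : Nat.Prime 11).coprime_iff_not_dvd.2 h11).symm)
    refine hcop.dvd_of_dvd_mul_left ?_
    norm_num at hd ⊢
    exact hd
  obtain ⟨⟨a, ha, b, hb, hab⟩⟩ : Nonempty (∃ a ≤ 6, ∃ b ≤ 3, Nat.card D = 3 ^ a * 5 ^ b) := by
    refine ⟨?_⟩
    obtain ⟨u, v, hu, hv, huv⟩ := exists_dvd_and_dvd_of_dvd_mul hd'
    obtain ⟨a, ha, rfl⟩ := (Nat.dvd_prime_pow Nat.prime_three).1 hu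
    obtain ⟨b, hb, rfl⟩ := (Nat.dvd_prime_pow (by norm_num : Nat.Prime 5)).1 hv
    exact ⟨a, ha, b, hb, huv⟩
  have kab : ∀ a ≤ 6, ∀ b ≤ 3, 22275 ≤ 3 ^ a * 5 ^ b → b = 3 ∧ 5 ≤ a := by decide
  obtain ⟨rfl, ha5⟩ := kab a ha b hb (hab ▸ hbig)
  obtain ⟨n7, hn7, hc7⟩ := card_pCore (D := D) (p := 7) (e := 0) (d := 91125) (by norm_num)
    (by norm_num at hd' ⊢; exact hd') (by norm_num)
  obtain ⟨n11, hn11, hc11⟩ := card_pCore (D := D) (p := 11) (e := 0) (d := 91125) (by norm_num)
    (by norm_num at hd' ⊢; exact hd') (by norm_num)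
  have h7bot : Cfsg.pCore 7 D = ⊥ := Subgroup.eq_bot_of_card_eq _ (by rw [hc7, Nat.le_zero.1 hn7, pow_zero])
  have h11bot : Cfsg.pCore 11 D = ⊥ := Subgroup.eq_bot_of_card_eq _ (by rw [hc11, Nat.le_zero.1 hn11, pow_zero])
  obtain ⟨n5, hn5, hc5⟩ := card_pCore (D := D) (p := 5) (e := 3) (d := 729) (by norm_num)
    (by norm_num at hd' ⊢; exact hd') (by norm_num)
  have hn50 : n5 ≠ 0 := by
    rintro rfl
    exact twentyfive ι hι hodd (Subgroup.eq_bot_of_card_eq _ (by rw [hc5, pow_zero])) h7bot h11bot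
      (hab ▸ (Dvd.intro_left (3 ^ a * 5) (by ring)))
  -- a Sylow subgroup at 5 of order 125, containing the core
  obtain ⟨P, hPc, hQP⟩ := Sylow.exists_subgroup_card_pow_prime_le (G := D) 5 (n := n5) (m := 3)
    (hab ▸ Dvd.intro_left _ rfl) (Cfsg.pCore 5 D) hc5 hn5
  set Q := Cfsg.pCore 5 D
  -- a normal abelian subgroup K of order at most 25 in Q
  obtain ⟨K, hKn, hKQ, k, hk, hk0, hKc⟩ : ∃ K : Subgroup D, K.Normal ∧ K ≤ Q ∧ ∃ k ≤ 2, k ≠ 0 ∧ Nat.card K = 5 ^ k := by
    by_cases h3 : n5 = 3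
    · subst h3
      refine ⟨(Subgroup.center Q).map Q.subtype, ConjAct.normal_of_characteristic_of_normal,
        Subgroup.map_subtype_le _, ?_⟩
      rw [Subgroup.card_map_of_injective Q.subtype_injective]
      obtain ⟨k, hk, hkc⟩ := (Nat.dvd_prime_pow (by norm_num : Nat.Prime 5)).1
        (hc5 ▸ Subgroup.card_subgroup_dvd_card (Subgroup.center Q))
      refine ⟨k, ?_, ?_, hkc⟩
      · by_contra hk3
        obtain ⟨u, ⟨u, hu, rfl⟩, v, ⟨v, hv, rfl⟩, hne⟩ := not_comm_five (A := Q.map ι)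
          (by rw [Subgroup.card_map_of_injective hι, hc5]; norm_num)
        have htop : Subgroup.center Q = ⊤ := Subgroup.eq_top_of_card_eq _ (by
          rw [hkc, hc5, show k = 3 by omega])
        have hcz : (⟨u, hu⟩ : Q) ∈ Subgroup.center Q := htop ▸ Subgroup.mem_top _
        exact hne (Commute.map (congrArg Subtype.val (Subgroup.mem_center_iff.1 hcz ⟨v, hv⟩).symm) ι)
      · rintro rfl
        haveI : Nontrivial Q := Finite.one_lt_card_iff_nontrivial.1 (by rw [hc5]; norm_num)
        haveI := (CfsgLib.Cores.isPGroup_pCore 5 D).center_nontrivial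
        have h1 : 1 < Nat.card (Subgroup.center Q) := Finite.one_lt_card
        rw [hkc] at h1
        norm_num at h1
    · exact ⟨Q, inferInstance, le_rfl, n5, by omega, hn50, hc5⟩
  -- a nontrivial element of K central in P
  haveI := hKn
  obtain ⟨x₀, hxK₀, hx1₀, hxP₀⟩ : ∃ x ∈ K, x ≠ 1 ∧ ∀ p ∈ P, Commute x p := by
    by_contra hnone
    push Not at hnone
    haveI : Fintype P := Fintype.ofFinite P
    haveI : Fintype K := Fintype.ofFinite K
    letI : MulAction P K := MulAction.compHom K ((MulAut.conjNormal : D →* MulAut K).comp P.subtype)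
    have hPp : IsPGroup 5 P := IsPGroup.of_card (n := 3) hPc
    obtain ⟨b, hb, hb1⟩ := hPp.exists_fixed_point_of_prime_dvd_card_of_fixed_point K
      (by rw [hKc]; exact dvd_pow_self 5 hk0) (a := (1 : K)) (fun p => map_one (MulAut.conjNormal (p : D) : MulAut K))
    obtain ⟨p, hp, hpne⟩ := hnone b b.2 fun e => hb1 (Subtype.ext e).symm
    apply hpne
    have h : p * (b : D) * p⁻¹ = b := congrArg Subtype.val (hb ⟨p, hp⟩)
    exact (mul_inv_eq_iff_eq_mul.1 h).symm
  obtain ⟨x, hxK, hxo, hxP⟩ : ∃ x ∈ K, orderOf x = 5 ∧ ∀ p ∈ P, Commute x p := by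
    have hdvd : orderOf x₀ ∣ 5 ^ k := hKc ▸ Subgroup.orderOf_dvd_natCard _ hxK₀
    obtain ⟨j, -, hj⟩ := (Nat.dvd_prime_pow (by norm_num : Nat.Prime 5)).1 hdvd
    have hj0 : j ≠ 0 := fun e => hx1₀ (orderOf_eq_one_iff.1 (by rw [hj, e, pow_zero]))
    obtain ⟨z, hz⟩ := exists_prime_orderOf_dvd_card' (G := Subgroup.zpowers x₀) 5
      (by rw [Nat.card_zpowers, hj]; exact dvd_pow_self 5 hj0)
    refine ⟨z, Subgroup.zpowers_le.2 hxK₀ z.2, by rw [Subgroup.orderOf_coe, hz], fun p hp => ?_⟩
    obtain ⟨i, hi⟩ := Subgroup.mem_zpowers_iff.1 z.2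
    rw [← hi]
    exact (hxP₀ p hp).zpow_left i
  have hx1 : x ≠ 1 := fun e => by rw [e, orderOf_one] at hxo; norm_num at hxo
  have hfix : fix (Fin 275) (ι x) = 0 := by
    refine fix_five_central (A := P.map ι) (by rw [Subgroup.card_map_of_injective hι, hPc]; norm_num)
      (Subgroup.mem_map_of_mem ι (hQP (hKQ hxK))) (fun e => hx1 (hι (by rw [e, map_one]))) ?_
    rintro _ ⟨p, hp, rfl⟩
    exact (hxP p hp).map ι
  -- the part of a Sylow 3-subgroup centralising x
  obtain ⟨S, hS⟩ := Sylow.exists_subgroup_card_pow_prime (G := D) 3 (n := a) (hab ▸ Dvd.intro _ rfl)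
  haveI : Fintype S := Fintype.ofFinite S
  haveI : Fintype K := Fintype.ofFinite K
  letI : MulAction S K := MulAction.compHom K ((MulAut.conjNormal : D →* MulAut K).comp S.subtype)
  set T : Subgroup D := S ⊓ Subgroup.centralizer {x}
  obtain ⟨t, ht, hT⟩ := (Nat.dvd_prime_pow Nat.prime_three).1
    (hS ▸ Subgroup.card_dvd_of_le (inf_le_left : T ≤ S))
  have hs := MulAction.sum_card_fixedBy_eq_card_orbits_mul_card_group S K
  have hfixS : ∀ s : S, Fintype.card (MulAction.fixedBy K s) =
      if (s : D) ∈ T then 5 ^ k else 1 := by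
    intro s
    have e : Fintype.card (MulAction.fixedBy K s) = Nat.card (K ⊓ Subgroup.centralizer {(s : D)} : Subgroup D) := by
      rw [← Nat.card_eq_fintype_card]
      refine Nat.card_congr ((Equiv.subtypeSubtypeEquivSubtypeExists _ _).trans (Equiv.subtypeEquivRight fun z => ?_))
      simp only [Subgroup.mem_inf, Subgroup.mem_centralizer_singleton_iff]
      constructor
      · rintro ⟨hz, h⟩
        have h' : (s : D) * z * (s : D)⁻¹ = z := congrArg Subtype.val (MulAction.mem_fixedBy.1 h)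
        exact ⟨hz, (mul_inv_eq_iff_eq_mul.1 h').symm⟩
      · rintro ⟨hz, h⟩
        refine ⟨hz, Subtype.ext ?_⟩
        show (s : D) * z * (s : D)⁻¹ = z
        rw [← h, mul_inv_cancel_right]
    have hs3 : (s : D) ^ 3 ^ a = 1 := by
      have := pow_card_eq_one' (G := S) (x := s)
      rw [hS] at this
      exact congrArg Subtype.val this
    haveI := hKn
    obtain ⟨m, hm, hmod, hcm, hcomm⟩ := centralizes_or (K := K) Nat.prime_three (by norm_num : Nat.Prime 5) hs3 hKc
    have kk : ∀ k ≤ 2, ∀ m ≤ k, 5 ^ m % 3 = 5 ^ k % 3 → m = k ∨ m = 0 := by decide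
    rw [e]
    split_ifs with hsT
    · rcases kk k hk m hm hmod with e' | e'
      · rw [hcm, e']
      · exfalso
        have hmem : x ∈ K ⊓ Subgroup.centralizer {(s : D)} := ⟨hxK, Subgroup.mem_centralizer_singleton_iff.2
          (Subgroup.mem_centralizer_singleton_iff.1 hsT.2).symm⟩
        have eb : K ⊓ Subgroup.centralizer {(s : D)} = ⊥ := Subgroup.eq_bot_of_card_eq _ (by rw [hcm, e', pow_zero])
        rw [eb, Subgroup.mem_bot] at hmem
        exact hx1 hmem
    · rcases kk k hk m hm hmod with e' | e'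
      · exact absurd ⟨s.2, Subgroup.mem_centralizer_singleton_iff.2 (hcomm e' x hxK).eq.symm⟩ hsT
      · rw [hcm, e', pow_zero]
  rw [Finset.sum_congr rfl fun s _ => hfixS s, Finset.sum_ite, Finset.sum_const, Finset.sum_const,
    ← Nat.card_eq_fintype_card (α := S), hS] at hs
  have hTc : (Finset.univ.filter fun s : S => (s : D) ∈ T).card = 3 ^ t := by
    rw [← Fintype.card_subtype, ← Nat.card_eq_fintype_card, ← hT]
    exact Nat.card_congr (Equiv.subtypeSubtypeEquivSubtype fun h => h.1)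
  have hrest : (Finset.univ.filter fun s : S => (s : D) ∈ T).card +
      (Finset.univ.filter fun s : S => ¬ (s : D) ∈ T).card = 3 ^ a := by
    rw [Finset.card_filter_add_card_filter_not, Finset.card_univ, ← Nat.card_eq_fintype_card, hS]
  rw [hTc] at hs hrest
  simp only [smul_eq_mul, mul_one] at hs
  have ht4 : 4 ≤ t := by
    by_contra h
    refine orbit_arith a ha ha5 t (by omega) k hk hk0 ?_
    rw [show 3 ^ a - 3 ^ t = (Finset.univ.filter fun s : S => ¬ (s : D) ∈ T).card by omega, hs]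
    simp
  obtain ⟨R, hR⟩ := Sylow.exists_subgroup_card_pow_prime (G := T) 3 (n := 4) (hT ▸ pow_dvd_pow 3 ht4)
  refine no_eighty_one (x := ι x) (by rw [orderOf_ι ι hι, hxo]) hfix ((R.map T.subtype).map ι)
    (by rw [Subgroup.card_map_of_injective hι, Subgroup.card_map_of_injective T.subtype_injective, hR]; norm_num) ?_
  rintro _ ⟨_, ⟨r, -, rfl⟩, rfl⟩
  exact (show Commute (r : D) x from Subgroup.mem_centralizer_singleton_iff.1 r.2.2).map ι

end Main

/-- A subgroup of odd order of the McLaughlin group has order less than 22275. -/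
theorem card_lt {M : Type*} [Group M] [Finite M] (e : M ≃* Cfsg.Spor.McL) (D : Subgroup M)
    (hD : Odd (Nat.card D)) : Nat.card D < 22275 := by
  haveI : Group.IsSolvable D := Cfsg.Agent.S0205.result hD
  exact card_lt_of_hom ((e.trans CfsgLib.SchurMult.McLTwoFive.equivMcL.symm).toMonoidHom.comp D.subtype)
    ((e.trans CfsgLib.SchurMult.McLTwoFive.equivMcL.symm).injective.comp D.subtype_injective) hD

end CfsgLib.McLRecog.OddSubgroups
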