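import Cfsg.Agent.Lib.McLRecog.Model
import Cfsg.Agent.Lib.McLRecog.ModelFacts
import Cfsg.Agent.Lib.McLRecog.OddSubgroups

/-!
The recognition of the McLaughlin group, given that the model is the completion of its amalgam.
-/

set_option autoImplicit false

namespace CfsgLib.McLRecog

open CfsgLib.RankThreeMcL CfsgLib.McLRecog.Completion
open CfsgLib.AltDoubleCent (Setting)

universe u

theorem localFacts_model : LocalFacts mclS t0 n w E1 E2 := by
  have ht := ModelFacts.order_t
  refine ModelFacts.local_facts (isNonsplit_model t0 ht) ?_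
  obtain ⟨S⟩ := Setting.nonempty (by norm_num) ht (isNonsplit_model t0 ht)
  have hne : ∀ g, S.img g = 1 → g ≠ lift S 1 := fun g hg h => by
    rw [h, img_lift] at hg
    exact absurd (tr_injective (hg.trans tr_zero.symm)) (by decide)
  exact ⟨lift S 1, commute_lift S 1, (hne t0 S.img_z).symm,
    isConj_model t0 _ ht (orderOf_eq_prime
      (by rw [pow_two]; exact mul_self_of_mem S (lift_mem S 1)) (hne 1 S.img_one).symm)⟩

theorem recog_of_completes (hcomp : Completes.{u} t0 n E1 E2)
    {G : Type u} [Group G] [Finite G] (t : G) (ht : orderOf t = 2)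
    (hcov : Cfsg.IsNonsplitDoubleCover (Subgroup.centralizer ({t} : Set G)) (alternatingGroup (Fin 8))) :
    Subgroup.centralizer ({t} : Set G) ⊔ Cfsg.oddCore G = ⊤ ∨ Nonempty (G ≃* Cfsg.Spor.McL) :=
  recog_mcl localFacts_model hcomp (fun D hD => OddSubgroups.card_lt mclSEquiv D hD) t ht hcov

end CfsgLib.McLRecog
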