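import Mathlib

/-!
The regular elementary abelian group of translations on eight points and its normaliser.
-/

set_option autoImplicit false

namespace CfsgLib.McLRecog

open Equiv

/-- Addition of bit vectors on `Fin 8`. -/
def bx (k x : Fin 8) : Fin 8 := ⟨(x.val ^^^ k.val) % 8, Nat.mod_lt _ (by decide)⟩

theorem bx_bx : ∀ k x, bx k (bx k x) = x := by decide

theorem bx_comm : ∀ k x, bx k x = bx x k := by decide

theorem bx_assoc : ∀ k l x, bx k (bx l x) = bx (bx k l) x := by decide +kernel

theorem bx_zero_left : ∀ x, bx 0 x = x := by decide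

/-- The translation by `k`. -/
def tr (k : Fin 8) : Perm (Fin 8) := ⟨bx k, bx k, bx_bx k, bx_bx k⟩

theorem tr_apply (k x : Fin 8) : tr k x = bx k x := rfl

theorem tr_zero : tr 0 = 1 := Equiv.ext bx_zero_left

theorem tr_mul (k l : Fin 8) : tr k * tr l = tr (bx k l) :=
  Equiv.ext fun x => bx_assoc k l x

theorem tr_sq (k : Fin 8) : tr k * tr k = 1 := Equiv.ext (bx_bx k)

theorem tr_inv (k : Fin 8) : (tr k)⁻¹ = tr k := inv_eq_of_mul_eq_one_right (tr_sq k)

theorem tr_injective : Function.Injective tr := fun k l h => by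
  have h0 := congrArg (fun σ : Perm (Fin 8) => σ 0) h
  simp only [tr_apply, bx_comm _ 0, bx_zero_left] at h0
  exact h0

theorem sign_tr : ∀ k, Perm.sign (tr k) = 1 := by decide +kernel

/-- A permutation commuting with all translations is a translation. -/
theorem eq_tr_of_commute {σ : Perm (Fin 8)} (h : ∀ k, σ * tr k = tr k * σ) : σ = tr (σ 0) := by
  refine Equiv.ext fun x => ?_
  have hx := congrArg (fun τ : Perm (Fin 8) => τ 0) (h x)
  simp only [Perm.mul_apply, tr_apply, bx_comm x 0, bx_zero_left] at hx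
  rw [hx, tr_apply, bx_comm]

/-- The affine map given by the images of the origin and of the three unit vectors. -/
def aff (p : Fin 8 × Fin 8 × Fin 8 × Fin 8) (x : Fin 8) : Fin 8 :=
  bx (if x.val.testBit 0 then p.2.1 else 0)
    (bx (if x.val.testBit 1 then p.2.2.1 else 0)
      (bx (if x.val.testBit 2 then p.2.2.2 else 0) p.1))

/-- The linear map of order seven `1 ↦ 2 ↦ 4 ↦ 3`. -/
def seven : Perm (Fin 8) :=
  ⟨![0, 2, 4, 6, 3, 1, 7, 5], ![0, 5, 1, 4, 2, 7, 3, 6], by decide, by decide⟩

/-- A transvection fixing the translation by `1`. -/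
def tv : Perm (Fin 8) := swap 4 6 * swap 5 7

/-- An even permutation carrying `tr 1` to `tr 1 * tv`. -/
def tw : Perm (Fin 8) := swap 5 7 * swap 0 1

theorem seven_facts : Perm.sign seven = 1 ∧
    (∀ k, seven * tr k * seven⁻¹ = tr (seven k)) ∧
    ∀ k : Fin 8, k ≠ 0 → ∃ i : Fin 7, (seven ^ i.val) 1 = k := by
  refine ⟨?_, ?_, ?_⟩ <;> decide +kernel

theorem tv_facts : Perm.sign tv = 1 ∧ tv * tr 1 = tr 1 * tv ∧
    (∀ k, ∃ l, tv * tr k * tv⁻¹ = tr l) ∧ Perm.sign tw = 1 ∧ tw * tr 1 * tw⁻¹ = tr 1 * tv := by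
  refine ⟨?_, ?_, ?_, ?_, ?_⟩ <;> decide +kernel

theorem seven_pow (i : ℕ) (k : Fin 8) : seven ^ i * tr k * (seven ^ i)⁻¹ = tr ((seven ^ i) k) := by
  induction i generalizing k with
  | zero => simp
  | succ i ih =>
    rw [pow_succ', mul_inv_rev, Perm.mul_apply, ← seven_facts.2.1, ← ih]
    group

/-- `aff p` is bijective for exactly 1344 tuples. -/
theorem card_aff :
    (Finset.univ.filter fun p : Fin 8 × Fin 8 × Fin 8 × Fin 8 =>
      ((List.finRange 8).map (aff p)).Nodup).card = 1344 := by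
  decide +kernel

set_option maxHeartbeats 4000000 in
/-- A bijective affine map is even. -/
theorem card_aff_even :
    (Finset.univ.filter fun p : Fin 8 × Fin 8 × Fin 8 × Fin 8 =>
      ((List.finRange 8).map (aff p)).Nodup ∧
        (∏ j : Fin 8, ∏ i ∈ Finset.Iio j, (if aff p i < aff p j then (1 : ℤˣ) else -1)) = 1).card
      = 1344 := by
  decide +kernel

theorem aff_bx (p : Fin 8 × Fin 8 × Fin 8 × Fin 8) (k x : Fin 8) :
    aff p (bx k x) = bx (bx (aff p k) (aff p 0)) (aff p x) := by
  obtain ⟨d, a, b, c⟩ := p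
  have key : ∀ a : Fin 8, ∀ u v : Bool, (if Bool.xor u v then a else 0) =
      bx (if u then a else 0) (if v then a else 0) := by decide
  have hbit : ∀ k x : Fin 8, ∀ i : Fin 3,
      (bx k x).val.testBit i.val = Bool.xor (k.val.testBit i.val) (x.val.testBit i.val) := by
    decide +kernel
  have h4 : ∀ a b c d : Fin 8, bx (bx a b) (bx c d) = bx (bx a c) (bx b d) := fun a b c d => by
    rw [← bx_assoc, ← bx_assoc, bx_assoc b c d, bx_comm b c, ← bx_assoc]
  let L : Fin 8 → Fin 8 := fun x => bx (if x.val.testBit 0 then a else 0)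
    (bx (if x.val.testBit 1 then b else 0) (if x.val.testBit 2 then c else 0))
  have hL : ∀ x, aff (d, a, b, c) x = bx (L x) d := fun x => by
    simp only [aff, L, bx_assoc]
  have h0 : L 0 = 0 := by
    show bx 0 (bx 0 0) = 0
    rw [bx_zero_left, bx_zero_left]
  have hadd : L (bx k x) = bx (L k) (L x) := by
    show bx (if (bx k x).val.testBit (0 : Fin 3).val then a else 0)
      (bx (if (bx k x).val.testBit (1 : Fin 3).val then b else 0)
        (if (bx k x).val.testBit (2 : Fin 3).val then c else 0)) = _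
    rw [hbit, hbit, hbit, key, key, key, h4 (if k.val.testBit (1 : Fin 3).val then b else 0), h4]
    rfl
  rw [hL, hL, hL, hL, h0, bx_zero_left, hadd, ← bx_assoc (L k) d d, bx_comm d d,
    ← bx_assoc (L k) (L x) d]
  have hdd : ∀ d : Fin 8, bx d d = 0 := by decide
  rw [hdd, bx_comm (L k) 0, bx_zero_left]

end CfsgLib.McLRecog
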