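import Cfsg.Agent.Lib.AltDoubleCent.Frame
import Cfsg.Agent.Lib.McLRecog.RegularEight

/-!
An involution whose centraliser is a perfect double cover of `A₈`: the preimage `E` of the regular
elementary group of order eight is self-centralising of order 16, its normaliser is transitive on
its involutions (if `z` is fused) and has order `15 · 2688 = 40320`.
-/

set_option autoImplicit false

namespace CfsgLib.McLRecog

open Equiv CfsgLib.AltDoubleCent CfsgLib.Classes.AltCoverComm

universe u

variable {G : Type u} [Group G] {z : G} (S : Setting G 8 z)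

/-- The preimage of the translations. -/
def regE : Subgroup G where
  carrier := {x | Commute x z ∧ ∃ k, S.img x = tr k}
  one_mem' := ⟨Commute.one_left z, 0, by rw [S.img_one, tr_zero]⟩
  mul_mem' := by
    rintro x y ⟨hx, k, hk⟩ ⟨hy, l, hl⟩
    exact ⟨hx.mul_left hy, bx k l, by rw [S.img_mul hx hy, hk, hl, tr_mul]⟩
  inv_mem' := by
    rintro x ⟨hx, k, hk⟩
    exact ⟨hx.inv_left, k, by rw [S.img_inv hx, hk, tr_inv]⟩

theorem mem_regE {x : G} : x ∈ regE S ↔ Commute x z ∧ ∃ k, S.img x = tr k := Iff.rfl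

theorem z_mem_regE : z ∈ regE S := ⟨Commute.refl z, 0, by rw [S.img_z, tr_zero]⟩

theorem exists_lift_tr (k : Fin 8) : ∃ x : G, Commute x z ∧ S.img x = tr k :=
  S.exists_img (sign_tr k)

/-- A chosen lift of a translation. -/
noncomputable def lift (k : Fin 8) : G := (exists_lift_tr S k).choose

theorem commute_lift (k : Fin 8) : Commute (lift S k) z := (exists_lift_tr S k).choose_spec.1

theorem img_lift (k : Fin 8) : S.img (lift S k) = tr k := (exists_lift_tr S k).choose_spec.2

theorem lift_mem (k : Fin 8) : lift S k ∈ regE S := ⟨commute_lift S k, k, img_lift S k⟩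

/-- Squares agree for elements with the same image. -/
theorem sq_eq_of_img {x y : G} (hx : Commute x z) (hy : Commute y z) (h : S.img x = S.img y) :
    y * y = x * x := by
  rcases S.eq_or_eq_mul_z hx hy h with rfl | rfl
  · rfl
  · rw [mul_assoc x z, ← mul_assoc z x z, ← hx.eq, mul_assoc x z z, S.z_sq, mul_one]

theorem sq_cases {x : G} (hx : Commute x z) (h : S.img x * S.img x = 1) :
    x * x = 1 ∨ x * x = z :=
  (S.img_eq_one (hx.mul_left hx)).1 (by rw [S.img_mul hx hx, h])

/-- Conjugation inside the centraliser does not change a central square. -/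
theorem sq_conj {g x : G} (hg : Commute g z) (hx : x * x = 1 ∨ x * x = z) :
    g * x * g⁻¹ * (g * x * g⁻¹) = x * x := by
  rw [show g * x * g⁻¹ * (g * x * g⁻¹) = g * (x * x) * g⁻¹ by group]
  rcases hx with h | h <;> rw [h]
  · group
  · rw [hg.eq, mul_inv_cancel_right]

theorem mem_normalizer_of_img [Finite G] {g : G} (hg : Commute g z)
    (h : ∀ k, ∃ l, S.img g * tr k * (S.img g)⁻¹ = tr l) :
    g ∈ Subgroup.normalizer (regE S : Set G) := by
  refine Subgroup.mem_normalizer_fintype fun x hx => ?_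
  obtain ⟨hxz, k, hk⟩ := hx
  obtain ⟨l, hl⟩ := h k
  exact ⟨(hg.mul_left hxz).mul_left hg.inv_left, l, by rw [S.img_conj hg hxz, hk, hl]⟩

section

variable [Finite G]

theorem exists_seven {k : Fin 8} (hk : k ≠ 0) : ∃ g : G, Commute g z ∧
    g ∈ Subgroup.normalizer (regE S : Set G) ∧ S.img g * tr 1 * (S.img g)⁻¹ = tr k := by
  obtain ⟨i, hi⟩ := seven_facts.2.2 k hk
  obtain ⟨g, hg, hgi⟩ := S.exists_img (σ := seven ^ i.val)
    (by rw [map_pow, seven_facts.1, one_pow])
  refine ⟨g, hg, mem_normalizer_of_img S hg fun l => ⟨_, by rw [hgi, seven_pow]⟩, ?_⟩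
  rw [hgi, seven_pow, hi]

/-- The elements of `regE` square to one. -/
theorem mul_self_of_mem {x : G} (hx : x ∈ regE S) : x * x = 1 := by
  have hsq : ∀ k, lift S k * lift S k = 1 ∨ lift S k * lift S k = z := fun k =>
    sq_cases S (commute_lift S k) (by rw [img_lift, tr_sq])
  have hconst : ∀ k, k ≠ 0 → lift S k * lift S k = lift S 1 * lift S 1 := fun k hk => by
    obtain ⟨g, hg, -, hgk⟩ := exists_seven S hk
    rw [← sq_conj hg (hsq 1)]
    refine sq_eq_of_img S ((hg.mul_left (commute_lift S 1)).mul_left hg.inv_left)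
      (commute_lift S k) ?_
    rw [S.img_conj hg (commute_lift S 1), img_lift, img_lift, hgk]
  have h1 : lift S 1 * lift S 1 = 1 := by
    rcases hsq 1 with h | h
    · exact h
    exfalso
    have hz : ∀ k, k ≠ 0 → ∀ x : G, Commute x z → S.img x = tr k → x * x = z := fun k hk x hx he =>
      by rw [sq_eq_of_img S (commute_lift S k) hx (by rw [img_lift, he]), hconst k hk, h]
    have hanti : ∀ k l, k ≠ 0 → l ≠ 0 → bx k l ≠ 0 → ∀ x y : G, Commute x z → Commute y z →
        S.img x = tr k → S.img y = tr l → y * x = x * y * z := by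
      intro k l hk hl hkl x y hx hy ex ey
      have e := hz _ hkl (x * y) (hx.mul_left hy) (by rw [S.img_mul hx hy, ex, ey, tr_mul])
      have e' : y * x * y = x := by
        calc y * x * y = x⁻¹ * (x * y * (x * y)) := by group
          _ = x⁻¹ * z := by rw [e]
          _ = x⁻¹ * (x * x) := by rw [hz k hk x hx ex]
          _ = x := by group
      calc y * x = y * x * y * y⁻¹ := by group
        _ = x * y⁻¹ := by rw [e']
        _ = x * (y * z) := by
          congr 1
          refine inv_eq_of_mul_eq_one_right ?_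
          rw [← mul_assoc, hz l hl y hy ey, S.z_sq]
        _ = x * y * z := by group
    have hc := commute_lift S
    have hi := img_lift S
    have a14 := hanti 1 4 (by decide) (by decide) (by decide) _ _ (hc 1) (hc 4) (hi 1) (hi 4)
    have a24 := hanti 2 4 (by decide) (by decide) (by decide) _ _ (hc 2) (hc 4) (hi 2) (hi 4)
    have a34 := hanti (bx 1 2) 4 (by decide) (by decide) (by decide) _ _ ((hc 1).mul_left (hc 2))
      (hc 4) (by rw [S.img_mul (hc 1) (hc 2), hi, hi, tr_mul]) (hi 4)
    refine S.z_ne_one (mul_left_cancel (a := lift S 1 * lift S 2 * lift S 4) ?_)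
    rw [mul_one, ← a34, ← mul_assoc, a14, mul_assoc _ z, ← (hc 2).eq,
      ← mul_assoc _ (lift S 2) z, mul_assoc (lift S 1), a24,
      show lift S 1 * (lift S 2 * lift S 4 * z) * z = lift S 1 * lift S 2 * lift S 4 * (z * z) by
        group, S.z_sq, mul_one]
  obtain ⟨hxz, k, hk⟩ := hx
  by_cases h0 : k = 0
  · subst h0
    rw [tr_zero] at hk
    rcases (S.img_eq_one hxz).1 hk with rfl | rfl
    · rw [mul_one]
    · exact S.z_sq
  · rw [sq_eq_of_img S (commute_lift S k) hxz (by rw [img_lift, hk]), hconst k h0, h1]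

theorem commute_of_mem {x y : G} (hx : x ∈ regE S) (hy : y ∈ regE S) : Commute x y := by
  have h := mul_self_of_mem S ((regE S).mul_mem hx hy)
  show x * y = y * x
  calc x * y = (x * y)⁻¹ := (inv_eq_of_mul_eq_one_right h).symm
    _ = y * x := by
      rw [mul_inv_rev, inv_eq_of_mul_eq_one_right (mul_self_of_mem S hx),
        inv_eq_of_mul_eq_one_right (mul_self_of_mem S hy)]

omit [Finite G] in
theorem card_regE : Nat.card (regE S) = 16 := by
  let f : Fin 8 × Bool → regE S := fun p => ⟨if p.2 then lift S p.1 * z else lift S p.1, by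
    split
    · exact (regE S).mul_mem (lift_mem S _) (z_mem_regE S)
    · exact lift_mem S _⟩
  have himg : ∀ p, S.img (f p : G) = tr p.1 := fun p => by
    show S.img (if p.2 then lift S p.1 * z else lift S p.1) = _
    split
    · rw [S.img_mul_z (commute_lift S _), img_lift]
    · exact img_lift S _
  have hf : Function.Bijective f := by
    refine ⟨?_, fun x => ?_⟩
    · rintro ⟨k, b⟩ ⟨l, c⟩ h
      have hkl : k = l := tr_injective (by rw [← himg (k, b), h, himg])
      subst hkl
      have h' : (if b then lift S k * z else lift S k) = if c then lift S k * z else lift S k :=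
        congrArg Subtype.val h
      cases b <;> cases c <;> simp [S.z_ne_one] at h' ⊢
    · obtain ⟨hxz, k, hk⟩ := x.2
      rcases S.eq_or_eq_mul_z (commute_lift S k) hxz (by rw [img_lift, hk]) with e | e
      · exact ⟨(k, false), Subtype.ext e.symm⟩
      · exact ⟨(k, true), Subtype.ext e.symm⟩
  rw [← Nat.card_eq_of_bijective f hf]
  simp

/-- `regE` is self-centralising. -/
theorem centralizer_regE : Subgroup.centralizer (regE S : Set G) = regE S := by
  refine le_antisymm (fun x hx => ?_) fun x hx => Subgroup.mem_centralizer_iff.2 fun y hy =>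
    (commute_of_mem S hy hx).eq
  have hxz : Commute x z := (Subgroup.mem_centralizer_iff.1 hx z (z_mem_regE S)).symm
  refine ⟨hxz, S.img x 0, eq_tr_of_commute fun k => ?_⟩
  rw [← img_lift S k]
  exact (S.commute_img hxz (commute_lift S k)
    (Subgroup.mem_centralizer_iff.1 hx _ (lift_mem S k)).symm).eq

/-- An element of the normaliser interchanging the two lifts of `tr 1`. -/
theorem exists_anticommuter : ∃ h : G, Commute h z ∧ h ∈ Subgroup.normalizer (regE S : Set G) ∧
    h * lift S 1 * h⁻¹ = lift S 1 * z := by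
  obtain ⟨h, hh, hhi⟩ := S.exists_img tv_facts.1
  have hx := commute_lift S 1
  have hN : h ∈ Subgroup.normalizer (regE S : Set G) :=
    mem_normalizer_of_img S hh fun k => by rw [hhi]; exact tv_facts.2.2.1 k
  refine ⟨h, hh, hN, ?_⟩
  have hci : S.img (h * lift S 1 * h⁻¹) = S.img (lift S 1) := by
    rw [S.img_conj hh hx, img_lift, hhi, tv_facts.2.1, mul_inv_cancel_right]
  rcases S.eq_or_eq_mul_z hx ((hh.mul_left hx).mul_left hh.inv_left) hci.symm with e | e
  · exfalso
    have hcomm : h * lift S 1 = lift S 1 * h := mul_inv_eq_iff_eq_mul.1 e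
    have h4 : Four (4 : Fin 8) 6 5 7 := by constructor <;> decide
    have hh2 : h * h = z := S.sq_eq_z hh h4 (by rw [hhi]; rfl)
    obtain ⟨w, hw, hwi⟩ := S.exists_img tv_facts.2.2.2.1
    have hxh : S.img (w * lift S 1 * w⁻¹) = S.img (lift S 1 * h) := by
      rw [S.img_conj hw hx, S.img_mul hx hh, img_lift, hhi, hwi, tv_facts.2.2.2.2]
    have := sq_eq_of_img S ((hw.mul_left hx).mul_left hw.inv_left) (hx.mul_left hh) hxh
    rw [sq_conj hw (Or.inl (mul_self_of_mem S (lift_mem S 1))), mul_self_of_mem S (lift_mem S 1),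
      show lift S 1 * h * (lift S 1 * h) = lift S 1 * (h * lift S 1) * h by group, hcomm,
      show lift S 1 * (lift S 1 * h) * h = lift S 1 * lift S 1 * (h * h) by group,
      mul_self_of_mem S (lift_mem S 1), one_mul, hh2] at this
    exact S.z_ne_one this
  · exact e

/-- The normaliser in the centraliser of `z` is transitive on the fourteen other involutions. -/
theorem exists_conj_lift {e : G} (he : e ∈ regE S) (he1 : e ≠ 1) (hez : e ≠ z) :
    ∃ g : G, Commute g z ∧ g ∈ Subgroup.normalizer (regE S : Set G) ∧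
      g * lift S 1 * g⁻¹ = e := by
  obtain ⟨hec, k, hk⟩ := he
  have hk0 : k ≠ 0 := fun h => by
    rw [h, tr_zero] at hk
    exact ((S.img_eq_one hec).1 hk).elim he1 hez
  obtain ⟨g, hg, hgN, hgk⟩ := exists_seven S hk0
  have hx := commute_lift S 1
  have hc : Commute (g * lift S 1 * g⁻¹) z := (hg.mul_left hx).mul_left hg.inv_left
  rcases S.eq_or_eq_mul_z hc hec (by rw [S.img_conj hg hx, img_lift, hgk, hk]) with e' | e'
  · exact ⟨g, hg, hgN, e'.symm⟩
  · obtain ⟨h, hh, hhN, hhx⟩ := exists_anticommuter S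
    refine ⟨g * h, hg.mul_left hh, mul_mem hgN hhN, ?_⟩
    calc g * h * lift S 1 * (g * h)⁻¹ = g * (h * lift S 1 * h⁻¹) * g⁻¹ := by group
      _ = g * lift S 1 * (z * g⁻¹) := by rw [hhx]; group
      _ = e := by rw [← hg.inv_left.eq, e']; group

include S in
/-- Every elementary subgroup of order 16 containing `z` is the preimage of the translations
for a suitable setting. -/
theorem exists_setting_eq {X : Subgroup G} (hX : Nat.card X = 16) (hzX : z ∈ X)
    (h2 : ∀ x ∈ X, x * x = 1) : ∃ S' : Setting G 8 z, regE S' = X := by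
  classical
  have hcomm : ∀ a b : X, a * b = b * a := fun a b => by
    have hab : (a : G) * b * (a * b) = 1 := h2 _ (X.mul_mem a.2 b.2)
    refine Subtype.ext ?_
    show (a : G) * b = b * a
    calc (a : G) * b = ((a : G) * b)⁻¹ := (inv_eq_of_mul_eq_one_right hab).symm
      _ = b * a := by
        rw [mul_inv_rev, inv_eq_of_mul_eq_one_right (h2 _ a.2),
          inv_eq_of_mul_eq_one_right (h2 _ b.2)]
  let : CommGroup X := { (inferInstance : Group X) with mul_comm := hcomm }
  have hsq : ∀ a : X, a * a = 1 := fun a => Subtype.ext (h2 _ a.2)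
  have hc : ∀ a : X, Commute (a : G) z := fun a =>
    congrArg Subtype.val (hcomm a ⟨z, hzX⟩)
  have hfpf : ∀ a : X, (∃ p, S.img (a : G) p = p) → (a : G) = 1 ∨ (a : G) = z := by
    rintro a ⟨p, hp⟩
    by_contra hne
    push Not at hne
    obtain ⟨-, hct⟩ := S.cycleType_involution (by norm_num) (hc a) (h2 _ a.2) hne.1 hne.2
    have hs : (S.img (a : G)).support = Finset.univ := by
      refine Finset.eq_univ_of_card _ ?_
      rw [← Perm.sum_cycleType, hct, Fintype.card_fin]
      rfl
    have : p ∈ (S.img (a : G)).support := hs ▸ Finset.mem_univ p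
    exact Perm.mem_support.1 this hp
  let w : X := ⟨z, hzX⟩
  have hbig : ∀ s : Finset X, s.card < 16 → ∃ a, a ∉ s := fun s hs => by
    by_contra hcon
    push Not at hcon
    have := Fintype.ofFinite X
    have := Finset.card_le_card (fun a _ => hcon a : (Finset.univ : Finset X) ⊆ s)
    rw [Finset.card_univ, ← Nat.card_eq_fintype_card, hX] at this
    omega
  obtain ⟨x1, hx1⟩ := hbig {1, w} (by
    exact lt_of_le_of_lt (Finset.card_insert_le _ _) (by simp))
  let m2 : Bool × Bool → X := fun p => (if p.1 then w else 1) * (if p.2 then x1 else 1)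
  obtain ⟨x2, hx2⟩ := hbig (Finset.univ.image m2)
    (lt_of_le_of_lt Finset.card_image_le (by simp))
  let m3 : (Bool × Bool) × Bool → X := fun p => m2 p.1 * (if p.2 then x2 else 1)
  obtain ⟨x4, hx4⟩ := hbig (Finset.univ.image m3)
    (lt_of_le_of_lt Finset.card_image_le (by simp))
  let ρ : Fin 8 → X := fun k => (if k.val.testBit 0 then x1 else 1) *
    ((if k.val.testBit 1 then x2 else 1) * (if k.val.testBit 2 then x4 else 1))
  have key : ∀ (a : X) (u v : Bool), (if Bool.xor u v then a else 1) =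
      (if u then a else 1) * (if v then a else 1) := fun a u v => by
    cases u <;> cases v <;> simp [hsq]
  have hbit : ∀ k x : Fin 8, ∀ i : Fin 3,
      (bx k x).val.testBit i.val = Bool.xor (k.val.testBit i.val) (x.val.testBit i.val) := by
    decide +kernel
  have hρ : ∀ k l, ρ (bx k l) = ρ k * ρ l := fun k l => by
    show (if (bx k l).val.testBit (0 : Fin 3).val then x1 else 1) *
      ((if (bx k l).val.testBit (1 : Fin 3).val then x2 else 1) *
        (if (bx k l).val.testBit (2 : Fin 3).val then x4 else 1)) = _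
    rw [hbit, hbit, hbit, key, key, key, mul_mul_mul_comm (if k.val.testBit (1 : Fin 3).val then x2 else 1),
      mul_mul_mul_comm]
    rfl
  have hker : ∀ k, (ρ k : G) = 1 ∨ (ρ k : G) = z → k = 0 := by
    intro k hk
    obtain ⟨e, he⟩ : ∃ e : Bool, ρ k = if e then w else 1 := by
      rcases hk with h | h
      · exact ⟨false, Subtype.ext h⟩
      · exact ⟨true, Subtype.ext h⟩
    have hb2 : k.val.testBit 2 = false := by
      by_contra hb
      rw [Bool.not_eq_false] at hb
      refine hx4 (Finset.mem_image.2 ⟨((e, k.val.testBit 0), k.val.testBit 1), Finset.mem_univ _, ?_⟩)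
      simp only [m3, m2]
      rw [← he]
      simp only [ρ, hb, if_true]
      generalize (if k.val.testBit 0 then x1 else (1 : X)) = A
      generalize (if k.val.testBit 1 then x2 else (1 : X)) = B
      calc A * (B * x4) * A * B = (A * A) * (B * B) * x4 := by ac_rfl
        _ = x4 := by rw [hsq, hsq, one_mul, one_mul]
    have hb1 : k.val.testBit 1 = false := by
      by_contra hb
      rw [Bool.not_eq_false] at hb
      refine hx2 (Finset.mem_image.2 ⟨(e, k.val.testBit 0), Finset.mem_univ _, ?_⟩)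
      simp only [m2]
      rw [← he]
      simp only [ρ, hb, hb2, if_true, Bool.false_eq_true, if_false, mul_one]
      generalize (if k.val.testBit 0 then x1 else (1 : X)) = A
      calc A * x2 * A = A * A * x2 := by ac_rfl
        _ = x2 := by rw [hsq, one_mul]
    have hb0 : k.val.testBit 0 = false := by
      by_contra hb
      rw [Bool.not_eq_false] at hb
      refine hx1 ?_
      simp only [ρ, hb, hb1, hb2, if_true, Bool.false_eq_true, if_false, mul_one] at he
      rw [he]
      cases e <;> simp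
    exact (by decide : ∀ k : Fin 8, k.val.testBit 2 = false → k.val.testBit 1 = false →
      k.val.testBit 0 = false → k = 0) k hb2 hb1 hb0
  let σf : Fin 8 → Fin 8 := fun k => S.img (ρ k : G) 0
  have hinj : Function.Injective σf := fun k l h => by
    have hkl : bx k l = 0 := hker _ (hfpf (ρ (bx k l)) ⟨0, by
      rw [hρ, hcomm, Subgroup.coe_mul, S.img_mul (hc _) (hc _), Perm.mul_apply, show
        S.img (ρ k : G) 0 = S.img (ρ l : G) 0 from h, ← Perm.mul_apply, ← S.img_mul (hc _) (hc _),
        h2 _ (ρ l).2, S.img_one, Perm.one_apply]⟩)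
    exact (by decide +kernel : ∀ k l : Fin 8, bx k l = 0 → k = l) k l hkl
  let σ : Perm (Fin 8) := Equiv.ofBijective σf (Finite.injective_iff_bijective.1 hinj)
  have hσ : ∀ k, S.img (ρ k : G) * σ = σ * tr k := fun k => Equiv.ext fun j => by
    show S.img (ρ k : G) (S.img (ρ j : G) 0) = S.img (ρ (bx k j) : G) 0
    rw [hρ, Subgroup.coe_mul X (ρ k) (ρ j), S.img_mul (hc _) (hc _), Perm.mul_apply]
  let ψ : MulAut (alternatingGroup (Fin 8)) := MulAut.conjNormal σ⁻¹
  let S' : Setting G 8 z := ⟨S.hz, ψ.toMonoidHom.comp S.φ, ψ.surjective.comp S.surj,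
    fun x => by rw [MonoidHom.comp_apply, MulEquiv.coe_toMonoidHom, MulEquiv.map_eq_one_iff,
      S.ker_iff], S.perfect⟩
  have himg : ∀ x : G, Commute x z → S'.img x = σ⁻¹ * S.img x * σ := fun x hx => by
    rw [S'.img_eq hx, S.img_eq hx]
    show ((ψ _ : alternatingGroup (Fin 8)) : Perm (Fin 8)) = _
    rw [MulAut.conjNormal_apply, inv_inv]
  refine ⟨S', (Subgroup.eq_of_le_of_card_ge (H := X) (K := regE S')
    (fun x hx => (mem_regE S').2 ⟨hc ⟨x, hx⟩, ?_⟩)
    (by rw [card_regE, hX])).symm⟩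
  obtain ⟨k, hk⟩ : ∃ k, σ k = S.img x 0 := σ.surjective _
  refine ⟨k, ?_⟩
  have h0 := hfpf (ρ k * ⟨x, hx⟩) ⟨0, by
    rw [Subgroup.coe_mul, S.img_mul (hc _) (hc ⟨x, hx⟩), Perm.mul_apply, ← hk]
    show S.img (ρ k : G) (S.img (ρ k : G) 0) = 0
    rw [← Perm.mul_apply, ← S.img_mul (hc _) (hc _), h2 _ (ρ k).2, S.img_one, Perm.one_apply]⟩
  have hρx : S.img x = S.img (ρ k : G) := by
    have h1 : S.img ((ρ k : G) * x) = 1 := (S.img_eq_one ((hc _).mul_left (hc ⟨x, hx⟩))).2 h0
    rw [S.img_mul (hc _) (hc ⟨x, hx⟩), mul_eq_one_iff_inv_eq, ← S.img_inv (hc _),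
      inv_eq_of_mul_eq_one_right (h2 _ (ρ k).2)] at h1
    exact h1.symm
  rw [himg x (hc ⟨x, hx⟩), hρx, mul_assoc, hσ, inv_mul_cancel_left]

/-- If `z` is fused, the normaliser of `regE` is transitive on its fifteen involutions. -/
theorem exists_normalizer_conj (hfus : ∃ i : G, Commute i z ∧ i ≠ z ∧ IsConj z i) {e : G}
    (he : e ∈ regE S) (he1 : e ≠ 1) :
    ∃ g ∈ Subgroup.normalizer (regE S : Set G), g * z * g⁻¹ = e := by
  classical
  obtain ⟨i, hi, hiz, hconj⟩ := hfus
  obtain ⟨c, hc⟩ := isConj_iff.1 hconj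
  have hi2 : i * i = 1 := by
    rw [← hc, show c * z * c⁻¹ * (c * z * c⁻¹) = c * (z * z) * c⁻¹ by group, S.z_sq, mul_one,
      mul_inv_cancel]
  have hi1 : i ≠ 1 := fun h => S.z_ne_one (by
    rw [show z = c⁻¹ * (c * z * c⁻¹) * c by group, hc, h, mul_one, inv_mul_cancel])
  obtain ⟨-, hct⟩ := S.cycleType_involution (by norm_num) hi hi2 hi1 hiz
  obtain ⟨τ, hτ, hτi⟩ : ∃ τ : Perm (Fin 8), Perm.sign τ = 1 ∧ τ * S.img i * τ⁻¹ = tr 1 := by
    obtain ⟨τ, hτ⟩ := isConj_iff.1 ((Perm.isConj_iff_cycleType_eq (σ := S.img i) (τ := tr 1)).2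
      (by rw [hct]; decide +kernel))
    rcases Int.units_eq_one_or (Perm.sign τ) with h | h
    · exact ⟨τ, h, hτ⟩
    · refine ⟨swap 0 1 * τ, by rw [map_mul, h, Perm.sign_swap (by decide)]; rfl, ?_⟩
      rw [show swap (0 : Fin 8) 1 * τ * S.img i * (swap 0 1 * τ)⁻¹ =
        swap 0 1 * (τ * S.img i * τ⁻¹) * (swap 0 1)⁻¹ by group, hτ]
      decide +kernel
  obtain ⟨d, hd, hdi⟩ := S.exists_img hτ
  set e0 := d * i * d⁻¹ with he0def
  have he0 : e0 ∈ regE S := ⟨(hd.mul_left hi).mul_left hd.inv_left, 1, by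
    rw [he0def, S.img_conj hd hi, hdi, hτi]⟩
  have hg0 : (d * c)⁻¹ * e0 * (d * c)⁻¹⁻¹ = z := by
    rw [he0def, show z = c⁻¹ * (c * z * c⁻¹) * c by group, hc]; group
  have he0z : e0 ≠ z := fun h => hiz (by
    rw [show i = d⁻¹ * (d * i * d⁻¹) * d by group, ← he0def, h, hd.inv_left.eq, mul_assoc,
      inv_mul_cancel, mul_one])
  obtain ⟨n, hn, hne⟩ : ∃ n ∈ Subgroup.normalizer (regE S : Set G), n * z * n⁻¹ ≠ z := by
    by_contra hfix
    push Not at hfix
    set g := (d * c)⁻¹ with hgdef
    set X := (regE S).map (MulAut.conj g).toMonoidHom with hXdef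
    have hXc : Nat.card X = 16 := by
      rw [hXdef, Subgroup.card_map_of_injective (MulAut.conj g).injective, card_regE]
    have hzX : z ∈ X := ⟨e0, he0, hg0⟩
    have hX2 : ∀ x ∈ X, x * x = 1 := by
      rintro x ⟨y, hy, rfl⟩
      rw [← map_mul, mul_self_of_mem S hy, map_one]
    obtain ⟨S', hS'⟩ := exists_setting_eq S hXc hzX hX2
    set z' := g * z * g⁻¹ with hz'def
    have hz'X : z' ∈ regE S' := hS' ▸ ⟨z, z_mem_regE S, rfl⟩
    have hz'z : z' ≠ z := fun h => he0z (by
      have : g * z * g⁻¹ = g * e0 * g⁻¹ := by rw [hg0]; exact h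
      exact (mul_left_cancel (mul_right_cancel this)).symm)
    have hz'1 : z' ≠ 1 := fun h => S.z_ne_one (by
      rw [show z = g⁻¹ * (g * z * g⁻¹) * g by group, ← hz'def, h, mul_one, inv_mul_cancel])
    have hfix' : ∀ h ∈ Subgroup.normalizer (regE S' : Set G), h * z' * h⁻¹ = z' := by
      intro h hh
      have hN : g⁻¹ * h * g ∈ Subgroup.normalizer (regE S : Set G) := by
        refine Subgroup.mem_normalizer_fintype fun x hx => ?_
        have hgx : g * x * g⁻¹ ∈ regE S' := hS' ▸ ⟨x, hx, rfl⟩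
        have := (Subgroup.mem_normalizer_iff.1 hh _).1 hgx
        rw [hS'] at this
        obtain ⟨y, hy, hyx⟩ := this
        have hy' : y = g⁻¹ * h * g * x * (g⁻¹ * h * g)⁻¹ := by
          have hyx' : g * y * g⁻¹ = h * (g * x * g⁻¹) * h⁻¹ := hyx
          calc y = g⁻¹ * (g * y * g⁻¹) * g := by group
            _ = _ := by rw [hyx']; group
        exact hy' ▸ hy
      calc h * z' * h⁻¹ = g * (g⁻¹ * h * g * z * (g⁻¹ * h * g)⁻¹) * g⁻¹ := by rw [hz'def]; group
        _ = z' := by rw [hfix _ hN]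
    obtain ⟨h1, -, h1N, h1e⟩ := exists_conj_lift S' hz'X hz'1 hz'z
    have hz'z' : z' * z ∈ regE S' := mul_mem hz'X (z_mem_regE S')
    obtain ⟨h2', -, h2N, h2e⟩ := exists_conj_lift S' hz'z'
      (fun h => hz'z ((mul_eq_one_iff_eq_inv.1 h).trans S.z_inv))
      (fun h => hz'1 (mul_eq_right.1 h))
    have h3 := hfix' (h2' * h1⁻¹) (mul_mem h2N (inv_mem h1N))
    rw [show h2' * h1⁻¹ * z' * (h2' * h1⁻¹)⁻¹ = h2' * (h1⁻¹ * z' * h1) * h2'⁻¹ by group,
      ← h1e, show h1⁻¹ * (h1 * lift S' 1 * h1⁻¹) * h1 = lift S' 1 by group, h2e, h1e] at h3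
    exact S.z_ne_one (mul_eq_left.1 h3)
  by_cases hez : e = z
  · exact ⟨1, one_mem _, by rw [hez, one_mul, inv_one, mul_one]⟩
  have hnE : n * z * n⁻¹ ∈ regE S := (Subgroup.mem_normalizer_iff.1 hn z).1 (z_mem_regE S)
  obtain ⟨h1, -, h1N, h1e⟩ := exists_conj_lift S hnE (fun h => S.z_ne_one (by
    rw [show z = n⁻¹ * (n * z * n⁻¹) * n by group, h, mul_one, inv_mul_cancel])) hne
  obtain ⟨h2', -, h2N, h2e⟩ := exists_conj_lift S he he1 hez
  refine ⟨h2' * h1⁻¹ * n, mul_mem (mul_mem h2N (inv_mem h1N)) hn, ?_⟩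
  calc h2' * h1⁻¹ * n * z * (h2' * h1⁻¹ * n)⁻¹
      = h2' * (h1⁻¹ * (n * z * n⁻¹) * h1) * h2'⁻¹ := by group
    _ = h2' * lift S 1 * h2'⁻¹ := by rw [← h1e]; group
    _ = e := h2e

/-- The normaliser of `regE` in the centraliser of `z`. -/
theorem card_normalizer_inf :
    Nat.card (Subgroup.normalizer (regE S : Set G) ⊓ Subgroup.centralizer ({z} : Set G) :
      Subgroup G) = 2688 := by
  classical
  let P := {p : Fin 8 × Fin 8 × Fin 8 × Fin 8 // ((List.finRange 8).map (aff p)).Nodup}
  have hinj : ∀ p : P, Function.Injective (aff p.1) := fun p x y h =>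
    List.inj_on_of_nodup_map p.2 (List.mem_finRange x) (List.mem_finRange y) h
  let perm : P → Perm (Fin 8) := fun p =>
    Equiv.ofBijective (aff p.1) (Finite.injective_iff_bijective.1 (hinj p))
  have heven : ∀ p : P, Perm.sign (perm p) = 1 := fun p => by
    have hsub := Finset.eq_of_subset_of_card_le
      (Finset.monotone_filter_right (Finset.univ : Finset (Fin 8 × Fin 8 × Fin 8 × Fin 8))
        (fun q _ hq => hq.1)) (le_of_eq (card_aff.trans card_aff_even.symm))
    have hp : p.1 ∈ Finset.univ.filter fun q : Fin 8 × Fin 8 × Fin 8 × Fin 8 =>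
        ((List.finRange 8).map (aff q)).Nodup := Finset.mem_filter.2 ⟨Finset.mem_univ _, p.2⟩
    rw [← hsub] at hp
    rw [Perm.sign_eq_prod_prod_Iio]
    exact (Finset.mem_filter.1 hp).2.2
  choose L hLc hLi using fun p => S.exists_img (heven p)
  have hLN : ∀ p, L p ∈ Subgroup.normalizer (regE S : Set G) := fun p =>
    mem_normalizer_of_img S (hLc p) fun k => ⟨bx (aff p.1 k) (aff p.1 0), by
      rw [hLi, mul_inv_eq_iff_eq_mul]
      exact Equiv.ext fun x => aff_bx p.1 k x⟩
  have hzN : z ∈ Subgroup.normalizer (regE S : Set G) :=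
    Subgroup.le_normalizer (z_mem_regE S)
  let f : P × Bool → (Subgroup.normalizer (regE S : Set G) ⊓
      Subgroup.centralizer ({z} : Set G) : Subgroup G) := fun q =>
    ⟨if q.2 then L q.1 * z else L q.1, by
      split
      · exact ⟨mul_mem (hLN _) hzN, mem_cent.2 ((hLc _).mul_left (Commute.refl z))⟩
      · exact ⟨hLN _, mem_cent.2 (hLc _)⟩⟩
  have himg : ∀ q, S.img (f q : G) = perm q.1 := fun q => by
    show S.img (if q.2 then L q.1 * z else L q.1) = _
    split
    · rw [S.img_mul_z (hLc _), hLi]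
    · exact hLi _
  have haff : ∀ p : Fin 8 × Fin 8 × Fin 8 × Fin 8, aff p 0 = p.1 ∧ aff p 1 = bx p.2.1 p.1 ∧
      aff p 2 = bx p.2.2.1 p.1 ∧ aff p 4 = bx p.2.2.2 p.1 := fun p => by
    simp [aff, bx_zero_left, Nat.testBit, Nat.shiftRight_eq_div_pow]
  have hl' : ∀ a b : Fin 8, bx (bx a b) b = a := by decide +kernel
  have hcoef : ∀ p : Fin 8 × Fin 8 × Fin 8 × Fin 8,
      (aff p 0, bx (aff p 1) (aff p 0), bx (aff p 2) (aff p 0), bx (aff p 4) (aff p 0)) = p := by
    intro p
    obtain ⟨e0, e1, e2, e4⟩ := haff p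
    rw [e0, e1, e2, e4, hl', hl', hl']
  have hf : Function.Bijective f := by
    refine ⟨?_, fun x => ?_⟩
    · rintro ⟨p, b⟩ ⟨p', c⟩ h
      have hpp : perm p = perm p' := by rw [← himg (p, b), h, himg]
      have happ : aff p.1 = aff p'.1 := funext fun x => congrArg (fun σ : Perm (Fin 8) => σ x) hpp
      have hp : p = p' := Subtype.ext (by rw [← hcoef p.1, ← hcoef p'.1, happ])
      subst hp
      have h' : (if b then L p * z else L p) = if c then L p * z else L p :=
        congrArg Subtype.val h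
      cases b <;> cases c <;> simp [S.z_ne_one] at h' ⊢
    · obtain ⟨hxN, hxC⟩ := x.2
      have hxc : Commute (x : G) z := mem_cent.1 hxC
      set σ := S.img (x : G)
      have hadd : ∀ k y, σ (bx k y) = bx (bx (σ k) (σ 0)) (σ y) := by
        intro k y
        obtain ⟨-, l, hl⟩ := (Subgroup.mem_normalizer_iff.1 hxN _).1 (lift_mem S k)
        rw [S.img_conj hxc (commute_lift S k), img_lift, mul_inv_eq_iff_eq_mul] at hl
        have hk := congrArg (fun τ : Perm (Fin 8) => τ 0) hl
        have hy := congrArg (fun τ : Perm (Fin 8) => τ y) hl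
        simp only [Perm.mul_apply, tr_apply, bx_comm _ 0, bx_zero_left] at hk hy
        rw [show σ (bx k y) = bx l (σ y) from hy, show σ k = bx l (σ 0) from hk, hl']
      set p : Fin 8 × Fin 8 × Fin 8 × Fin 8 :=
        (σ 0, bx (σ 1) (σ 0), bx (σ 2) (σ 0), bx (σ 4) (σ 0)) with hp
      have hval : aff p 0 = σ 0 ∧ aff p 1 = σ 1 ∧ aff p 2 = σ 2 ∧ aff p 4 = σ 4 := by
        obtain ⟨e0, e1, e2, e4⟩ := haff p
        rw [e0, e1, e2, e4, hp, hl', hl', hl']
        exact ⟨rfl, rfl, rfl, rfl⟩
      obtain ⟨v0, v1, v2, v4⟩ := hval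
      have step : ∀ k y, aff p k = σ k → aff p y = σ y → aff p (bx k y) = σ (bx k y) :=
        fun k y hk hy => by rw [aff_bx, hadd, hk, hy, v0]
      have v3 : aff p 3 = σ 3 := step 1 2 v1 v2
      have v5 : aff p 5 = σ 5 := step 1 4 v1 v4
      have v6 : aff p 6 = σ 6 := step 2 4 v2 v4
      have v7 : aff p 7 = σ 7 := step 1 6 v1 v6
      have hall : ∀ y, aff p y = σ y := fun y => by fin_cases y <;> assumption
      have hnd : ((List.finRange 8).map (aff p)).Nodup :=
        (List.nodup_finRange 8).map (fun a b h => σ.injective (by rwa [← hall, ← hall]))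
      have hperm : perm ⟨p, hnd⟩ = σ := Equiv.ext hall
      rcases S.eq_or_eq_mul_z (hLc ⟨p, hnd⟩) hxc (by rw [hLi, hperm]) with e | e
      · exact ⟨(⟨p, hnd⟩, false), Subtype.ext e.symm⟩
      · exact ⟨(⟨p, hnd⟩, true), Subtype.ext e.symm⟩
  rw [← Nat.card_eq_of_bijective f hf, Nat.card_prod, Nat.card_eq_fintype_card (α := Bool),
    Nat.card_eq_fintype_card, Fintype.card_subtype, card_aff]
  simp

/-- The order of the normaliser. -/
theorem card_normalizer (hfus : ∃ i : G, Commute i z ∧ i ≠ z ∧ IsConj z i) :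
    Nat.card (Subgroup.normalizer (regE S : Set G)) = 40320 := by
  classical
  let N := Subgroup.normalizer (regE S : Set G)
  have h1 := Subgroup.index_mul_card ((Subgroup.centralizer ({z} : Set G)).subgroupOf N)
  have hc : Nat.card ((Subgroup.centralizer ({z} : Set G)).subgroupOf N) = 2688 := by
    rw [← card_normalizer_inf S]
    refine Nat.card_congr
      { toFun := fun g => ⟨g.1.1, g.1.2, g.2⟩
        invFun := fun g => ⟨⟨g.1, g.2.1⟩, g.2.2⟩
        left_inv := fun g => rfl
        right_inv := fun g => rfl }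
  let T := {e : regE S // (e : G) ≠ 1}
  have hidx : ((Subgroup.centralizer ({z} : Set G)).subgroupOf N).index = 15 := by
    let f : ↥N ⧸ (Subgroup.centralizer ({z} : Set G)).subgroupOf N → T :=
      Quotient.lift (fun g : ↥N => ⟨⟨(g : G) * z * (g : G)⁻¹,
        (Subgroup.mem_normalizer_iff.1 g.2 z).1 (z_mem_regE S)⟩, fun h => S.z_ne_one (by
          rw [show z = (g : G)⁻¹ * ((g : G) * z * (g : G)⁻¹) * g by group]
          rw [show (g : G) * z * (g : G)⁻¹ = 1 from h, mul_one, inv_mul_cancel])⟩) fun a b hab => by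
        change (QuotientGroup.leftRel _).r a b at hab
        rw [QuotientGroup.leftRel_apply, Subgroup.mem_subgroupOf] at hab
        refine Subtype.ext (Subtype.ext ?_)
        show (a : G) * z * (a : G)⁻¹ = (b : G) * z * (b : G)⁻¹
        have hc' : ((a⁻¹ * b : ↥N) : G) * z = z * ((a⁻¹ * b : ↥N) : G) := (mem_cent.1 hab).eq
        calc (a : G) * z * (a : G)⁻¹ = a * (z * ((a : G)⁻¹ * b)) * (b : G)⁻¹ := by group
          _ = a * ((a : G)⁻¹ * b * z) * (b : G)⁻¹ := by
            rw [Subgroup.coe_mul, Subgroup.coe_inv] at hc'; rw [hc']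
          _ = b * z * (b : G)⁻¹ := by group
    have hb : Function.Bijective f := by
      refine ⟨?_, fun e => ?_⟩
      · rintro ⟨a⟩ ⟨b⟩ hab
        have h : (a : G) * z * (a : G)⁻¹ = (b : G) * z * (b : G)⁻¹ :=
          congrArg (fun e : T => ((e.1 : regE S) : G)) hab
        refine Quotient.sound ?_
        show (QuotientGroup.leftRel _).r a b
        rw [QuotientGroup.leftRel_apply, Subgroup.mem_subgroupOf]
        refine mem_cent.2 ?_
        show ((a⁻¹ * b : ↥N) : G) * z = z * ((a⁻¹ * b : ↥N) : G)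
        rw [Subgroup.coe_mul, Subgroup.coe_inv]
        calc (a : G)⁻¹ * b * z = (a : G)⁻¹ * ((b : G) * z * (b : G)⁻¹) * b := by group
          _ = (a : G)⁻¹ * ((a : G) * z * (a : G)⁻¹) * b := by rw [h]
          _ = z * ((a : G)⁻¹ * b) := by group
      · obtain ⟨g, hg, hge⟩ := exists_normalizer_conj S hfus e.1.2 e.2
        exact ⟨QuotientGroup.mk ⟨g, hg⟩, Subtype.ext (Subtype.ext hge)⟩
    rw [Subgroup.index, Nat.card_eq_of_bijective f hb]
    have := Fintype.ofFinite (regE S)
    have hone : Nat.card {e : regE S // (e : G) ≠ 1} = Nat.card {e : regE S // e ≠ 1} :=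
      Nat.card_congr (Equiv.subtypeEquivRight fun e => by simp)
    show Nat.card {e : regE S // (e : G) ≠ 1} = 15
    rw [hone, Nat.card_eq_fintype_card, Fintype.card_subtype_compl, Fintype.card_subtype_eq,
      ← Nat.card_eq_fintype_card, card_regE]
  rw [hidx, hc] at h1
  exact h1.symm

end

end CfsgLib.McLRecog
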