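import Cfsg.Agent.Lib.McLRecog.AffineInner
import Cfsg.Agent.Lib.NormalComplements.Gaschutz

/-!
An isomorphism of two centralisers of type `2·A₈` extends to the normalisers of `E`: the amalgam
formed by the centraliser and the normaliser is unique.
-/

set_option autoImplicit false

namespace CfsgLib.McLRecog

open Equiv CfsgLib.AltDoubleCent CfsgLib.Classes.AltCoverComm

universe u v

section

variable {G : Type u} [Group G] {z : G} (S : Setting G 8 z) [Finite G]

/-- The action of the normaliser on `E`. -/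
def act : Subgroup.normalizer (regE S : Set G) →* MulAut (regE S) :=
  (regE S).normalizerMonoidHom

omit [Finite G] in
theorem act_apply (n : Subgroup.normalizer (regE S : Set G)) (x : regE S) :
    (act S n x : G) = n * x * (n : G)⁻¹ := rfl

theorem ker_act : (act S).ker = (regE S).subgroupOf (Subgroup.normalizer (regE S : Set G)) := by
  rw [act, Subgroup.normalizerMonoidHom_ker, centralizer_regE]

theorem card_range_act (hfus : ∃ i : G, Commute i z ∧ i ≠ z ∧ IsConj z i) :
    Nat.card (act S).range = 2520 := by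
  have h := Subgroup.card_mul_index (act S).ker
  rw [Subgroup.index_ker, ker_act, Nat.card_congr
    (Subgroup.subgroupOfEquivOfLe (Subgroup.le_normalizer)).toEquiv, card_regE,
    card_normalizer S hfus] at h
  omega

/-- The action of the normaliser inside the centraliser. -/
def actC : innerN S →* MulAut (regE S) := (act S).comp (Subgroup.inclusion inf_le_left)

theorem card_range_actC : Nat.card (actC S).range = 168 := by
  have h := Subgroup.card_mul_index (actC S).ker
  have hk : (actC S).ker = (regE S).subgroupOf (innerN S) := by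
    ext x
    rw [MonoidHom.mem_ker, Subgroup.mem_subgroupOf]
    show act S (Subgroup.inclusion inf_le_left x) = 1 ↔ _
    rw [← MonoidHom.mem_ker, ker_act, Subgroup.mem_subgroupOf]
    rfl
  rw [Subgroup.index_ker, hk, Nat.card_congr
    (Subgroup.subgroupOfEquivOfLe (regE_le_innerN S)).toEquiv, card_regE] at h
  rw [show Nat.card (innerN S) = 2688 from card_normalizer_inf S] at h
  omega

theorem card_mulAut_le : Nat.card (MulAut (regE S)) ≤ 32760 := by
  classical
  have := Fintype.ofFinite (regE S)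
  let b : Fin 4 → regE S := ![⟨z, z_mem_regE S⟩, ⟨lift S 1, lift_mem S 1⟩, ⟨lift S 2, lift_mem S 2⟩,
    ⟨lift S 4, lift_mem S 4⟩]
  have hb : Function.Injective b := by
    have hz : S.img (b 0 : G) = tr 0 := by
      show S.img z = _
      rw [S.img_z, tr_zero]
    intro i j h
    have h' := congrArg (fun x : regE S => S.img (x : G)) h
    fin_cases i <;> fin_cases j <;> first
      | rfl
      | (exfalso; simp only [b] at h'; simp [img_lift, S.img_z] at h'
         first
          | exact absurd (tr_injective (tr_zero.trans h')) (by decide)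
          | exact absurd (tr_injective (h'.trans tr_zero.symm)) (by decide)
          | exact absurd (tr_injective h') (by decide))
  have hb1 : ∀ i, b i ≠ 1 := by
    intro i h
    have h' : (b i : G) = 1 := congrArg Subtype.val h
    fin_cases i
    · exact S.z_ne_one h'
    all_goals
      have h'' := congrArg S.img h'
      simp [b, img_lift, S.img_one] at h''
      exact absurd (tr_injective (h''.trans tr_zero.symm)) (by decide)
  let f : MulAut (regE S) → (Fin 4 ↪ {e : regE S // e ≠ 1}) := fun σ =>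
    ⟨fun i => ⟨σ (b i), fun h => hb1 i (σ.injective (h.trans (map_one σ).symm))⟩,
      fun i j h => hb (σ.injective (congrArg Subtype.val h))⟩
  have hf : Function.Injective f := by
    intro σ τ h
    have hh : ∀ i, σ (b i) = τ (b i) := fun i =>
      congrArg Subtype.val (DFunLike.congr_fun h i)
    let F := MonoidHom.eqLocus σ.toMonoidHom τ.toMonoidHom
    have hz : (⟨z, z_mem_regE S⟩ : regE S) ∈ F := hh 0
    have hlift : ∀ k : Fin 8, ∃ x ∈ F, S.img (x : G) = tr k := by
      have hmul : ∀ k l, (∃ x ∈ F, S.img (x : G) = tr k) → (∃ x ∈ F, S.img (x : G) = tr l) →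
          ∃ x ∈ F, S.img (x : G) = tr (bx k l) := by
        rintro k l ⟨x, hx, ex⟩ ⟨y, hy, ey⟩
        exact ⟨x * y, F.mul_mem hx hy, by
          rw [Subgroup.coe_mul, S.img_mul x.2.1 y.2.1, ex, ey, tr_mul]⟩
      have h0 : ∃ x ∈ F, S.img (x : G) = tr 0 := ⟨_, hz, by rw [S.img_z, tr_zero]⟩
      have h1 : ∃ x ∈ F, S.img (x : G) = tr 1 := ⟨b 1, hh 1, img_lift S 1⟩
      have h2 : ∃ x ∈ F, S.img (x : G) = tr 2 := ⟨b 2, hh 2, img_lift S 2⟩
      have h4 : ∃ x ∈ F, S.img (x : G) = tr 4 := ⟨b 3, hh 3, img_lift S 4⟩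
      have h3 := hmul 1 2 h1 h2
      have h5 := hmul 1 4 h1 h4
      have h6 := hmul 2 4 h2 h4
      have h7 := hmul 1 6 h1 h6
      intro k
      fin_cases k <;> assumption
    refine MulEquiv.ext fun x => (show x ∈ F from ?_)
    obtain ⟨hxc, k, hk⟩ := x.2
    obtain ⟨y, hy, ey⟩ := hlift k
    rcases S.eq_or_eq_mul_z y.2.1 hxc (by rw [ey, hk]) with e | e
    · rw [show x = y from Subtype.ext e]; exact hy
    · rw [show x = y * ⟨z, z_mem_regE S⟩ from Subtype.ext e]; exact F.mul_mem hy hz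
  refine (Nat.card_le_card_of_injective f hf).trans (le_of_eq ?_)
  rw [Nat.card_eq_fintype_card, Fintype.card_embedding_eq, Fintype.card_subtype_compl,
    Fintype.card_subtype_eq, ← Nat.card_eq_fintype_card, card_regE, Fintype.card_fin]
  rfl

/-- A second group of order 2520 containing the stabiliser of `z` contains the whole action. -/
theorem range_act_le (hfus : ∃ i : G, Commute i z ∧ i ≠ z ∧ IsConj z i)
    {B : Subgroup (MulAut (regE S))} (hB : Nat.card B = 2520) (hLB : (actC S).range ≤ B) :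
    (act S).range ≤ B := by
  classical
  let zE : regE S := ⟨z, z_mem_regE S⟩
  set D := (act S).range ⊓ B with hD
  have hLD : (actC S).range ≤ D := le_inf (by
    rintro _ ⟨h, rfl⟩
    exact ⟨_, rfl⟩) hLB
  have hcard : 168 < Nat.card D := by
    have h1 : B.relIndex (act S).range ≤ B.index := by
      rw [← Subgroup.relIndex_top_right]
      refine Subgroup.relIndex_le_of_le_right le_top ?_
      rw [Subgroup.relIndex_top_right]
      exact Subgroup.index_ne_zero_of_finite
    have h2 : Nat.card D * B.relIndex (act S).range = 2520 := by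
      rw [← card_range_act S hfus, ← Subgroup.inf_relIndex_left, hD,
        ← Subgroup.card_mul_index (((act S).range ⊓ B).subgroupOf (act S).range),
        Nat.card_congr (Subgroup.subgroupOfEquivOfLe inf_le_left).toEquiv]
      rfl
    have h3 : B.index ≤ 13 := by
      have h4 := B.card_mul_index
      have h5 := card_mulAut_le S
      rw [hB] at h4
      omega
    by_contra hle
    have := Nat.mul_le_mul (Nat.not_lt.1 hle) (h1.trans h3)
    omega
  obtain ⟨d1, hd1, hd1z⟩ : ∃ d ∈ D, d zE ≠ zE := by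
    by_contra hfix
    push Not at hfix
    have hle : D ≤ (actC S).range := fun d hd => by
      obtain ⟨n, rfl⟩ := (Subgroup.mem_inf.1 hd).1
      have hn : (n : G) * z * (n : G)⁻¹ = z :=
        congrArg Subtype.val (hfix _ hd)
      exact ⟨⟨n, n.2, mem_cent.2 (mul_inv_eq_iff_eq_mul.1 hn)⟩, rfl⟩
    have := Subgroup.card_le_of_le hle
    rw [card_range_actC] at this
    omega
  have hne1 : ∀ σ : MulAut (regE S), ((σ zE : regE S) : G) ≠ 1 := fun σ h =>
    S.z_ne_one (congrArg Subtype.val (σ.injective ((Subtype.ext h).trans (map_one σ).symm) :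
      zE = 1))
  obtain ⟨g1, hg1, hg1N, hg1e⟩ := exists_conj_lift S (d1 zE).2 (hne1 d1)
    (fun h => hd1z (Subtype.ext h))
  rintro _ ⟨n, rfl⟩
  have hmemL : ∀ g : G, Commute g z → ∀ hg : g ∈ Subgroup.normalizer (regE S : Set G),
      act S ⟨g, hg⟩ ∈ D := fun g hgc hg => hLD ⟨⟨g, hg, mem_cent.2 hgc⟩, rfl⟩
  obtain ⟨d, hd, hdz⟩ : ∃ d ∈ D, d zE = act S n zE := by
    by_cases hz : act S n zE = zE
    · exact ⟨1, one_mem _, by rw [hz]; rfl⟩
    obtain ⟨g2, hg2, hg2N, hg2e⟩ := exists_conj_lift S (act S n zE).2 (hne1 _)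
      (fun h => hz (Subtype.ext h))
    refine ⟨act S ⟨g2, hg2N⟩ * (act S ⟨g1, hg1N⟩)⁻¹ * d1,
      mul_mem (mul_mem (hmemL g2 hg2 hg2N) (inv_mem (hmemL g1 hg1 hg1N))) hd1, ?_⟩
    have e1 : (act S ⟨g1, hg1N⟩)⁻¹ (d1 zE) = ⟨lift S 1, lift_mem S 1⟩ := by
      apply (act S ⟨g1, hg1N⟩).injective
      rw [MulAut.apply_inv_self]
      exact Subtype.ext hg1e.symm
    rw [MulAut.mul_apply, MulAut.mul_apply, e1]
    exact Subtype.ext hg2e
  obtain ⟨m, hm⟩ := (Subgroup.mem_inf.1 hd).1
  have hmn : Commute ((m⁻¹ * n : Subgroup.normalizer (regE S : Set G)) : G) z := by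
    have h : act S (m⁻¹ * n) zE = zE := by
      rw [map_mul, map_inv, MulAut.mul_apply, ← hdz, hm, MulAut.inv_apply_self]
    exact mul_inv_eq_iff_eq_mul.1 (congrArg Subtype.val h)
  have hrest := hmemL _ hmn (m⁻¹ * n).2
  have : act S n = d * act S (m⁻¹ * n) := by
    rw [← hm, ← map_mul, mul_inv_cancel_left]
  rw [this]
  exact mul_mem (Subgroup.mem_inf.1 hd).2 (Subgroup.mem_inf.1 hrest).2

end

/-- An isomorphism of the centralisers compatible with the projections to `A₈` extends to the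
normalisers of the regular groups. -/
theorem exists_normalizer_equiv {G : Type u} [Group G] [Finite G] {z : G} (S : Setting G 8 z)
    {G' : Type v} [Group G'] [Finite G'] {z' : G'} (S' : Setting G' 8 z')
    (hfus : ∃ i : G, Commute i z ∧ i ≠ z ∧ IsConj z i)
    (hfus' : ∃ i : G', Commute i z' ∧ i ≠ z' ∧ IsConj z' i)
    (φ : Subgroup.centralizer ({z} : Set G) ≃* Subgroup.centralizer ({z'} : Set G'))
    (hφ : ∀ x, S'.img (φ x : G') = S.img (x : G)) :
    ∃ ψ : Subgroup.normalizer (regE S : Set G) ≃* Subgroup.normalizer (regE S' : Set G'),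
      ∀ (x : G) (hx : x ∈ Subgroup.normalizer (regE S : Set G))
        (hc : x ∈ Subgroup.centralizer ({z} : Set G)),
        (ψ ⟨x, hx⟩ : G') = φ ⟨x, hc⟩ := by
  classical
  have hφs : ∀ y, S.img (φ.symm y : G) = S'.img (y : G') := fun y => by
    rw [← hφ (φ.symm y), φ.apply_symm_apply]
  have hc : ∀ x : regE S, (x : G) ∈ Subgroup.centralizer ({z} : Set G) := fun x => mem_cent.2 x.2.1
  have hc' : ∀ x : regE S', (x : G') ∈ Subgroup.centralizer ({z'} : Set G') := fun x =>
    mem_cent.2 x.2.1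
  let e : regE S ≃* regE S' :=
    { toFun := fun x => ⟨φ ⟨x, hc x⟩, mem_cent.1 (φ ⟨x, hc x⟩).2, x.2.2.choose, by
        rw [hφ]; exact x.2.2.choose_spec⟩
      invFun := fun y => ⟨φ.symm ⟨y, hc' y⟩, mem_cent.1 (φ.symm ⟨y, hc' y⟩).2, y.2.2.choose, by
        rw [hφs]; exact y.2.2.choose_spec⟩
      left_inv := fun x => Subtype.ext (congrArg (fun c : Subgroup.centralizer ({z} : Set G) => (c : G))
        (φ.symm_apply_apply ⟨x, hc x⟩))
      right_inv := fun y => Subtype.ext (congrArg (fun c : Subgroup.centralizer ({z'} : Set G') => (c : G'))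
        (φ.apply_symm_apply ⟨y, hc' y⟩))
      map_mul' := fun x y => Subtype.ext (congrArg (fun c : Subgroup.centralizer ({z'} : Set G') => (c : G'))
        (map_mul φ ⟨x, hc x⟩ ⟨y, hc y⟩)) }
  have he : ∀ x : regE S, (e x : G') = φ ⟨x, hc x⟩ := fun x => rfl
  let N := Subgroup.normalizer (regE S : Set G)
  let N' := Subgroup.normalizer (regE S' : Set G')
  let a : N →* MulAut (regE S) := act S
  let b : N' →* MulAut (regE S) := (MulAut.congr e.symm).toMonoidHom.comp (act S')
  have hb : ∀ n x, b n x = e.symm (act S' n (e x)) := fun n x => rfl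
  have hφN : ∀ x : innerN S, (φ ⟨x, x.2.2⟩ : G') ∈ N' := fun x => by
    refine mem_normalizer_of_img S' (mem_cent.1 (φ _).2) fun k => ?_
    have hm := (Subgroup.mem_normalizer_iff.1 x.2.1 _).1 (lift_mem S k)
    obtain ⟨-, l, hl⟩ := hm
    rw [S.img_conj (mem_cent.1 x.2.2) (commute_lift S k), img_lift] at hl
    exact ⟨l, by rw [hφ]; exact hl⟩
  have hab : ∀ x : innerN S, b ⟨_, hφN x⟩ = a (Subgroup.inclusion inf_le_left x) := fun x => by
    refine MulEquiv.ext fun y => ?_
    rw [hb, MulEquiv.symm_apply_eq]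
    refine Subtype.ext ?_
    rw [he]
    show (φ ⟨x, x.2.2⟩ : G') * (φ ⟨y, hc y⟩ : G') * (φ ⟨x, x.2.2⟩ : G')⁻¹ = _
    rw [← Subgroup.coe_inv, ← Subgroup.coe_mul, ← Subgroup.coe_mul, ← map_inv, ← map_mul,
      ← map_mul]
    rfl
  have hbcard : Nat.card b.range = 2520 := by
    rw [show b.range = (act S').range.map (MulAut.congr e.symm).toMonoidHom from
      MonoidHom.range_comp _ _, Subgroup.card_map_of_injective (MulEquiv.injective _),
      card_range_act S' hfus']
  have hrange : a.range ≤ b.range :=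
    range_act_le S hfus hbcard (by rintro _ ⟨x, rfl⟩; exact ⟨⟨_, hφN x⟩, hab x⟩)
  let P : Subgroup (N × N') :=
    MonoidHom.eqLocus (a.comp (MonoidHom.fst N N')) (b.comp (MonoidHom.snd N N'))
  let π : P →* N := (MonoidHom.fst N N').comp P.subtype
  have hπ : Function.Surjective π := fun n => by
    obtain ⟨n', hn'⟩ := hrange ⟨n, rfl⟩
    exact ⟨⟨(n, n'), hn'.symm⟩, rfl⟩
  have hEN : regE S ≤ N := Subgroup.le_normalizer
  have hEN' : regE S' ≤ N' := Subgroup.le_normalizer
  let τ : regE S →* P :=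
    MonoidHom.codRestrict ((Subgroup.inclusion hEN).prod
      ((Subgroup.inclusion hEN').comp e.toMonoidHom)) P fun x => by
        show a (Subgroup.inclusion hEN x) = b (Subgroup.inclusion hEN' (e x))
        refine MulEquiv.ext fun y => ?_
        rw [hb]
        refine ((MulEquiv.symm_apply_eq e).2 ?_).symm
        refine Subtype.ext ?_
        show (e x : G') * e y * (e x : G')⁻¹ = _
        rw [← Subgroup.coe_inv, ← Subgroup.coe_mul, ← Subgroup.coe_mul, ← map_inv, ← map_mul,
          ← map_mul]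
        rfl
  have hτ1 : ∀ x, ((π (τ x) : N) : G) = x := fun x => rfl
  let D : Subgroup P := τ.range
  have hnorm : D.Normal := ⟨by
    rintro _ ⟨x, rfl⟩ p
    refine ⟨act S p.1.1 x, ?_⟩
    refine Subtype.ext (Prod.ext (Subtype.ext rfl) (Subtype.ext ?_))
    show (e (act S p.1.1 x) : G') = ((p.1.2 : N') : G') * e x * ((p.1.2 : N') : G')⁻¹
    have hp : a p.1.1 = b p.1.2 := p.2
    rw [show act S p.1.1 x = b p.1.2 x from DFunLike.congr_fun hp x, hb, e.apply_symm_apply]
    rfl⟩
  let q := QuotientGroup.mk' D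
  have hq : Function.Surjective q := QuotientGroup.mk'_surjective D
  let A0 : Subgroup P := π.ker
  let A : Subgroup (P ⧸ D) := A0.map q
  have hAn : A.Normal := Subgroup.Normal.map inferInstance q hq
  have hA0 : ∀ p ∈ A0, ((p.1.2 : N') : G') ∈ regE S' := fun p hp => by
    have h1 : p.1.1 = 1 := hp
    have hp2 : a p.1.1 = b p.1.2 := p.2
    rw [h1, map_one] at hp2
    have hk : act S' p.1.2 = 1 := (MulAut.congr e.symm).injective (by
      rw [map_one]; exact hp2.symm)
    rw [← MonoidHom.mem_ker, ker_act, Subgroup.mem_subgroupOf] at hk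
    exact hk
  have hAcomm : IsMulCommutative A := ⟨⟨by
    rintro ⟨_, x, hx, rfl⟩ ⟨_, y, hy, rfl⟩
    refine Subtype.ext ?_
    show q x * q y = q y * q x
    rw [← map_mul, ← map_mul]
    refine congrArg q (Subtype.ext (Prod.ext ?_ (Subtype.ext (commute_of_mem S' (hA0 x hx) (hA0 y hy)).eq)))
    show x.1.1 * y.1.1 = y.1.1 * x.1.1
    rw [show x.1.1 = 1 from hx, show y.1.1 = 1 from hy]⟩⟩
  let H0 : Subgroup P := ((Subgroup.centralizer ({z} : Set G)).subgroupOf N).comap π
  let H : Subgroup (P ⧸ D) := H0.map q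
  let T : Subgroup P :=
    { carrier := {p | ∃ h : ((p.1.1 : N) : G) ∈ Subgroup.centralizer ({z} : Set G),
        ((p.1.2 : N') : G') = φ ⟨_, h⟩}
      one_mem' := ⟨Subgroup.one_mem _, (congrArg Subtype.val (map_one φ)).symm⟩
      mul_mem' := by
        rintro x y ⟨hx, ex⟩ ⟨hy, ey⟩
        refine ⟨Subgroup.mul_mem _ hx hy, ?_⟩
        show ((x.1.2 : N') : G') * ((y.1.2 : N') : G') = _
        rw [ex, ey, ← Subgroup.coe_mul, ← map_mul]
        rfl
      inv_mem' := by
        rintro x ⟨hx, ex⟩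
        refine ⟨Subgroup.inv_mem _ hx, ?_⟩
        show ((x.1.2 : N') : G')⁻¹ = _
        rw [ex, ← Subgroup.coe_inv, ← map_inv]
        rfl }
  have hDT : D ≤ T := by rintro _ ⟨x, rfl⟩; exact ⟨hc x, rfl⟩
  have hDH : D ≤ H0 := fun p hp => (hDT hp).1
  have hTA : ∀ p ∈ T, p ∈ A0 → p = 1 := fun p ⟨h, ep⟩ hp => by
    have h1 : p.1.1 = 1 := hp
    refine Subtype.ext (Prod.ext h1 (Subtype.ext ?_))
    rw [ep]
    exact (congrArg Subtype.val (congrArg φ (Subtype.ext (congrArg (fun m : N => (m : G)) h1) :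
      (⟨_, h⟩ : Subgroup.centralizer ({z} : Set G)) = 1))).trans
      (congrArg Subtype.val (map_one φ))
  have hAH : A ≤ H := Subgroup.map_mono fun p hp => by
    show ((π p : N) : G) ∈ Subgroup.centralizer ({z} : Set G)
    rw [show π p = 1 from hp]
    exact one_mem _
  have hKH : T.map q ≤ H := Subgroup.map_mono fun p hp => hp.1
  have hdisj : T.map q ⊓ A = ⊥ := by
    rw [eq_bot_iff]
    rintro x ⟨⟨t, ht, rfl⟩, v, hv, hvt⟩
    have hd : t⁻¹ * v ∈ D := QuotientGroup.eq.1 hvt.symm
    have hvT : v ∈ T := by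
      rw [← mul_inv_cancel_left t v]
      exact T.mul_mem ht (hDT hd)
    rw [Subgroup.mem_bot, ← hvt, hTA v hvT hv, map_one]
  have hprod : H ≤ T.map q ⊔ A := by
    rw [← Subgroup.map_sup]
    refine Subgroup.map_mono fun p hp => ?_
    let x : innerN S := ⟨p.1.1, p.1.1.2, hp⟩
    have hab' := hab x
    let t : P := ⟨(p.1.1, ⟨_, hφN x⟩), hab'.symm⟩
    rw [← mul_inv_cancel_left t p]
    refine Subgroup.mul_mem_sup ⟨hp, rfl⟩ ?_
    show π (t⁻¹ * p) = 1
    rw [map_mul, map_inv]
    exact inv_mul_cancel _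
  have hidx : H.index = 15 := by
    rw [Subgroup.index_map_eq _ hq (by rw [QuotientGroup.ker_mk']; exact hDH)]
    show (Subgroup.comap π _).index = 15
    rw [Subgroup.index_comap_of_surjective _ hπ]
    have h1 := Subgroup.card_mul_index ((Subgroup.centralizer ({z} : Set G)).subgroupOf N)
    have hcard : Nat.card ((Subgroup.centralizer ({z} : Set G)).subgroupOf N) = 2688 := by
      rw [← card_normalizer_inf S]
      exact Nat.card_congr
        { toFun := fun g => ⟨g.1.1, g.1.2, g.2⟩
          invFun := fun g => ⟨⟨g.1, g.2.1⟩, g.2.2⟩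
          left_inv := fun g => rfl
          right_inv := fun g => rfl }
    rw [hcard, card_normalizer S hfus] at h1
    omega
  have hcop : (Nat.card A).Coprime H.index := by
    have hle : Nat.card A0 = 16 := by
      rw [← card_regE S']
      refine Nat.card_congr
        { toFun := fun p => ⟨_, hA0 p.1 p.2⟩
          invFun := fun y => ⟨⟨(1, ⟨y, Subgroup.le_normalizer y.2⟩), ?_⟩, rfl⟩
          left_inv := ?_
          right_inv := fun y => rfl }
      · show a 1 = b ⟨y, _⟩
        rw [map_one]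
        show (1 : MulAut (regE S)) = MulAut.congr e.symm (act S' ⟨y, _⟩)
        rw [show act S' ⟨(y : G'), Subgroup.le_normalizer y.2⟩ = 1 from by
          rw [← MonoidHom.mem_ker, ker_act]; exact y.2, map_one]
      · rintro ⟨p, hp⟩
        exact Subtype.ext (Subtype.ext (Prod.ext (show (1 : N) = p.1.1 from (hp : π p = 1).symm) rfl))
    have hd := Subgroup.card_map_dvd A0 q
    rw [hle] at hd
    rw [hidx]
    exact Nat.Coprime.coprime_dvd_left hd (by decide)
  obtain ⟨M0, hM0⟩ :=
    CfsgLib.NormalComplements.exists_isComplement'_of_coprime_index A H (T.map q) hAcomm hAH hKH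
      hdisj hprod hcop
  let M := M0.comap q
  have hMinj : ∀ p ∈ M, p.1.1 = 1 → p = 1 := fun p hp h1 => by
    have hq1 : q p ∈ M0 ⊓ A := ⟨hp, p, h1, rfl⟩
    rw [disjoint_iff.1 hM0.disjoint, Subgroup.mem_bot] at hq1
    obtain ⟨x, hx⟩ := (QuotientGroup.eq_one_iff p).1 hq1
    subst hx
    have : x = 1 := Subtype.ext (congrArg (fun m : N => (m : G)) h1)
    rw [this, map_one]
  have hMsurj : ∀ n : N, ∃ p ∈ M, p.1.1 = n := fun n => by
    obtain ⟨p, hp⟩ := hπ n
    have hsup : q p ∈ M0 ⊔ A := by rw [hM0.sup_eq_top]; exact Subgroup.mem_top _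
    obtain ⟨m, hm, v, ⟨w, hw, rfl⟩, hmv⟩ := Subgroup.mem_sup_of_normal_right.1 hsup
    refine ⟨p * w⁻¹, ?_, ?_⟩
    · show q (p * w⁻¹) ∈ M0
      rw [map_mul, map_inv, ← hmv, mul_inv_cancel_right]
      exact hm
    · show π (p * w⁻¹) = n
      rw [map_mul, map_inv, show π w = 1 from hw, inv_one, mul_one, hp]
  let ρ : M ≃* N := MulEquiv.ofBijective (π.comp M.subtype)
    ⟨fun x y hxy => Subtype.ext (by
      have h := hMinj _ (M.mul_mem x.2 (M.inv_mem y.2)) (by
        show π (x.1 * y.1⁻¹) = 1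
        rw [map_mul, map_inv, show π x.1 = π y.1 from hxy, mul_inv_cancel])
      exact mul_inv_eq_one.1 h),
      fun n => by obtain ⟨p, hp, e'⟩ := hMsurj n; exact ⟨⟨p, hp⟩, e'⟩⟩
  let ψ0 : N →* N' := ((MonoidHom.snd N N').comp (P.subtype.comp M.subtype)).comp ρ.symm.toMonoidHom
  have hψ : ∀ n, a n = b (ψ0 n) := fun n => by
    have h := (ρ.symm n).1.2
    have h1 : (ρ.symm n).1.1.1 = n := ρ.apply_symm_apply n
    have h2 : a (ρ.symm n).1.1.1 = b (ρ.symm n).1.1.2 := h
    rw [h1] at h2
    exact h2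
  have hψE : ∀ x : regE S, ψ0 (Subgroup.inclusion Subgroup.le_normalizer x) =
      Subgroup.inclusion Subgroup.le_normalizer (e x) := fun x => by
    have hxM : τ x ∈ M := by
      show q (τ x) ∈ M0
      rw [show q (τ x) = 1 from (QuotientGroup.eq_one_iff _).2 ⟨x, rfl⟩]
      exact one_mem _
    have : ρ.symm (Subgroup.inclusion Subgroup.le_normalizer x) = ⟨τ x, hxM⟩ :=
      ρ.symm_apply_eq.2 rfl
    show (ρ.symm _).1.1.2 = _
    rw [this]
    rfl
  have hinj : Function.Injective ψ0 := (injective_iff_map_eq_one ψ0).2 fun n hn => by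
    have h := hψ n
    rw [hn, map_one] at h
    have hnE : n ∈ (act S).ker := h
    rw [ker_act] at hnE
    have h2 := hψE ⟨n, hnE⟩
    rw [show Subgroup.inclusion Subgroup.le_normalizer (⟨n, hnE⟩ : regE S) = n from Subtype.ext rfl,
      hn] at h2
    have h3 : e ⟨n, hnE⟩ = 1 := Subtype.ext (congrArg (fun y : N' => (y : G')) h2).symm
    exact Subtype.ext (congrArg (fun y : regE S => (y : G)) (e.injective (h3.trans (map_one e).symm)))
  have hbij : Function.Bijective ψ0 := (Nat.bijective_iff_injective_and_card ψ0).2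
    ⟨hinj, by rw [card_normalizer S hfus, card_normalizer S' hfus']⟩
  have hz' : (e ⟨z, z_mem_regE S⟩ : G') = z' := by
    have h1 : S'.img (e ⟨z, z_mem_regE S⟩ : G') = 1 := by rw [he, hφ, S.img_z]
    rcases (S'.img_eq_one (e _).2.1).1 h1 with h | h
    · exact absurd (congrArg (fun y : regE S => (y : G))
        (e.injective ((Subtype.ext h).trans (map_one e).symm))) S.z_ne_one
    · exact h
  let incl : innerN S →* N := Subgroup.inclusion inf_le_left
  have hψc : ∀ x : innerN S, (ψ0 (incl x) : G') ∈ Subgroup.centralizer ({z'} : Set G') := fun x => by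
    refine mem_cent.2 ?_
    have hzN : (incl x) * Subgroup.inclusion Subgroup.le_normalizer ⟨z, z_mem_regE S⟩ =
        Subgroup.inclusion Subgroup.le_normalizer ⟨z, z_mem_regE S⟩ * incl x :=
      Subtype.ext (mem_cent.1 x.2.2).eq
    have h := congrArg (fun n : N => (ψ0 n : G')) hzN
    simp only [map_mul, hψE, Subgroup.coe_mul] at h
    rw [show ((Subgroup.inclusion Subgroup.le_normalizer (e ⟨z, z_mem_regE S⟩) : N') : G') = z'
      from hz'] at h
    exact h
  let α : innerN S →* G := (Subgroup.centralizer ({z} : Set G)).subtype.comp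
    (φ.symm.toMonoidHom.comp ((((N' : Subgroup G').subtype.comp ψ0).comp incl).codRestrict _ hψc))
  have hαE : ∀ x : innerN S, (x : G) ∈ regE S → α x = x := fun x hx => by
    show ((φ.symm ⟨(ψ0 (incl x) : G'), hψc x⟩) : G) = x
    have h1 : (⟨(ψ0 (incl x) : G'), hψc x⟩ : Subgroup.centralizer ({z'} : Set G')) =
        φ ⟨x, x.2.2⟩ := Subtype.ext (by
      show (ψ0 (incl x) : G') = _
      rw [show incl x = Subgroup.inclusion Subgroup.le_normalizer (⟨x, hx⟩ : regE S) from
        Subtype.ext rfl, hψE]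
      rfl)
    rw [h1, φ.symm_apply_apply]
  have hαm : ∀ x : innerN S, ∃ w ∈ regE S, α x = w * x := fun x => by
    have h1 : b (ψ0 (incl x)) = b ⟨_, hφN x⟩ := by rw [← hψ, hab]; rfl
    have h2 : ψ0 (incl x) * (⟨_, hφN x⟩ : N')⁻¹ ∈ (act S').ker := by
      refine (MulAut.congr e.symm).injective ?_
      rw [map_one]
      show b _ = 1
      rw [map_mul, map_inv, h1, mul_inv_cancel]
    rw [ker_act, Subgroup.mem_subgroupOf] at h2
    let y : regE S' := ⟨_, h2⟩
    refine ⟨e.symm y, (e.symm y).2, ?_⟩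
    show ((φ.symm ⟨(ψ0 (incl x) : G'), hψc x⟩) : G) = φ.symm ⟨y, hc' y⟩ * x
    have h3 : (⟨(ψ0 (incl x) : G'), hψc x⟩ : Subgroup.centralizer ({z'} : Set G')) =
        ⟨y, hc' y⟩ * φ ⟨x, x.2.2⟩ := Subtype.ext (by
      show (ψ0 (incl x) : G') = ((ψ0 (incl x) * (⟨_, hφN x⟩ : N')⁻¹ : N') : G') * _
      rw [Subgroup.coe_mul, Subgroup.coe_inv, inv_mul_cancel_right])
    rw [h3, map_mul, φ.symm_apply_apply]
    rfl
  obtain ⟨w, hw, hwx⟩ := exists_inner S α hαE hαm
  let w' : N := ⟨w, Subgroup.le_normalizer hw⟩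
  refine ⟨(MulAut.conj w'⁻¹ : MulAut N).trans (MulEquiv.ofBijective ψ0 hbij), fun x hx hxc => ?_⟩
  have hwN : w ∈ innerN S := regE_le_innerN S hw
  let x' : innerN S := ⟨x, hx, hxc⟩
  let w'' : innerN S := ⟨w, hwN⟩
  show (ψ0 (w'⁻¹ * ⟨x, hx⟩ * w'⁻¹⁻¹) : G') = _
  rw [inv_inv, show w'⁻¹ * ⟨x, hx⟩ * w' = incl (w''⁻¹ * x' * w'') from Subtype.ext rfl]
  have h1 := hwx (w''⁻¹ * x' * w'')
  simp only [Subgroup.coe_mul, Subgroup.coe_inv] at h1
  rw [show w * ((w'' : G)⁻¹ * (x' : G) * (w'' : G)) * w⁻¹ = x by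
    show w * (w⁻¹ * x * w) * w⁻¹ = x
    group] at h1
  have h2 : φ.symm ⟨(ψ0 (incl (w''⁻¹ * x' * w'')) : G'), hψc _⟩ =
      (⟨x, hxc⟩ : Subgroup.centralizer ({z} : Set G)) := Subtype.ext h1
  exact congrArg Subtype.val (φ.symm_apply_eq.1 h2)

end CfsgLib.McLRecog
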