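import Mathlib

/-!
# Fixed points of commuting elements, and fixed points of automorphisms of small groups

Counting lemmas for the bound on the subgroups of odd order of the McLaughlin group.
-/

set_option autoImplicit false
set_option linter.unusedSectionVars false

namespace CfsgLib.McLRecog.OddActions

open MulAction

/-- The number of fixed points. -/
noncomputable def fix {G : Type*} [Group G] (α : Type*) [MulAction G α] (g : G) : ℕ :=
  Nat.card {a : α // g • a = a}

/-- The number of common fixed points. -/
noncomputable def both {G : Type*} [Group G] (α : Type*) [MulAction G α] (g h : G) : ℕ :=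
  Nat.card {a : α // g • a = a ∧ h • a = a}

variable {G : Type*} [Group G] {α : Type*} [MulAction G α] [Finite α]

theorem both_comm (g h : G) : both α g h = both α h g :=
  Nat.card_congr (Equiv.subtypeEquivRight fun _ => and_comm)

theorem both_le (g h : G) : both α g h ≤ fix α g :=
  Nat.card_le_card_of_injective (fun a => (⟨a.1, a.2.1⟩ : {a : α // g • a = a}))
    fun _ _ e => Subtype.ext (congrArg (fun z => z.1) e)

theorem both_le' (g h : G) : both α g h ≤ fix α h := both_comm (α := α) g h ▸ both_le h g

theorem fix_conj (c g : G) : fix α (c * g * c⁻¹) = fix α g := by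
  refine (Nat.card_congr ((MulAction.toPerm c).subtypeEquiv fun a => ?_)).symm
  simp [mul_smul, smul_left_cancel_iff]

/-- An element of `p`-power order acts on the fixed points of an element it commutes with. -/
theorem both_modEq {g h : G} (hc : Commute g h) {p n : ℕ} (hp : p.Prime) (hh : h ^ p ^ n = 1) :
    both α g h ≡ fix α g [MOD p] := by
  classical
  have := Fintype.ofFinite α
  have := Fact.mk hp
  let σ : Equiv.Perm {a : α // g • a = a} := (MulAction.toPerm h).subtypeEquiv fun a => by
    show g • a = a ↔ g • (h • a) = h • a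
    rw [← mul_smul, hc.eq, mul_smul, smul_left_cancel_iff]
  have hσ : ∀ k, ∀ a : {a : α // g • a = a}, ((σ ^ k) a : α) = h ^ k • (a : α) := by
    intro k
    induction k with
    | zero => simp
    | succ k ih =>
      intro a
      rw [pow_succ', Equiv.Perm.mul_apply, pow_succ', mul_smul, ← ih a]
      rfl
  have h1 : σ ^ p ^ n = 1 := Equiv.ext fun a => Subtype.ext (by rw [hσ, hh, one_smul]; rfl)
  have h2 := Equiv.Perm.card_compl_support_modEq h1
  rw [← Nat.card_eq_fintype_card] at h2
  refine Nat.ModEq.trans (Nat.ModEq.symm ?_) h2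
  refine congrArg (· % p) ?_
  rw [both, Nat.card_eq_fintype_card, Fintype.card_subtype, ← Finset.card_map (Function.Embedding.subtype _)]
  congr 1
  ext a
  simp only [Finset.mem_map, Finset.mem_compl, Equiv.Perm.mem_support, not_not, Function.Embedding.coe_subtype,
    Finset.mem_filter, Finset.mem_univ, true_and]
  constructor
  · rintro ⟨b, hb, rfl⟩
    exact ⟨b.2, congrArg Subtype.val hb⟩
  · rintro ⟨hga, hha⟩
    exact ⟨⟨a, hga⟩, Subtype.ext hha, rfl⟩

theorem modEq_eq {p a b : ℕ} (h : a ≡ b [MOD p]) (ha : a < p) (hb : b < p) : a = b := by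
  unfold Nat.ModEq at h
  rwa [Nat.mod_eq_of_lt ha, Nat.mod_eq_of_lt hb] at h

/-- No group of order 81 acts on 275 points with each non-trivial element fixing five. -/
theorem no_five_fixers (R : Subgroup G) (hR : Nat.card R = 81) (hα : Nat.card α = 275)
    (h : ∀ r ∈ R, r ≠ 1 → fix α r = 5) : False := by
  classical
  have := Fintype.ofFinite α
  have : Finite R := Nat.finite_of_card_ne_zero (by rw [hR]; norm_num)
  have := Fintype.ofFinite R
  have hs := sum_card_fixedBy_eq_card_orbits_mul_card_group R α
  rw [← Nat.card_eq_fintype_card (α := R), hR,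
    ← Finset.add_sum_erase Finset.univ _ (Finset.mem_univ (1 : R))] at hs
  have h1 : Fintype.card (fixedBy α (1 : R)) = 275 := by
    rw [← Nat.card_eq_fintype_card, ← hα]
    exact Nat.card_congr ((Equiv.setCongr (by ext; simp)).trans (Equiv.Set.univ α))
  have h2 : ∀ r ∈ Finset.univ.erase (1 : R), Fintype.card (fixedBy α r) = 5 := by
    intro r hr
    rw [← Nat.card_eq_fintype_card, ← h r r.2 fun e => (Finset.ne_of_mem_erase hr) (Subtype.ext e)]
    rfl
  rw [h1, Finset.sum_congr rfl h2, Finset.sum_const, Finset.card_erase_of_mem (Finset.mem_univ _),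
    Finset.card_univ, ← Nat.card_eq_fintype_card, hR, smul_eq_mul] at hs
  omega

/-- Centralising part of a subgroup normalised by an element of `p`-power order. -/
theorem card_inf_centralizer_modEq {K : Subgroup G} [K.Normal] [Finite K] {x : G} {p k : ℕ} (hp : p.Prime)
    (hx : x ^ p ^ k = 1) :
    Nat.card (K ⊓ Subgroup.centralizer {x} : Subgroup G) ≡ Nat.card K [MOD p] := by
  classical
  have := Fintype.ofFinite K
  have := Fact.mk hp
  let σ : Equiv.Perm K := (MulAut.conjNormal x : MulAut K).toEquiv
  have hσ : σ ^ p ^ k = 1 := by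
    have : ∀ n, σ ^ n = ((MulAut.conjNormal (x ^ n) : MulAut K).toEquiv) := by
      intro n
      induction n with
      | zero => rw [pow_zero, pow_zero, map_one]; rfl
      | succ n ih =>
        rw [pow_succ, pow_succ, map_mul, ih]
        rfl
    rw [this, hx, map_one]
    rfl
  have h2 := Equiv.Perm.card_compl_support_modEq hσ
  rw [← Nat.card_eq_fintype_card] at h2
  refine Nat.ModEq.trans (congrArg (· % p) ?_) h2
  rw [← Finset.card_map (Function.Embedding.subtype _), ← Nat.card_eq_finsetCard]
  refine Nat.card_congr (Equiv.subtypeEquivRight fun y => ?_)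
  simp only [Finset.mem_map, Finset.mem_compl, Equiv.Perm.mem_support, not_not, Function.Embedding.coe_subtype,
    Subgroup.mem_inf, Subgroup.mem_centralizer_singleton_iff]
  constructor
  · rintro ⟨hy, hc⟩
    refine ⟨⟨y, hy⟩, Subtype.ext ?_, rfl⟩
    show x * y * x⁻¹ = y
    rw [← hc, mul_inv_cancel_right]
  · rintro ⟨b, hb, rfl⟩
    refine ⟨b.2, ?_⟩
    have : x * (b : G) * x⁻¹ = b := congrArg Subtype.val hb
    exact (mul_inv_eq_iff_eq_mul.1 this).symm

/-- A nilpotent-free way to centralise: no smaller power of `q` is congruent to the order of `K`. -/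
theorem centralizes_or {K : Subgroup G} [K.Normal] [Finite K] {x : G} {p q k n : ℕ} (hp : p.Prime)
    (hq : q.Prime) (hx : x ^ p ^ k = 1) (hK : Nat.card K = q ^ n) :
    ∃ m ≤ n, q ^ m % p = q ^ n % p ∧ Nat.card (K ⊓ Subgroup.centralizer {x} : Subgroup G) = q ^ m ∧
      (m = n → ∀ y ∈ K, Commute y x) := by
  obtain ⟨m, hm, hcard⟩ := (Nat.dvd_prime_pow hq).1
    (hK ▸ Subgroup.card_dvd_of_le (inf_le_left : K ⊓ Subgroup.centralizer {x} ≤ K))
  refine ⟨m, hm, ?_, hcard, fun e y hy => ?_⟩
  · have := card_inf_centralizer_modEq (K := K) hp hx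
    rwa [hcard, hK] at this
  · subst e
    have := Subgroup.eq_of_le_of_card_ge (inf_le_left : K ⊓ Subgroup.centralizer {x} ≤ K)
      (by rw [hcard, hK])
    exact Subgroup.mem_centralizer_singleton_iff.1 ((SetLike.ext_iff.1 this y).2 hy).2

end CfsgLib.McLRecog.OddActions
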