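import Cfsg.Agent.Lib.McLRecog.OddData
import Cfsg.Agent.Lib.SchurMult.McLTwoFive.Bound

/-!
# Fixed points of elements of odd prime order of the McLaughlin group

Sylow subgroups at 3, 5 and 7 as explicit elements, with the numbers of their fixed points among the
275 points.
-/

set_option autoImplicit false
set_option maxRecDepth 100000
set_option Elab.async false
set_option linter.style.haveILetI false

namespace CfsgLib.McLRecog.OddCert

open CfsgLib.SchurMult CfsgLib.SchurMult.PermCert
open CfsgLib.Mathieu.McLOut (KG natCard_KG)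
open CfsgLib.SchurMult.McLTwoFive (tbl rep el realises)
open CfsgLib.SporRecognition.CosetCert (allBelow allBelow_spec field)
open OddData (gens genWords rels)

/-- The number of fixed points of a word. -/
noncomputable def fixCount (T : Tables) (w : List ℕ) : ℕ :=
  (List.range 275).countP fun u => Nat.beq (T.imgW w u) u

theorem card_fixed {G : Type*} [Group G] {σ : G →* Equiv.Perm (Fin 275)} {f : ℕ → G} {T : Tables}
    (h : T.Realises σ f) {w : List ℕ} (hw : ∀ i ∈ w, i < T.ts.length) :
    Nat.card {u : Fin 275 // σ (lprod f w) u = u} = fixCount T w := by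
  rw [Nat.card_eq_fintype_card, Fintype.card_subtype, fixCount, List.countP_eq_length_filter,
    ← List.toFinset_card_of_nodup (List.nodup_range.filter _),
    ← Finset.card_map ⟨Fin.val, Fin.val_injective⟩]
  congr 1
  ext u
  simp only [Finset.mem_map, Finset.mem_filter, Finset.mem_univ, true_and,
    Function.Embedding.coeFn_mk, List.mem_toFinset, List.mem_filter, List.mem_range]
  constructor
  · rintro ⟨v, hv, rfl⟩
    refine ⟨v.2, ?_⟩
    rw [← h.imgW w hw v, hv]
    exact Nat.beq_refl _
  · rintro ⟨hu, he⟩
    exact ⟨⟨u, hu⟩, Fin.ext ((h.imgW w hw ⟨u, hu⟩).trans (Nat.eq_of_beq_eq_true he)), rfl⟩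

/-! ### The Sylow subgroup at 3 -/

/-- The generators. -/
noncomputable def gen (i : ℕ) : KG := lprod el (genWords.getD i [])

theorem gen_check : (List.range 6).all (fun i =>
    ((genWords.getD i []).all fun j => decide (j < tbl.ts.length)) &&
      allBelow 9 275 fun u => Nat.beq (tbl.imgW (genWords.getD i []) u) (gens.img i u)) = true := by
  decide +kernel

theorem gens_realises : gens.Realises rep gen where
  deg := rfl
  inj := realises.inj
  img i hi u := by
    have h := List.all_eq_true.1 gen_check i (List.mem_range.2 hi)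
    simp only [Bool.and_eq_true, List.all_eq_true, decide_eq_true_eq] at h
    rw [gen, realises.imgW _ h.1]
    exact Nat.eq_of_beq_eq_true (allBelow_spec h.2 u u.2)

/-- The normal forms in the first `i` generators. -/
def nfWords : ℕ → List (List ℕ)
  | 0 => [[]]
  | i + 1 => (nfWords i).flatMap fun w => [w, w ++ [i], w ++ [i, i]]

/-- The words of a relation. -/
noncomputable def relCheck : Bool :=
  rels.all fun r => (r.2.2.all fun k => Nat.blt k r.1) &&
    bif Nat.beq r.1 r.2.1 then gens.sameWord [r.1, r.1, r.1] r.2.2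
    else gens.sameWord [r.1, r.2.1] (r.2.2 ++ [r.1])

theorem relCheck_ok : relCheck = true := by decide +kernel

theorem rels_cover : ∀ i < 6, ∀ j ≤ i, ∃ w, (i, j, w) ∈ rels := by
  have h : ∀ i < 6, ∀ j ≤ i, (rels.any fun r => Nat.beq r.1 i && Nat.beq r.2.1 j) = true := by decide +kernel
  intro i hi j hj
  obtain ⟨⟨a, b, w⟩, hr, he⟩ := List.any_eq_true.1 (h i hi j hj)
  rw [Bool.and_eq_true] at he
  obtain rfl : a = i := Nat.eq_of_beq_eq_true he.1
  obtain rfl : b = j := Nat.eq_of_beq_eq_true he.2
  exact ⟨w, hr⟩

/-- A generator lies outside the span of the earlier ones. -/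
noncomputable def newCheck : Bool :=
  (List.range 6).all fun i => (nfWords i).all fun w =>
    !(Nat.beq (gens.imgW w 1) (gens.img i 1) && Nat.beq (gens.imgW w 2) (gens.img i 2))

theorem newCheck_ok : newCheck = true := by decide +kernel

theorem nfWords_lt : ∀ (n : ℕ), ∀ w ∈ nfWords n, ∀ i ∈ w, i < n
  | 0, w, hw => by simp_all [nfWords]
  | n + 1, w, hw => by
    simp only [nfWords, List.mem_flatMap, List.mem_cons, List.not_mem_nil, or_false] at hw
    obtain ⟨v, hv, hw⟩ := hw
    have ih := nfWords_lt n v hv
    intro i hi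
    rcases hw with rfl | rfl | rfl
    · exact (ih i hi).trans (Nat.lt_succ_self n)
    all_goals
      rcases List.mem_append.1 hi with hi | hi
      · exact (ih i hi).trans (Nat.lt_succ_self n)
      · simp only [List.mem_cons, List.not_mem_nil, or_false] at hi
        omega

/-- The span of the first `n` generators. -/
noncomputable def span (n : ℕ) : Subgroup KG := Subgroup.closure {x | ∃ i < n, gen i = x}

theorem gen_mem {i n : ℕ} (h : i < n) : gen i ∈ span n := Subgroup.subset_closure ⟨i, h, rfl⟩

theorem exists_nf : ∀ (n : ℕ), n ≤ 6 → Nat.card (span n) = 3 ^ n ∧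
    ∀ x ∈ span n, ∃ w ∈ nfWords n, lprod gen w = x := by
  intro n
  induction n with
  | zero =>
    intro _
    have h0 : span 0 = ⊥ := by simp [span]
    refine ⟨by rw [h0, Subgroup.card_bot, pow_zero], fun x hx => ⟨[], by simp [nfWords], ?_⟩⟩
    rw [h0, Subgroup.mem_bot] at hx
    simp [lprod, hx]
  | succ n ih =>
    intro hn
    obtain ⟨hc, hnf⟩ := ih (by omega)
    set H := span n
    set g := gen n with hg
    have hrel : ∀ j ≤ n, ∃ w : List ℕ, (∀ k ∈ w, k < n) ∧
        ((j = n → g * g * g = lprod gen w) ∧ (j ≠ n → g * gen j = lprod gen w * g)) := by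
      intro j hj
      obtain ⟨w, hw⟩ := rels_cover n (by omega) j hj
      have h := List.all_eq_true.1 relCheck_ok _ hw
      simp only [Bool.and_eq_true, List.all_eq_true, Nat.blt_eq] at h
      refine ⟨w, h.1, fun e => ?_, fun e => ?_⟩
      · subst j
        have h2 := h.2
        rw [show Nat.beq n n = true from Nat.beq_refl n, cond_true] at h2
        have := gens_realises.eq_of_sameWord h2
        simpa [lprod, ← hg, mul_assoc] using this
      · have h2 := h.2
        rw [show Nat.beq n j = false from Bool.eq_false_iff.2 fun c => e (Nat.eq_of_beq_eq_true c).symm,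
          cond_false] at h2
        have := gens_realises.eq_of_sameWord h2
        simpa [lprod, lprod_append, ← hg] using this
    have hconj : ∀ x ∈ H, g * x * g⁻¹ ∈ H := by
      intro x hx
      have hle : H ≤ H.comap (MulAut.conj g).toMonoidHom := by
        refine (Subgroup.closure_le _).2 ?_
        rintro _ ⟨j, hj, rfl⟩
        obtain ⟨w, hw, -, he⟩ := hrel j hj.le
        change g * gen j * g⁻¹ ∈ H
        rw [he hj.ne, mul_inv_cancel_right]
        exact Tables.lprod_mem fun k hk => gen_mem (hw k hk)
      exact hle hx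
    have hcube : g * g * g ∈ H := by
      obtain ⟨w, hw, he, -⟩ := hrel n le_rfl
      rw [he rfl]
      exact Tables.lprod_mem fun k hk => gen_mem (hw k hk)
    have hout : g ∉ H := by
      intro hmem
      obtain ⟨w, hw, he⟩ := hnf g hmem
      have h := List.all_eq_true.1 (List.all_eq_true.1 newCheck_ok n (List.mem_range.2 (by omega))) w hw
      have hlen : gens.ts.length = 6 := rfl
      have e : ∀ u : Fin 275, gens.imgW w u = gens.img n u := fun u => by
        rw [← gens_realises.imgW w (fun k hk => by rw [hlen]; have := nfWords_lt n w hw k hk; omega) u, he, hg,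
          gens_realises.img n (by rw [hlen]; omega)]
      have e1 := e (1 : Fin 275)
      have e2 := e (2 : Fin 275)
      simp only [Fin.val_one, Fin.val_two] at e1 e2
      rw [e1, e2] at h
      simp at h
    -- every element is a normal form
    have hall : ∀ x ∈ span (n + 1), ∃ h ∈ H, ∃ a : Fin 3, x = h * g ^ (a : ℕ) := by
      have hnorm : g ∈ Subgroup.normalizer (H : Set KG) := by
        rw [Subgroup.mem_normalizer_iff]
        intro x
        refine ⟨hconj x, fun hx => ?_⟩
        have h3 := hconj _ (hconj _ hx)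
        have h4 := H.mul_mem (H.mul_mem (H.inv_mem hcube) h3) hcube
        convert h4 using 1
        group
      intro x hx
      have hle : span (n + 1) ≤ H ⊔ Subgroup.zpowers g := by
        refine (Subgroup.closure_le _).2 ?_
        rintro _ ⟨j, hj, rfl⟩
        rcases Nat.lt_succ_iff_lt_or_eq.1 hj with hj | rfl
        · exact Subgroup.mem_sup_left (gen_mem hj)
        · exact Subgroup.mem_sup_right (Subgroup.mem_zpowers _)
      have hz : Subgroup.zpowers g ≤ Subgroup.normalizer (H : Set KG) := Subgroup.zpowers_le.2 hnorm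
      have hx' := hle hx
      rw [← SetLike.mem_coe, Subgroup.coe_mul_of_right_le_normalizer_left _ _ hz] at hx'
      obtain ⟨h, hh, y, hy, rfl⟩ := hx'
      obtain ⟨k, rfl⟩ := Subgroup.mem_zpowers_iff.1 hy
      refine ⟨h * (g ^ 3) ^ (k / 3), H.mul_mem hh (H.zpow_mem (by rwa [pow_three, ← mul_assoc]) _),
        ⟨(k % 3).toNat, by omega⟩, ?_⟩
      change h * g ^ k = h * (g ^ 3) ^ (k / 3) * g ^ (k % 3).toNat
      rw [mul_assoc, ← zpow_natCast g (k % 3).toNat, ← zpow_natCast g 3, ← zpow_mul, ← zpow_add]
      congr 2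
      omega
    refine ⟨?_, fun x hx => ?_⟩
    · let F : H × Fin 3 → span (n + 1) := fun z => ⟨z.1 * g ^ (z.2 : ℕ), mul_mem
        (Subgroup.closure_mono (show {x | ∃ i < n, gen i = x} ⊆ {x | ∃ i < n + 1, gen i = x} from
          fun y ⟨i, hi, he⟩ => ⟨i, hi.trans (Nat.lt_succ_self n), he⟩) z.1.2)
        (pow_mem (gen_mem (Nat.lt_succ_self n)) _)⟩
      have hF : Function.Bijective F := by
        refine ⟨?_, fun ⟨x, hx⟩ => ?_⟩
        · rintro ⟨⟨a, ha⟩, i⟩ ⟨⟨b, hb⟩, j⟩ h
          have h' : a * g ^ (i : ℕ) = b * g ^ (j : ℕ) := congrArg Subtype.val h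
          have h1 : a⁻¹ * b = g ^ (i : ℕ) * (g ^ (j : ℕ))⁻¹ := by
            calc a⁻¹ * b = a⁻¹ * (b * g ^ (j : ℕ)) * (g ^ (j : ℕ))⁻¹ := by group
              _ = _ := by rw [← h']; group
          have hm : g ^ (i : ℕ) * (g ^ (j : ℕ))⁻¹ ∈ H := h1 ▸ H.mul_mem (H.inv_mem ha) hb
          obtain rfl : i = j := by
            by_contra hij
            apply hout
            have hi2 := H.inv_mem hm
            fin_cases i <;> fin_cases j <;> simp at hm hi2 hij
            all_goals first
              | exact hm
              | (have h2 : g ^ 2 ∈ H := by first | exact hm | exact hi2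
                 have := H.mul_mem (H.inv_mem h2) hcube
                 rwa [pow_two, show (g * g)⁻¹ * (g * g * g) = g by group] at this)
              | (rw [pow_two] at hm hi2; simp at hm hi2; first | exact hm | exact hi2)
          rw [mul_inv_cancel] at h1
          obtain rfl : a = b := inv_mul_eq_one.1 h1
          rfl
        · obtain ⟨h, hh, a, rfl⟩ := hall x hx
          exact ⟨(⟨h, hh⟩, a), rfl⟩
      rw [← Nat.card_congr (Equiv.ofBijective F hF), Nat.card_prod, hc, Nat.card_fin, pow_succ]
    · obtain ⟨h, hh, a, rfl⟩ := hall x hx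
      obtain ⟨w, hw, rfl⟩ := hnf h hh
      refine ⟨w ++ List.replicate a n, ?_, ?_⟩
      · simp only [nfWords, List.mem_flatMap]
        refine ⟨w, hw, ?_⟩
        fin_cases a <;> simp [List.replicate]
      · rw [lprod_append]
        fin_cases a <;> simp [lprod, pow_two, List.replicate, hg]

/-- The allowed numbers of fixed points of the normal forms. -/
noncomputable def threeCheck : Bool :=
  (nfWords 6).all fun w =>
    let f := fixCount gens w
    Nat.beq f 275 || Nat.beq f 14 || Nat.beq f 5 || Nat.beq f 2

theorem threeCheck_ok : threeCheck = true := by decide +kernel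

theorem card_span_six : Nat.card (span 6) = 729 := by
  rw [(exists_nf 6 le_rfl).1]
  norm_num

theorem fixed_three {x : KG} (hx : x ∈ span 6) (hx1 : x ≠ 1) :
    Nat.card {u : Fin 275 // rep x u = u} ∈ ({2, 5, 14} : Finset ℕ) := by
  obtain ⟨w, hw, rfl⟩ := (exists_nf 6 le_rfl).2 x hx
  have hl : ∀ i ∈ w, i < gens.ts.length := fun i hi => nfWords_lt 6 w hw i hi
  have hc := card_fixed gens_realises hl
  have h := List.all_eq_true.1 threeCheck_ok w hw
  simp only [Bool.or_eq_true] at h
  rw [hc]
  rcases h with ((h | h) | h) | h <;> have h' := Nat.eq_of_beq_eq_true h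
  · exfalso
    refine hx1 (realises.inj (Equiv.ext fun u => ?_))
    rw [map_one, Equiv.Perm.one_apply]
    by_contra hu
    have hlt : Nat.card {u : Fin 275 // rep (lprod gen w) u = u} < 275 := by
      rw [Nat.card_eq_fintype_card]
      exact (Fintype.card_subtype_lt (p := fun v => rep (lprod gen w) v = v) hu).trans_eq (Fintype.card_fin _)
    omega
  all_goals simp [h']

theorem gens_not_comm : gen 3 * gen 0 ≠ gen 0 * gen 3 := by
  intro h
  have h1 := gens_realises.imgW [3, 0] (by decide) (1 : Fin 275)
  have h2 := gens_realises.imgW [0, 3] (by decide) (1 : Fin 275)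
  simp only [lprod, mul_one, Fin.val_one] at h1 h2
  rw [h, h2] at h1
  exact absurd h1 (by decide +kernel)

/-! ### The Sylow subgroup at 5 -/

/-- The fixed points of the words of the Sylow subgroup at 5. -/
noncomputable def fiveCheck : Bool :=
  SchurMult.McLTwoFive.Data.wordsFive.all fun w =>
    let f := fixCount tbl w
    Nat.beq f 275 || Nat.beq f 0 ||
      (Nat.beq f 5 && ((List.range 275).any fun u =>
        !(Nat.beq (tbl.imgW (w ++ [12]) u) (tbl.imgW (12 :: w) u)) ||
          !(Nat.beq (tbl.imgW (w ++ [13]) u) (tbl.imgW (13 :: w) u))))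

theorem fiveCheck_ok : fiveCheck = true := by decide +kernel

/-- The Sylow subgroup at 5. -/
noncomputable def five : Subgroup KG := Subgroup.closure {el 12, el 13}

theorem card_five_le : Nat.card five ≤ 125 := by
  have hrels := SchurMult.McLTwoFive.relsFive_ok
  simp only [SchurMult.McLTwoFive.relsFive, List.all_cons, List.all_nil, Bool.and_eq_true, and_true] at hrels
  obtain ⟨e1, ex, ey, ez, exz, eyz, -, -, -, -⟩ := hrels
  replace e1 := realises.eq_of_sameWord e1
  replace ex := realises.eq_of_sameWord ex
  replace ey := realises.eq_of_sameWord ey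
  replace ez := realises.eq_of_sameWord ez
  replace exz := realises.eq_of_sameWord exz
  replace eyz := realises.eq_of_sameWord eyz
  simp only [Tables.lprod_rep, lprod, mul_one] at e1 ex ey ez exz eyz
  have := SchurMult.McLTwoFive.finite_KG
  exact Tables.natCard_closure_le_cube (p := 5) (by norm_num) ex ey ez (by rw [e1]; group) exz eyz

theorem five_spec : Nat.card five = 125 ∧
    ∀ x ∈ five, ∃ w ∈ SchurMult.McLTwoFive.Data.wordsFive,
      (∀ i ∈ w, i < tbl.ts.length) ∧ lprod el w = x := by
  classical
  have := SchurMult.McLTwoFive.finite_KG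
  obtain ⟨hk, hlen, hl, hp⟩ := SchurMult.McLTwoFive.wordsFive_ok
  have hmem : ∀ w ∈ SchurMult.McLTwoFive.Data.wordsFive, lprod el w ∈ five := fun w hw =>
    Tables.lprod_mem fun i hi => by
      rcases hl w hw i hi with rfl | rfl
      · exact Subgroup.subset_closure (Or.inl rfl)
      · exact Subgroup.subset_closure (Or.inr rfl)
  have hge := realises.length_le_card hp hk five hmem
  rw [hlen] at hge
  have hcard : Nat.card five = 125 := le_antisymm card_five_le (by norm_num at hge ⊢; exact hge)
  refine ⟨hcard, fun x hx => ?_⟩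
  obtain ⟨hlt, hpw⟩ := tbl.keysIncr_spec _ hk
  let F : Fin SchurMult.McLTwoFive.Data.wordsFive.length → five :=
    fun k => ⟨lprod el SchurMult.McLTwoFive.Data.wordsFive[k.1], hmem _ (List.getElem_mem k.2)⟩
  have hF : Function.Injective F := by
    intro i j hij
    have e := realises.key_eq hp (hlt _ (List.getElem_mem i.2)) (hlt _ (List.getElem_mem j.2))
      (congrArg Subtype.val hij)
    rcases lt_trichotomy i.1 j.1 with hl | hl | hl
    · exact absurd e (List.pairwise_iff_getElem.1 hpw _ _ i.2 j.2 hl).ne
    · exact Fin.ext hl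
    · exact absurd e (List.pairwise_iff_getElem.1 hpw _ _ j.2 i.2 hl).ne'
  obtain ⟨k, hk'⟩ := (hF.bijective_of_nat_card_le (by rw [Nat.card_fin, hcard, hlen]; norm_num)).2 ⟨x, hx⟩
  exact ⟨_, List.getElem_mem k.2, hlt _ (List.getElem_mem k.2), congrArg Subtype.val hk'⟩

theorem fixed_five {x : KG} (hx : x ∈ five) (hx1 : x ≠ 1) :
    Nat.card {u : Fin 275 // rep x u = u} = 0 ∨
      Nat.card {u : Fin 275 // rep x u = u} = 5 ∧ ∃ y ∈ five, ¬ Commute x y := by
  obtain ⟨w, hw, hl, rfl⟩ := five_spec.2 x hx
  have hc := card_fixed realises hl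
  have h := List.all_eq_true.1 fiveCheck_ok w hw
  simp only [Bool.or_eq_true, Bool.and_eq_true, Bool.not_eq_true', List.any_eq_true, List.mem_range] at h
  rw [hc]
  rcases h with (h | h) | ⟨h, h'⟩
  · exfalso
    refine hx1 (realises.inj (Equiv.ext fun u => ?_))
    rw [map_one, Equiv.Perm.one_apply]
    by_contra hu
    have hlt : Nat.card {u : Fin 275 // rep (lprod el w) u = u} < 275 := by
      rw [Nat.card_eq_fintype_card]
      exact (Fintype.card_subtype_lt (p := fun v => rep (lprod el w) v = v) hu).trans_eq (Fintype.card_fin _)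
    have := Nat.eq_of_beq_eq_true h
    omega
  · exact Or.inl (Nat.eq_of_beq_eq_true h)
  · refine Or.inr ⟨Nat.eq_of_beq_eq_true h, ?_⟩
    obtain ⟨u, hu, h'⟩ := h'
    have key : ∀ i, i < tbl.ts.length → Nat.beq (tbl.imgW (w ++ [i]) u) (tbl.imgW (i :: w) u) = false →
        ¬ Commute (lprod el w) (el i) := by
      intro i hi hs hcomm
      refine Bool.eq_false_iff.1 hs ?_
      have h1 := realises.imgW (w ++ [i]) (by
        simp only [List.mem_append, List.mem_singleton]; rintro j (hj | rfl); exacts [hl j hj, hi]) ⟨u, hu⟩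
      have h2 := realises.imgW (i :: w) (by
        simp only [List.mem_cons]; rintro j (rfl | hj); exacts [hi, hl j hj]) ⟨u, hu⟩
      change Nat.beq (tbl.imgW (w ++ [i]) (⟨u, hu⟩ : Fin 275)) (tbl.imgW (i :: w) (⟨u, hu⟩ : Fin 275)) = true
      rw [← h1, ← h2, lprod_append]
      simp only [lprod, mul_one]
      rw [hcomm.eq]
      exact Nat.beq_refl _
    have hlen : (12 : ℕ) < tbl.ts.length ∧ 13 < tbl.ts.length := by decide +kernel
    rcases h' with h' | h'
    · exact ⟨el 12, Subgroup.subset_closure (Or.inl rfl), key 12 hlen.1 h'⟩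
    · exact ⟨el 13, Subgroup.subset_closure (Or.inr rfl), key 13 hlen.2 h'⟩

/-! ### An element of order 7 -/

theorem seven_check : tbl.sameWord (Tables.rep 33 7) [] = true ∧ fixCount tbl [33] = 2 ∧
    33 < tbl.ts.length := by decide +kernel

theorem seven_spec : orderOf (el 33) = 7 ∧ Nat.card {u : Fin 275 // rep (el 33) u = u} = 2 := by
  obtain ⟨h1, h2, h3⟩ := seven_check
  have hc := card_fixed realises (w := [33]) (by simpa using h3)
  simp only [lprod, mul_one, h2] at hc
  refine ⟨?_, hc⟩
  have := Fact.mk (show Nat.Prime 7 by norm_num)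
  refine orderOf_eq_prime ?_ fun e => ?_
  · have := realises.eq_of_sameWord h1
    rwa [Tables.lprod_rep] at this
  · rw [e, map_one] at hc
    simp at hc

end CfsgLib.McLRecog.OddCert
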