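import Cfsg.Agent.Lib.McLRecog.OddFacts
import Cfsg.Agent.Lib.McLRecog.OddActions
import Cfsg.Agent.Lib.RankThreeMcL.Model

/-!
# Facts about elements of odd order of the McLaughlin group on its 275 points
-/

set_option autoImplicit false
set_option linter.style.haveILetI false

namespace CfsgLib.McLRecog.OddPoints

open MulAction CfsgLib.RankThreeMcL CfsgLib.RankThreeRecog
open CfsgLib.Mathieu.McLOut (KG natCard_KG)
open CfsgLib.SchurMult.McLTwoFive (rep rep_injective finite_KG)
open OddActions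

/-- The group acts through its tables. -/
@[reducible] noncomputable def pointAction : MulAction KG (Fin 275) := MulAction.compHom (Fin 275) rep

attribute [local instance] pointAction

theorem smul_eq (x : KG) (u : Fin 275) : x • u = rep x u := rfl

theorem card_point (a : Fin 275) : Nat.card {x : KG // x • a = a} = 3265920 := by
  obtain ⟨g, hg⟩ := isPretransitive_mclS.exists_smul_eq a0 a
  rw [← natCard_stab]
  refine Nat.card_congr (Equiv.subtypeEquiv (equivS.trans (MulAut.conj g⁻¹)).toEquiv fun x => ?_)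
  show rep x a = a ↔ (g⁻¹ * equivS x * g⁻¹⁻¹) • a0 = a0
  rw [inv_inv, mul_smul, hg, mul_smul, inv_smul_eq_iff, hg]
  rfl

theorem card_pair {a b : Fin 275} (hab : a ≠ b) :
    Nat.card {x : KG // x • a = a ∧ x • b = b} = 29160 ∨
      Nat.card {x : KG // x • a = a ∧ x • b = b} = 20160 := by
  obtain ⟨g, hg⟩ := isPretransitive_mclS.exists_smul_eq a0 a
  set b' := g⁻¹ • b with hb'
  have hb'0 : b' ≠ a0 := fun e => hab (by rw [← hg, ← e, hb', smul_inv_smul])
  have he : Nat.card {x : KG // x • a = a ∧ x • b = b} =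
      Nat.card (stabilizer (stabilizer mclS a0) b') := by
    refine Nat.card_congr ((Equiv.subtypeEquiv (equivS.trans (MulAut.conj g⁻¹)).toEquiv
      (q := fun s : mclS => s • a0 = a0 ∧ s • b' = b') fun x => ?_).trans
      (Equiv.subtypeSubtypeEquivSubtypeInter _ _).symm)
    show rep x a = a ∧ rep x b = b ↔
      (g⁻¹ * equivS x * g⁻¹⁻¹) • a0 = a0 ∧ (g⁻¹ * equivS x * g⁻¹⁻¹) • b' = b'
    rw [inv_inv, mul_smul, mul_smul, mul_smul, mul_smul, hg, hb', smul_inv_smul, inv_smul_eq_iff, hg,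
      inv_smul_eq_iff, smul_inv_smul]
    rfl
  have hmul : (orbit (stabilizer mclS a0) b').ncard * Nat.card (stabilizer (stabilizer mclS a0) b') = 3265920 := by
    rw [← natCard_stab, ← Nat.card_coe_set_eq, Nat.card_congr (orbitEquivQuotientStabilizer _ b')]
    exact (Subgroup.card_eq_card_quotient_mul_card_subgroup _).symm
  rw [he]
  rcases (cover sub_mcl b').resolve_left hb'0 with h | h <;> rw [orbit_eq_iff.2 h] at hmul
  · rw [sub_mcl.near] at hmul
    left; omega
  · rw [sub_mcl.far] at hmul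
    right; omega

theorem exists_conj_mem {p n : ℕ} [Fact p.Prime] {P : Subgroup KG} (hP : Nat.card P = p ^ n)
    (hn : ¬ p ^ (n + 1) ∣ 898128000) {A : Subgroup KG} (hA : IsPGroup p A) :
    ∃ c : KG, ∀ x ∈ A, c * x * c⁻¹ ∈ P := by
  haveI := finite_KG
  have hidx : ¬ p ∣ P.index := fun h => hn (by
    rw [← natCard_KG, ← P.card_mul_index, hP, pow_succ]
    exact mul_dvd_mul_left _ h)
  let S : Sylow p KG := (IsPGroup.of_card hP).toSylow hidx
  obtain ⟨Q, hQ⟩ := hA.exists_le_sylow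
  obtain ⟨c, hc⟩ := MulAction.exists_smul_eq KG Q S
  refine ⟨c, fun x hx => ?_⟩
  have h1 : c * x * c⁻¹ ∈ ((c • Q : Sylow p KG) : Subgroup KG) := ⟨x, hQ hx, rfl⟩
  rw [hc] at h1
  exact h1

theorem conj_eq_one {c x : KG} (h : c * x * c⁻¹ = 1) : x = 1 := conj_eq_one_iff.1 h

theorem fix_three {x : KG} (hx1 : x ≠ 1) {k : ℕ} (hx : x ^ 3 ^ k = 1) :
    fix (Fin 275) x ∈ ({2, 5, 14} : Finset ℕ) := by
  haveI := finite_KG
  haveI : Fact (Nat.Prime 3) := ⟨Nat.prime_three⟩
  obtain ⟨j, -, hj⟩ := (Nat.dvd_prime_pow Nat.prime_three).1 (orderOf_dvd_of_pow_eq_one hx)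
  obtain ⟨c, hc⟩ := exists_conj_mem (p := 3) (n := 6) (P := OddCert.span 6) (by rw [OddCert.card_span_six]; norm_num)
    (by norm_num) (IsPGroup.of_card (p := 3) (n := j) (G := Subgroup.zpowers x) (by rw [Nat.card_zpowers, hj]))
  rw [← fix_conj c x]
  exact OddCert.fixed_three (hc x (Subgroup.mem_zpowers x)) fun e => hx1 (conj_eq_one e)

theorem not_comm_three {A : Subgroup KG} (hA : Nat.card A = 729) : ∃ x ∈ A, ∃ y ∈ A, ¬ Commute x y := by
  haveI := finite_KG
  haveI : Fact (Nat.Prime 3) := ⟨Nat.prime_three⟩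
  by_contra hcon
  push Not at hcon
  obtain ⟨c, hc⟩ := exists_conj_mem (p := 3) (n := 6) (P := OddCert.span 6) (by rw [OddCert.card_span_six]; norm_num)
    (by norm_num) (A := A) (IsPGroup.of_card (n := 6) (by rw [hA]; norm_num))
  have hmap : A.map (MulAut.conj c).toMonoidHom = OddCert.span 6 := by
    refine Subgroup.eq_of_le_of_card_ge ?_ ?_
    · rintro _ ⟨x, hx, rfl⟩
      exact hc x hx
    · rw [OddCert.card_span_six, Subgroup.card_map_of_injective (MulAut.conj c).injective, hA]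
  obtain ⟨x, hx, h3⟩ : OddCert.gen 3 ∈ A.map (MulAut.conj c).toMonoidHom := hmap ▸ OddCert.gen_mem (by norm_num)
  obtain ⟨y, hy, h0⟩ : OddCert.gen 0 ∈ A.map (MulAut.conj c).toMonoidHom := hmap ▸ OddCert.gen_mem (by norm_num)
  apply OddCert.gens_not_comm
  rw [← h3, ← h0, ← map_mul, ← map_mul, (hcon x hx y hy).eq]

theorem fix_five {x : KG} (hx : orderOf x = 5) : fix (Fin 275) x = 0 ∨ fix (Fin 275) x = 5 := by
  haveI := finite_KG
  haveI : Fact (Nat.Prime 5) := ⟨by norm_num⟩
  obtain ⟨c, hc⟩ := exists_conj_mem (p := 5) (n := 3) (P := OddCert.five) (by rw [OddCert.five_spec.1]; norm_num)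
    (by norm_num) (IsPGroup.of_card (p := 5) (n := 1) (G := Subgroup.zpowers x) (by rw [Nat.card_zpowers, hx, pow_one]))
  rw [← fix_conj c x]
  rcases OddCert.fixed_five (hc x (Subgroup.mem_zpowers x)) (fun e => by
      rw [conj_eq_one e, orderOf_one] at hx; norm_num at hx) with h | ⟨h, -⟩
  · exact Or.inl h
  · exact Or.inr h

/-- Central elements of Sylow subgroups at 5 are fixed-point free. -/
theorem fix_five_central {A : Subgroup KG} (hA : Nat.card A = 125) {x : KG} (hxA : x ∈ A) (hx : x ≠ 1)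
    (hc : ∀ y ∈ A, Commute x y) : fix (Fin 275) x = 0 := by
  haveI := finite_KG
  haveI : Fact (Nat.Prime 5) := ⟨by norm_num⟩
  obtain ⟨c, hc'⟩ := exists_conj_mem (p := 5) (n := 3) (P := OddCert.five) (by rw [OddCert.five_spec.1]; norm_num)
    (by norm_num) (A := A) (IsPGroup.of_card (n := 3) (by rw [hA]; norm_num))
  have hmap : A.map (MulAut.conj c).toMonoidHom = OddCert.five := by
    refine Subgroup.eq_of_le_of_card_ge ?_ ?_
    · rintro _ ⟨y, hy, rfl⟩
      exact hc' y hy
    · rw [OddCert.five_spec.1, Subgroup.card_map_of_injective (MulAut.conj c).injective, hA]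
  rw [← fix_conj c x]
  rcases OddCert.fixed_five (hc' x hxA) (fun e => hx (conj_eq_one e)) with h | ⟨-, y, hy, hne⟩
  · exact h
  · exfalso
    rw [← hmap] at hy
    obtain ⟨z, hz, rfl⟩ := hy
    exact hne ((hc z hz).map (MulAut.conj c).toMonoidHom)

theorem not_comm_five {A : Subgroup KG} (hA : Nat.card A = 125) : ∃ x ∈ A, ∃ y ∈ A, ¬ Commute x y := by
  haveI := finite_KG
  by_contra hcon
  push Not at hcon
  haveI : Fact (Nat.Prime 5) := ⟨by norm_num⟩
  obtain ⟨c, hc⟩ := exists_conj_mem (p := 5) (n := 3) (P := OddCert.five) (by rw [OddCert.five_spec.1]; norm_num)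
    (by norm_num) (A := A) (IsPGroup.of_card (n := 3) (by rw [hA]; norm_num))
  have hmap : A.map (MulAut.conj c).toMonoidHom = OddCert.five := by
    refine Subgroup.eq_of_le_of_card_ge ?_ ?_
    · rintro _ ⟨y, hy, rfl⟩
      exact hc y hy
    · rw [OddCert.five_spec.1, Subgroup.card_map_of_injective (MulAut.conj c).injective, hA]
  obtain ⟨x, hx, h12⟩ : CfsgLib.SchurMult.McLTwoFive.el 12 ∈ A.map (MulAut.conj c).toMonoidHom :=
    hmap ▸ Subgroup.subset_closure (Or.inl rfl)
  obtain ⟨y, hy, h13⟩ : CfsgLib.SchurMult.McLTwoFive.el 13 ∈ A.map (MulAut.conj c).toMonoidHom :=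
    hmap ▸ Subgroup.subset_closure (Or.inr rfl)
  have hxy := (hcon x hx y hy).map (MulAut.conj c).toMonoidHom
  rw [h12, h13] at hxy
  have h := List.all_eq_true.1 CfsgLib.SchurMult.McLTwoFive.relsFive_ok
    ([12, 13], [14, 13, 12]) (List.mem_cons_self ..)
  have h' := CfsgLib.SchurMult.McLTwoFive.realises.eq_of_sameWord h
  simp only [CfsgLib.SchurMult.lprod, mul_one] at h'
  rw [← hxy.eq] at h'
  exact CfsgLib.SchurMult.McLTwoFive.el_fourteen_ne_one (right_eq_mul.1 h')

theorem fix_seven {x : KG} (hx : orderOf x = 7) : fix (Fin 275) x = 2 := by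
  haveI := finite_KG
  haveI : Fact (Nat.Prime 7) := ⟨by norm_num⟩
  obtain ⟨h7, hf⟩ := OddCert.seven_spec
  set y := CfsgLib.SchurMult.McLTwoFive.el 33
  obtain ⟨c, hc⟩ := exists_conj_mem (p := 7) (n := 1) (P := Subgroup.zpowers y) (by rw [Nat.card_zpowers, h7, pow_one])
    (by norm_num) (IsPGroup.of_card (p := 7) (n := 1) (G := Subgroup.zpowers x) (by rw [Nat.card_zpowers, hx, pow_one]))
  rw [← fix_conj c x, ← hf]
  obtain ⟨k, hk⟩ := Subgroup.mem_zpowers_iff.1 (hc x (Subgroup.mem_zpowers x))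
  have hx' : orderOf (c * x * c⁻¹) = 7 := by
    rw [← hx]; exact orderOf_injective (MulAut.conj c).toMonoidHom (MulAut.conj c).injective x
  have heq : Subgroup.zpowers (c * x * c⁻¹) = Subgroup.zpowers y :=
    Subgroup.eq_of_le_of_card_ge (Subgroup.zpowers_le.2 ⟨k, hk⟩) (by rw [Nat.card_zpowers, Nat.card_zpowers, hx', h7])
  refine Nat.card_congr (Equiv.subtypeEquivRight fun u => ?_)
  have key : ∀ a b : KG, b ∈ Subgroup.zpowers a → a • u = u → b • u = u := by
    intro a b hb ha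
    exact (Subgroup.zpowers_le.2 (show a ∈ stabilizer KG u from ha) : Subgroup.zpowers a ≤ stabilizer KG u) hb
  exact ⟨key _ _ (heq ▸ Subgroup.mem_zpowers y), key _ _ (heq ▸ Subgroup.mem_zpowers (c * x * c⁻¹))⟩

theorem fix_eleven {x : KG} (hx : orderOf x = 11) : fix (Fin 275) x = 0 := by
  haveI := finite_KG
  rw [fix, Nat.card_eq_zero]
  refine Or.inl ⟨fun a => ?_⟩
  have h : x ∈ stabilizer KG a.1 := a.2
  have h2 := Subgroup.orderOf_dvd_natCard _ h
  rw [hx, show Nat.card (stabilizer KG a.1) = 3265920 from card_point a.1] at h2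
  norm_num at h2

end CfsgLib.McLRecog.OddPoints
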